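import Cfsg.Agent.Lib.CoprimeHeight.Omega

/-!
# Maps between elementary abelian sections
-/

set_option autoImplicit false

namespace CfsgLib.CoprimeHeight

open Subgroup CfsgLib.FixedFree
open scoped commutatorElement

universe u w

variable {X : Type u} [Group X]

theorem mem_normalizer_subgroupOf {A S : Subgroup X} {g : S}
    (hg : (g : X) ∈ normalizer (A : Set X)) : g ∈ normalizer (A.subgroupOf S : Set S) :=
  mem_normalizer_of_conj (fun x hx => show (g : X) * x * (g : X)⁻¹ ∈ A from conj_mem hg hx)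
    fun x hx => show (g : X)⁻¹ * x * g ∈ A from inv_conj_mem hg hx

theorem zpowers_subgroupOf {S : Subgroup X} {a : X} (ha : a ∈ S) :
    (zpowers a).subgroupOf S = zpowers (⟨a, ha⟩ : S) := by
  refine Subgroup.map_injective S.subtype_injective ?_
  rw [subgroupOf_map_subtype, inf_eq_left.2 (zpowers_le.2 ha), MonoidHom.map_zpowers]
  rfl

theorem commutator_subgroupOf {A B S : Subgroup X} (hA : A ≤ S) (hB : B ≤ S) :
    ⁅A.subgroupOf S, B.subgroupOf S⁆ = ⁅A, B⁆.subgroupOf S := by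
  refine Subgroup.map_injective S.subtype_injective ?_
  rw [map_commutator, subgroupOf_map_subtype, inf_eq_left.2 hA, subgroupOf_map_subtype,
    inf_eq_left.2 hB, subgroupOf_map_subtype, inf_eq_left.2 (commutator_le.2 fun a ha b hb => ?_)]
  exact mul_mem (mul_mem (mul_mem (hA ha) (hB hb)) (inv_mem (hA ha))) (inv_mem (hB hb))

theorem commutator_zpowers_subgroupOf {A S : Subgroup X} {a : X} (hA : A ≤ S) (ha : a ∈ S) :
    ⁅A.subgroupOf S, zpowers (⟨a, ha⟩ : S)⁆ = ⁅A, zpowers a⁆.subgroupOf S := by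
  rw [← zpowers_subgroupOf ha, commutator_subgroupOf hA (zpowers_le.2 ha)]

namespace SecAb

variable {p : ℕ} {A B : Subgroup X}

theorem eq_of_vec_eq (h : SecAb p A B) {M : Type w} [AddCommGroup M] (f : ∀ u, u ∈ A → M)
    (hmul : ∀ u v (hu : u ∈ A) (hv : v ∈ A), f (u * v) (mul_mem hu hv) = f u hu + f v hv)
    (hB : ∀ u (hu : u ∈ A), u ∈ B → f u hu = 0) {u v : X} {hu : u ∈ A} {hv : v ∈ A}
    (e : h.vec u hu = h.vec v hv) : f u hu = f v hv := by
  have key : ∀ t (ht : t ∈ A), t = u → f t ht = f u hu := by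
    intro t ht et
    subst et
    rfl
  rw [← key _ (mul_mem (mul_mem hu (inv_mem hv)) hv) (inv_mul_cancel_right u v),
    hmul _ _ (mul_mem hu (inv_mem hv)) hv, hB _ _ ((h.vec_eq_iff hu hv).1 e), zero_add]

/-- A linear map out of a section. -/
noncomputable def lift (h : SecAb p A B) {M : Type w} [AddCommGroup M] [Module (ZMod p) M]
    (f : ∀ u, u ∈ A → M)
    (hmul : ∀ u v (hu : u ∈ A) (hv : v ∈ A), f (u * v) (mul_mem hu hv) = f u hu + f v hv)
    (hB : ∀ u (hu : u ∈ A), u ∈ B → f u hu = 0) : h.Space →ₗ[ZMod p] M :=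
  AddMonoidHom.toZModLinearMap p (AddMonoidHom.mk'
    (fun x => f (h.exists_vec x).choose (h.exists_vec x).choose_spec.choose) fun x y => by
      rw [← hmul _ _ (h.exists_vec x).choose_spec.choose (h.exists_vec y).choose_spec.choose]
      refine h.eq_of_vec_eq f hmul hB ?_
      rw [h.vec_mul (h.exists_vec x).choose_spec.choose (h.exists_vec y).choose_spec.choose,
        (h.exists_vec x).choose_spec.choose_spec, (h.exists_vec y).choose_spec.choose_spec,
        (h.exists_vec (x + y)).choose_spec.choose_spec])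

theorem lift_vec (h : SecAb p A B) {M : Type w} [AddCommGroup M] [Module (ZMod p) M]
    {f : ∀ u, u ∈ A → M}
    {hmul : ∀ u v (hu : u ∈ A) (hv : v ∈ A), f (u * v) (mul_mem hu hv) = f u hu + f v hv}
    {hB : ∀ u (hu : u ∈ A), u ∈ B → f u hu = 0} {u : X} (hu : u ∈ A) :
    h.lift f hmul hB (h.vec u hu) = f u hu :=
  h.eq_of_vec_eq f hmul hB (h.exists_vec (h.vec u hu)).choose_spec.choose_spec

/-- The map induced by inclusions. -/
noncomputable def map (h : SecAb p A B) {A' B' : Subgroup X} (h' : SecAb p A' B') (hA : A ≤ A')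
    (hB : B ≤ B') : h.Space →ₗ[ZMod p] h'.Space :=
  h.lift (fun u hu => h'.vec u (hA hu)) (fun _ _ hu hv => h'.vec_mul (hA hu) (hA hv))
    fun _ hu hub => (h'.vec_eq_zero (hA hu)).2 (hB hub)

theorem map_vec (h : SecAb p A B) {A' B' : Subgroup X} (h' : SecAb p A' B') {hA : A ≤ A'}
    {hB : B ≤ B'} {u : X} (hu : u ∈ A) : h.map h' hA hB (h.vec u hu) = h'.vec u (hA hu) :=
  h.lift_vec hu

theorem map_injective (h : SecAb p A B) {A' B' : Subgroup X} (h' : SecAb p A' B') {hA : A ≤ A'}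
    {hB : B ≤ B'} (hinf : A ⊓ B' ≤ B) : Function.Injective (h.map h' hA hB) := by
  rw [injective_iff_map_eq_zero]
  intro x hx
  obtain ⟨u, hu, rfl⟩ := h.exists_vec x
  rw [h.map_vec, h'.vec_eq_zero] at hx
  exact (h.vec_eq_zero hu).2 (hinf ⟨hu, hx⟩)

theorem map_rep (h : SecAb p A B) {A' B' : Subgroup X} (h' : SecAb p A' B') {hA : A ≤ A'}
    {hB : B ≤ B'} {g : X} (hg : g ∈ grp A B) (hg' : g ∈ grp A' B') (x : h.Space) :
    h.map h' hA hB (h.rep ⟨g, hg⟩ x) = h'.rep ⟨g, hg'⟩ (h.map h' hA hB x) := by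
  obtain ⟨u, hu, rfl⟩ := h.exists_vec x
  rw [h.rep_vec, h.map_vec, h.map_vec, h'.rep_vec]

theorem toSub (h : SecAb p A B) (S : Subgroup X) :
    SecAb p (A.subgroupOf S) (B.subgroupOf S) where
  le := fun _ hx => h.le hx
  norm := fun _ hx => mem_normalizer_subgroupOf (h.norm hx)
  comm := fun _ hu _ hv => h.comm _ hu _ hv
  pow := fun _ hu => h.pow _ hu

theorem mem_sub {S : Subgroup X} (hS : A ≤ S) {u : X} (hu : u ∈ A) :
    (⟨u, hS hu⟩ : S) ∈ A.subgroupOf S := hu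

theorem mem_grp_sub {S : Subgroup X} {g : S} (hg : (g : X) ∈ grp A B) :
    g ∈ grp (A.subgroupOf S) (B.subgroupOf S) :=
  ⟨mem_normalizer_subgroupOf hg.1, mem_normalizer_subgroupOf hg.2⟩

/-- A section inside an overgroup. -/
noncomputable def mapSub (h : SecAb p A B) (S : Subgroup X) (hS : A ≤ S) :
    h.Space →ₗ[ZMod p] (h.toSub S).Space :=
  h.lift (fun u hu => (h.toSub S).vec ⟨u, hS hu⟩ (mem_sub hS hu))
    (fun u v hu hv => (h.toSub S).vec_mul (mem_sub hS hu) (mem_sub hS hv))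
    fun u hu hub => ((h.toSub S).vec_eq_zero (mem_sub hS hu)).2 hub

theorem mapSub_vec (h : SecAb p A B) {S : Subgroup X} {hS : A ≤ S} {u : X} (hu : u ∈ A) :
    h.mapSub S hS (h.vec u hu) = (h.toSub S).vec ⟨u, hS hu⟩ (mem_sub hS hu) :=
  h.lift_vec hu

theorem mapSub_injective (h : SecAb p A B) {S : Subgroup X} {hS : A ≤ S} :
    Function.Injective (h.mapSub S hS) := by
  rw [injective_iff_map_eq_zero]
  intro x hx
  obtain ⟨u, hu, rfl⟩ := h.exists_vec x
  rw [h.mapSub_vec, (h.toSub S).vec_eq_zero] at hx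
  exact (h.vec_eq_zero hu).2 hx

theorem mapSub_rep (h : SecAb p A B) {S : Subgroup X} {hS : A ≤ S} {g : X} (hg : g ∈ grp A B)
    (hgS : g ∈ S) (x : h.Space) :
    h.mapSub S hS (h.rep ⟨g, hg⟩ x) =
      (h.toSub S).rep ⟨⟨g, hgS⟩, mem_grp_sub hg⟩ (h.mapSub S hS x) := by
  obtain ⟨u, hu, rfl⟩ := h.exists_vec x
  rw [h.rep_vec, h.mapSub_vec, h.mapSub_vec, (h.toSub S).rep_vec]
  exact (h.toSub S).vec_congr _ _ rfl

/-- The image of a subgroup in the section. -/
noncomputable def imageSub (h : SecAb p A B) (S : Subgroup X) : Submodule (ZMod p) h.Space :=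
  AddSubgroup.toZModSubmodule p (show AddSubgroup h.Space from
    { carrier := {x | ∃ u, ∃ hu : u ∈ A, u ∈ S ∧ h.vec u hu = x}
      zero_mem' := ⟨1, one_mem A, one_mem S, h.vec_one⟩
      add_mem' := fun {x y} ⟨u, hu, huS, hux⟩ ⟨v, hv, hvS, hvy⟩ =>
        ⟨u * v, mul_mem hu hv, mul_mem huS hvS, by rw [h.vec_mul hu hv, hux, hvy]⟩
      neg_mem' := fun {x} ⟨u, hu, huS, hux⟩ =>
        ⟨u⁻¹, inv_mem hu, inv_mem huS, by rw [h.vec_inv hu, hux]⟩ })

theorem mem_imageSub (h : SecAb p A B) {S : Subgroup X} {x : h.Space} :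
    x ∈ h.imageSub S ↔ ∃ u, ∃ hu : u ∈ A, u ∈ S ∧ h.vec u hu = x := Iff.rfl

/-- If `S` contains the part of `B` in its range, membership of a class is membership. -/
theorem mem_of_vec_mem_imageSub (h : SecAb p A B) {S T : Subgroup X} (hST : S ≤ T)
    (hB : T ⊓ B ≤ S) {u : X} (hu : u ∈ A) (huT : u ∈ T) (hx : h.vec u hu ∈ h.imageSub S) : u ∈ S := by
  obtain ⟨v, hv, hvS, e⟩ := h.mem_imageSub.1 hx
  have h1 : u * v⁻¹ ∈ S := hB (mem_inf.2 ⟨mul_mem huT (inv_mem (hST hvS)), (h.vec_eq_iff hu hv).1 e.symm⟩)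
  have h2 := mul_mem h1 hvS
  rwa [inv_mul_cancel_right] at h2

variable [Finite X]

theorem commutator_le_top {Y : Subgroup X} (hY : Y ≤ grp A B) : ⁅A, Y⁆ ≤ A :=
  le_normalizer_iff_commutator_le_left.1 (hY.trans inf_le_left)

/-- Classes of commutators lie in the commutator part. -/
theorem vec_mem_commPart (h : SecAb p A B) [Fact p.Prime] {Y : Subgroup X} (hY : Y ≤ grp A B)
    {u : X} (hu : u ∈ A) (huY : u ∈ ⁅A, Y⁆) :
    h.vec u hu ∈ commPart h.rep (Y.subgroupOf (grp A B)) := by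
  let H : Subgroup X :=
    { carrier := {t | ∃ ht : t ∈ A, h.vec t ht ∈ commPart h.rep (Y.subgroupOf (grp A B))}
      one_mem' := ⟨one_mem A, by rw [h.vec_one]; exact zero_mem _⟩
      mul_mem' := fun {x y} ⟨hx, hx'⟩ ⟨hy, hy'⟩ =>
        ⟨mul_mem hx hy, by rw [h.vec_mul hx hy]; exact add_mem hx' hy'⟩
      inv_mem' := fun {x} ⟨hx, hx'⟩ => ⟨inv_mem hx, by rw [h.vec_inv hx]; exact neg_mem hx'⟩ }
  refine ((commutator_le.2 fun v hv y hy => ?_ : ⁅A, Y⁆ ≤ H) huY).choose_spec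
  have hm : ⁅y, v⁆ ∈ A := commutator_mem_of_normalizes (hY hy).1 hv
  rw [← commutatorElement_inv]
  refine inv_mem ⟨hm, ?_⟩
  rw [← h.rep_sub_vec ⟨y, hY hy⟩ hv]
  exact sub_mem_commPart _ (show (⟨y, hY hy⟩ : grp A B) ∈ Y.subgroupOf (grp A B) from hy) _

theorem exists_of_mem_commPart (h : SecAb p A B) [Fact p.Prime] {Y : Subgroup X}
    (hY : Y ≤ grp A B) {x : h.Space} (hx : x ∈ commPart h.rep (Y.subgroupOf (grp A B))) :
    ∃ u, ∃ hu : u ∈ A, u ∈ ⁅A, Y⁆ ∧ h.vec u hu = x := by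
  refine h.mem_imageSub.1 (Submodule.span_le.2 ?_ hx)
  rintro _ ⟨g, hg, z, rfl⟩
  obtain ⟨v, hv, rfl⟩ := h.exists_vec z
  rw [h.rep_sub_vec]
  refine h.mem_imageSub.2 ⟨_, _, ?_, rfl⟩
  rw [← commutatorElement_inv]
  exact inv_mem (commutator_mem_commutator hv hg)

theorem commPart_eq_top (h : SecAb p A B) [Fact p.Prime] {Y : Subgroup X} (hY : Y ≤ grp A B)
    (hgen : A ≤ ⁅A, Y⁆) : commPart h.rep (Y.subgroupOf (grp A B)) = ⊤ :=
  eq_top_iff.2 fun x _ => by
    obtain ⟨u, hu, rfl⟩ := h.exists_vec x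
    exact h.vec_mem_commPart hY hu (hgen hu)

/-- Fixed classes come from fixed elements. -/
theorem exists_centralizer (h : SecAb p A B) {a : X} (ha : a ∈ grp A B)
    (hcop : (Nat.card (zpowers a)).Coprime (Nat.card A)) (hsol : Group.IsSolvable B)
    {x : h.Space} (hx : h.rep ⟨a, ha⟩ x = x) :
    ∃ u, ∃ hu : u ∈ A, a * u = u * a ∧ h.vec u hu = x := by
  obtain ⟨u, hu, rfl⟩ := h.exists_vec x
  have hfix : ∀ b ∈ zpowers a, u⁻¹ * b * u * b⁻¹ ∈ B := by
    have hstep := (h.rep_fix_iff ⟨a, ha⟩ hu).1 hx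
    let H : Subgroup X :=
      { carrier := {b | b ∈ normalizer (B : Set X) ∧ ⁅b, u⁆ ∈ B}
        one_mem' := ⟨one_mem _, by rw [commutatorElement_one_left]; exact one_mem B⟩
        mul_mem' := fun {x y} hx hy => ⟨mul_mem hx.1 hy.1, by
          rw [show ⁅x * y, u⁆ = x * ⁅y, u⁆ * x⁻¹ * ⁅x, u⁆ by
            simp only [commutatorElement_def]; group]
          exact mul_mem (conj_mem hx.1 hy.2) hx.2⟩
        inv_mem' := fun {x} hx => ⟨inv_mem hx.1, by
          rw [show ⁅x⁻¹, u⁆ = x⁻¹ * ⁅x, u⁆⁻¹ * x by simp only [commutatorElement_def]; group]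
          exact inv_conj_mem hx.1 (inv_mem hx.2)⟩ }
    intro b hb
    have h1 : b ∈ H := (zpowers_le.2 (show a ∈ H from ⟨ha.2, hstep⟩)) hb
    have h2 := inv_conj_mem (h.norm hu) h1.2
    simpa [commutatorElement_def, mul_assoc] using h2
  obtain ⟨z, hz, hc⟩ := Coprime.exists_mem_centralizer_of_coset (zpowers_le.2 ha.1)
    (zpowers_le.2 ha.2) h.le hcop (Or.inr hsol) hu hfix
  refine ⟨u * z, mul_mem hu (h.le hz), mem_centralizer_iff.1 hc a (mem_zpowers a), ?_⟩
  rw [h.vec_mul hu (h.le hz), (h.vec_eq_zero (h.le hz)).2 hz, add_zero]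

end SecAb

end CfsgLib.CoprimeHeight
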