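import Cfsg.Agent.Lib.CoprimeHeight.TopFacts
import Cfsg.Agent.Lib.CoprimeHeight.SecMap

/-!
# Eigen-kernels at the last moved layer

On each `Q / rad N` every operator is `1` or `-1`, so commutators with what fixes `Φ` are trivial.
-/

set_option autoImplicit false

namespace CfsgLib.CoprimeHeight

open Subgroup CfsgLib.FixedFree CfsgLib.HallHigman Polynomial
open scoped commutatorElement TensorProduct

universe u v w z₁ z₂

section Linear

variable {F : Type z₁} [Field F] {M : Type z₂} [AddCommGroup M] [Module F M]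

theorem range_sub_one_eq_ker (h2 : (2 : F) ≠ 0) {Y : Module.End F M} (hY : Y * Y = 1) :
    LinearMap.range (Y - 1) = LinearMap.ker (Y + 1) := by
  have hYY : ∀ x, Y (Y x) = x := fun x => by rw [← Module.End.mul_apply, hY]; rfl
  ext x
  rw [LinearMap.mem_range, LinearMap.mem_ker, LinearMap.add_apply, Module.End.one_apply]
  constructor
  · rintro ⟨w, rfl⟩
    rw [LinearMap.sub_apply, Module.End.one_apply, map_sub, hYY]
    abel
  · intro hx
    refine ⟨(-(2⁻¹ : F)) • x, ?_⟩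
    rw [map_smul, LinearMap.sub_apply, Module.End.one_apply, eq_neg_of_add_eq_zero_left hx,
      show -x - x = (-(2 : F)) • x by rw [neg_smul, two_smul]; abel, smul_smul, neg_mul_neg,
      inv_mul_cancel₀ h2, one_smul]

variable [FiniteDimensional F M]

theorem finrank_split (h2 : (2 : F) ≠ 0) {Y : Module.End F M} (hY : Y * Y = 1) {W : Submodule F M}
    (hW : ∀ x ∈ W, Y x ∈ W) :
    Module.finrank F W = Module.finrank F (W ⊓ LinearMap.ker (Y + 1) : Submodule F M)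
      + Module.finrank F (W ⊓ LinearMap.ker (Y - 1) : Submodule F M) := by
  have hYY : ∀ x, Y (Y x) = x := fun x => by rw [← Module.End.mul_apply, hY]; rfl
  have hinf : (W ⊓ LinearMap.ker (Y + 1)) ⊓ (W ⊓ LinearMap.ker (Y - 1)) = ⊥ := by
    refine (Submodule.eq_bot_iff _).2 fun x hx => ?_
    have h1 := LinearMap.mem_ker.1 hx.1.2
    have h3 := LinearMap.mem_ker.1 hx.2.2
    rw [LinearMap.add_apply, Module.End.one_apply] at h1
    rw [LinearMap.sub_apply, Module.End.one_apply, sub_eq_zero] at h3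
    rw [h3, ← two_smul F x] at h1
    exact (smul_eq_zero.1 h1).resolve_left h2
  have hsup : (W ⊓ LinearMap.ker (Y + 1)) ⊔ (W ⊓ LinearMap.ker (Y - 1)) = W := by
    refine le_antisymm (sup_le inf_le_left inf_le_left) fun x hx => ?_
    rw [← inv_smul_smul₀ h2 x]
    refine Submodule.smul_mem _ _ ?_
    rw [two_smul, show x + x = (x - Y x) + (x + Y x) by abel]
    refine add_mem (Submodule.mem_sup_left ⟨sub_mem hx (hW x hx), LinearMap.mem_ker.2 ?_⟩)
      (Submodule.mem_sup_right ⟨add_mem hx (hW x hx), LinearMap.mem_ker.2 ?_⟩)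
    · rw [LinearMap.add_apply, Module.End.one_apply, map_sub, hYY]
      abel
    · rw [LinearMap.sub_apply, Module.End.one_apply, map_add, hYY]
      abel
  have h := Submodule.finrank_sup_add_finrank_inf_eq (W ⊓ LinearMap.ker (Y + 1))
    (W ⊓ LinearMap.ker (Y - 1))
  rw [hinf, hsup, finrank_bot, add_zero] at h
  exact h

/-- Two commuting involutions whose moved spaces all have dimension `0` or `d`. -/
theorem two_mul_finrank_part (h2 : (2 : F) ≠ 0) {Y₁ Y₂ : Module.End F M} (h1 : Y₁ * Y₁ = 1)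
    (h3 : Y₂ * Y₂ = 1) (hc : Y₁ * Y₂ = Y₂ * Y₁) {d : ℕ}
    (hd : ∀ Y ∈ ({Y₁, Y₂, Y₁ * Y₂} : Set (Module.End F M)),
      LinearMap.ker (Y + 1) = ⊥ ∨ Module.finrank F (LinearMap.ker (Y + 1)) = d)
    (hU : LinearMap.ker (Y₁ + 1) ≠ ⊥)
    (hT : LinearMap.ker (Y₁ - 1) ⊓ LinearMap.ker (Y₂ + 1) ≠ ⊥) :
    2 * Module.finrank F (LinearMap.ker (Y₁ - 1) ⊓ LinearMap.ker (Y₂ + 1) : Submodule F M) = d := by
  have hcc : ∀ x, Y₁ (Y₂ x) = Y₂ (Y₁ x) := fun x => LinearMap.congr_fun hc x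
  have hYY₁ : ∀ x, Y₁ (Y₁ x) = x := fun x => by rw [← Module.End.mul_apply, h1]; rfl
  have hYY₂ : ∀ x, Y₂ (Y₂ x) = x := fun x => by rw [← Module.End.mul_apply, h3]; rfl
  have mp : ∀ {Y : Module.End F M} {x : M}, x ∈ LinearMap.ker (Y + 1) ↔ Y x = -x := fun {Y x} => by
    rw [LinearMap.mem_ker, LinearMap.add_apply, Module.End.one_apply, add_eq_zero_iff_eq_neg]
  have mm : ∀ {Y : Module.End F M} {x : M}, x ∈ LinearMap.ker (Y - 1) ↔ Y x = x := fun {Y x} => by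
    rw [LinearMap.mem_ker, LinearMap.sub_apply, Module.End.one_apply, sub_eq_zero]
  obtain ⟨t, ht, ht0⟩ := Submodule.exists_mem_ne_zero_of_ne_bot hT
  have hne2 : LinearMap.ker (Y₂ + 1) ≠ ⊥ := fun e => ht0 ((Submodule.mem_bot F).1 (e ▸ ht.2))
  have hne12 : LinearMap.ker (Y₁ * Y₂ + 1) ≠ ⊥ := fun e => ht0 ((Submodule.mem_bot F).1 (e ▸ mp.2
    (by rw [Module.End.mul_apply, mp.1 ht.2, map_neg, mm.1 ht.1])))
  have e1 := (hd Y₁ (Or.inl rfl)).resolve_left hU
  have e2 := (hd Y₂ (Or.inr (Or.inl rfl))).resolve_left hne2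
  have e12 := (hd (Y₁ * Y₂) (Or.inr (Or.inr rfl))).resolve_left hne12
  rw [finrank_split h2 h3 fun x hx => mp.2 (by rw [hcc, mp.1 hx, map_neg])] at e1
  rw [finrank_split h2 h1 fun x hx => mp.2 (by rw [← hcc, mp.1 hx, map_neg])] at e2
  rw [finrank_split h2 h1 fun x hx => mp.2 (by
    rw [Module.End.mul_apply, ← hcc, ← Module.End.mul_apply Y₁ Y₂, mp.1 hx, map_neg])] at e12
  have a1 : LinearMap.ker (Y₂ + 1) ⊓ LinearMap.ker (Y₁ + 1)
      = LinearMap.ker (Y₁ + 1) ⊓ LinearMap.ker (Y₂ + 1) := inf_comm _ _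
  have a2 : LinearMap.ker (Y₁ * Y₂ + 1) ⊓ LinearMap.ker (Y₁ + 1)
      = LinearMap.ker (Y₁ + 1) ⊓ LinearMap.ker (Y₂ - 1) := by
    ext x
    simp only [Submodule.mem_inf, mp, mm, Module.End.mul_apply]
    constructor
    · rintro ⟨u, v⟩
      refine ⟨v, ?_⟩
      rw [hcc, v, map_neg] at u
      exact neg_injective u
    · rintro ⟨v, w⟩
      exact ⟨by rw [w, v], v⟩
  have a3 : LinearMap.ker (Y₁ * Y₂ + 1) ⊓ LinearMap.ker (Y₁ - 1)
      = LinearMap.ker (Y₁ - 1) ⊓ LinearMap.ker (Y₂ + 1) := by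
    ext x
    simp only [Submodule.mem_inf, mp, mm, Module.End.mul_apply]
    constructor
    · rintro ⟨u, v⟩
      refine ⟨v, ?_⟩
      rwa [hcc, v] at u
    · rintro ⟨v, w⟩
      exact ⟨by rw [w, map_neg, v], v⟩
  rw [a1, inf_comm (LinearMap.ker (Y₂ + 1)) (LinearMap.ker (Y₁ - 1))] at e2
  rw [a2, a3] at e12
  omega

end Linear

/-- A fixed-point-free map of prime order on a finite module. -/
theorem dvd_card_sub_one {q r : ℕ} [Fact q.Prime] [Fact r.Prime] {M : Type z₂} [AddCommGroup M]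
    [Module (ZMod q) M] [Finite M] {A : Module.End (ZMod q) M} (hAr : A ^ r = 1)
    (hA0 : ∀ x, A x = x → x = 0) {L : Submodule (ZMod q) M} (hL : ∀ x ∈ L, A x ∈ L) :
    r ∣ q ^ Module.finrank (ZMod q) L - 1 := by
  classical
  have := Fintype.ofFinite L
  let f : Function.End L := fun x => ⟨A x, hL x x.2⟩
  have hfk : ∀ (k : ℕ) (x : L), (((f ^ k : Function.End L) x : L) : M) = (A ^ k) x := by
    intro k
    induction k with
    | zero => intro x; simp; rfl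
    | succ k ih =>
      intro x
      rw [pow_succ' A, Module.End.mul_apply, ← ih, pow_succ']
      rfl
  have hfr : f ^ r ^ 1 = 1 := funext fun x => Subtype.ext (by
    rw [pow_one, hfk, hAr]; rfl)
  have h1 := Equiv.Perm.card_fixedPoints_modEq hfr
  have hcard1 : Fintype.card f.fixedPoints = 1 := by
    refine Fintype.card_eq_one_iff.2 ⟨⟨0, Subtype.ext (map_zero A)⟩, fun x => Subtype.ext ?_⟩
    exact Subtype.ext (hA0 _ (congrArg Subtype.val x.2))
  rw [hcard1, ← Nat.card_eq_fintype_card, Module.natCard_eq_pow_finrank (K := ZMod q),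
    Nat.card_zmod] at h1
  exact (Nat.modEq_iff_dvd' (Nat.one_le_pow _ _ (Fact.out : q.Prime).pos)).1 h1.symm

theorem SecAb.card_imageSub {X : Type w} [Group X] [Finite X] {p : ℕ} {A B : Subgroup X}
    (h : SecAb p A B) {S : Subgroup X} (hS : S ≤ A) : Nat.card (h.imageSub S) = B.relIndex S := by
  let φ : S →* Multiplicative h.Space :=
    { toFun := fun u => Multiplicative.ofAdd (h.vec u (hS u.2))
      map_one' := congrArg Multiplicative.ofAdd h.vec_one
      map_mul' := fun u v => congrArg Multiplicative.ofAdd (h.vec_mul (hS u.2) (hS v.2)) }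
  have hker : φ.ker = B.subgroupOf S := by
    ext u
    exact h.vec_eq_zero (hS u.2)
  show _ = (B.subgroupOf S).index
  rw [← hker, Subgroup.index_ker]
  refine Nat.card_congr ⟨fun x => ⟨Multiplicative.ofAdd x.1, ?_⟩,
    fun x => ⟨Multiplicative.toAdd x.1, ?_⟩, fun _ => rfl, fun _ => rfl⟩
  · obtain ⟨u, hu, huS, e⟩ := h.mem_imageSub.1 x.2
    exact ⟨⟨u, huS⟩, congrArg Multiplicative.ofAdd e⟩
  · obtain ⟨u, hu⟩ := x.2
    exact h.mem_imageSub.2 ⟨u, hS u.2, u.2, by rw [← hu]; rfl⟩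

variable {K : Type u} [Field K] {V : Type v} [AddCommGroup V] [Module K V] {Γ : Type w} [Group Γ]
  [Finite Γ] {Kb : Type z₁} [Field Kb] {Vb : Type z₂} [AddCommGroup Vb] [Module Kb Vb]

/-- The last moved layer together with an algebraically closed form of it. -/
structure TopExt (ρ : Representation K Γ V) (a : Γ) (r q s : ℕ) (Q Φ Y : Subgroup Γ)
    (τ : Representation Kb Γ Vb) : Prop where
  top : TopData ρ a r q s Q Φ Y
  sTwo : s = 2
  sq : ∀ y ∈ Y, ρ (y ^ 2) = 1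
  iff : ∀ g h, τ g = τ h ↔ ρ g = ρ h
  card : ∀ S : Subgroup Γ, S ≤ Q → (Nat.card S : Kb) ≠ 0
  nontriv : ∃ y ∈ Y, ρ y ≠ 1
  const : ∀ y ∈ Y, ∀ W : Submodule Kb Vb, W ≠ ⊥ → Q ≤ stabSub τ W → a ∈ stabSub τ W →
    y ∈ stabSub τ W → (∀ x ∈ W, x ∈ fixSub τ ⁅Q, zpowers y⁆ → x = 0) →
    ∃ (N : Subgroup Γ) (x : Vb) (b : ℕ), IsEigKer τ Φ N ∧ x ∈ W ∧ x ≠ 0 ∧
      (∀ z, z ∈ N ↔ z ∈ Φ ∧ τ z x = x) ∧ 1 ≤ b ∧ r * 2 = q ^ b + 1 ∧
      (radMod ⁅Q, zpowers y⁆ N).relIndex ⁅Q, zpowers y⁆ = q ^ b * q ^ b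

theorem TopData.topExt [FiniteDimensional K V] [Nontrivial V] {ρ : Representation K Γ V} {a : Γ}
    {r q s : ℕ} {Q Φ Y : Subgroup Γ} (T : TopData ρ a r q s Q Φ Y) :
    TopExt ρ a r q s Q Φ Y (extend (AlgebraicClosure K) ρ) := by
  obtain ⟨hs, hsq⟩ := T.squares
  subst hs
  refine ⟨T, rfl, hsq, fun g h => extend_eq_iff _ ρ g h, fun S hS => ?_, T.exists_ne_one,
    fun y hy W hW hQ ha hy' hfix => ?_⟩
  · rw [← map_natCast (algebraMap K (AlgebraicClosure K)), _root_.map_ne_zero]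
    exact T.layer.card_ne_zero hS
  · obtain ⟨N, x, b, h1, h2, h3, h4, h5, h6, -, h7⟩ := T.exists_constituent_y (m := 2) (e := 0) hy
      (by norm_num) (hsq y hy) hW hQ ha hy' (by rwa [pow_zero, pow_one])
    rw [pow_zero, pow_one] at h7
    exact ⟨N, x, b, h1, h2, h3, h4, h5, h6, h7⟩

/-- The eigenspace of `Φ` through `x`. -/
def eigSub (τ : Representation Kb Γ Vb) (Φ : Subgroup Γ) (x : Vb) : Submodule Kb Vb where
  carrier := {w | ∀ z ∈ Φ, ∀ c : Kb, τ z x = c • x → τ z w = c • w}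
  zero_mem' z _ c _ := by simp
  add_mem' {v w} hv hw z hz c hc := by rw [map_add, hv z hz c hc, hw z hz c hc, smul_add]
  smul_mem' k v hv z hz c hc := by rw [map_smul, hv z hz c hc, smul_comm]

omit [Finite Γ] in
theorem map_mem_eigSub {τ : Representation Kb Γ Vb} {Φ : Subgroup Γ} {x w : Vb} {g : Γ}
    (hg : ∀ z ∈ Φ, τ (z * g) = τ (g * z)) (hw : w ∈ eigSub τ Φ x) : τ g w ∈ eigSub τ Φ x :=
  fun z hz c hc => by
    rw [← rep_self_mul_apply, hg z hz, rep_self_mul_apply, hw z hz c hc, map_smul]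

namespace TopExt

variable {ρ : Representation K Γ V} {a : Γ} {r q s : ℕ} {Q Φ Y : Subgroup Γ}
  {τ : Representation Kb Γ Vb}

theorem eq_of (T : TopExt ρ a r q s Q Φ Y τ) {g h : Γ} (e : ρ g = ρ h) : τ g = τ h :=
  (T.iff g h).2 e

theorem cent_Y (T : TopExt ρ a r q s Q Φ Y τ) {y z : Γ} (hy : y ∈ Y) (hz : z ∈ Φ) :
    τ (z * y) = τ (y * z) := T.eq_of (T.top.phi_commutes hy hz).symm

theorem Q_le_normalizer (T : TopExt ρ a r q s Q Φ Y τ) {N : Subgroup Γ} (hN : IsEigKer τ Φ N) :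
    Q ≤ normalizer (N : Set Γ) := fun _ hu =>
  hN.mem_normalizer (T.top.layer.QΦ hu) fun _ hz => T.eq_of (T.top.layer.conj_rep hz hu)

theorem Y_le_normalizer (T : TopExt ρ a r q s Q Φ Y τ) {N : Subgroup Γ} (hN : IsEigKer τ Φ N) :
    Y ≤ normalizer (N : Set Γ) := fun _ hy =>
  hN.mem_normalizer (T.top.layer.E'Φ hy) fun _ hz => T.eq_of (T.top.layer.E'cent _ hy _ hz)

theorem a_mem_normalizer [FiniteDimensional K V] (T : TopExt ρ a r q s Q Φ Y τ) {N : Subgroup Γ}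
    (hN : IsEigKer τ Φ N) : a ∈ normalizer (N : Set Γ) :=
  hN.mem_normalizer T.top.layer.aΦ fun z hz => T.eq_of (by
    rw [map_mul, ← T.top.phi_a hz, ← map_mul, mul_assoc, mul_inv_cancel, mul_one])

theorem cent_N (T : TopExt ρ a r q s Q Φ Y τ) {N : Subgroup Γ} (hN : IsEigKer τ Φ N) {u z : Γ}
    (hu : u ∈ Q) (hz : z ∈ Φ) : ⁅u, z⁆ ∈ N :=
  hN.commutator_mem (T.top.layer.QΦ hu) hz (T.eq_of (T.top.layer.conj_rep hz hu))

theorem phi_le_rad (T : TopExt ρ a r q s Q Φ Y τ) {N : Subgroup Γ} (hN : IsEigKer τ Φ N) :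
    Φ ≤ radMod Q N := fun z hz => (mem_radMod (T.Q_le_normalizer hN)).2
  ⟨T.top.layer.ΦQ hz, fun u hu => by
    rw [← commutatorElement_inv]; exact inv_mem (T.cent_N hN hu hz)⟩

/-- `[Q, y]` is orthogonal to the centraliser of `y`. -/
theorem orth (T : TopExt ρ a r q s Q Φ Y τ) {N : Subgroup Γ} (hN : IsEigKer τ Φ N) {y c u : Γ}
    (hy : y ∈ Y) (hc : c ∈ Q) (hyc : y * c = c * y) (hu : u ∈ ⁅Q, zpowers y⁆) : ⁅u, c⁆ ∈ N := by
  have L := T.top.layer
  have hQN := T.Q_le_normalizer hN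
  let H : Subgroup Γ :=
    { carrier := {t | t ∈ Q ∧ ⁅t, c⁆ ∈ N}
      one_mem' := ⟨one_mem _, by rw [commutatorElement_one_left]; exact one_mem N⟩
      mul_mem' := fun {x z} hx hz => ⟨mul_mem hx.1 hz.1, by
        rw [show ⁅x * z, c⁆ = x * ⁅z, c⁆ * x⁻¹ * ⁅x, c⁆ by
          simp only [commutatorElement_def]; group]
        exact mul_mem (conj_mem (hQN hx.1) hz.2) hx.2⟩
      inv_mem' := fun {x} hx => ⟨inv_mem hx.1, by
        rw [show ⁅x⁻¹, c⁆ = x⁻¹ * ⁅x, c⁆⁻¹ * x by simp only [commutatorElement_def]; group]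
        exact inv_conj_mem (hQN hx.1) (inv_mem hx.2)⟩ }
  refine ((commutator_zpowers_le (L.E'Q hy) (H := H) fun v hv => ⟨?_, ?_⟩) hu).2
  · rw [← commutatorElement_inv]
    exact inv_mem (commutator_mem_of_normalizes (L.E'Q hy) hv)
  · have hz : ⁅v⁻¹, c⁆ ∈ Φ := L.der _ (inv_mem hv) _ hc
    have hn : ⁅y, ⁅v⁻¹, c⁆⁆ ∈ N :=
      hN.commutator_mem (L.E'Φ hy) hz (T.eq_of (L.E'cent _ hy _ hz))
    have e : ⁅y * v⁻¹ * y⁻¹, c⁆ = ⁅y, ⁅v⁻¹, c⁆⁆ * ⁅v⁻¹, c⁆ := by
      calc ⁅y * v⁻¹ * y⁻¹, c⁆ = y * v⁻¹ * (y⁻¹ * c * y) * v * y⁻¹ * c⁻¹ := by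
            simp only [commutatorElement_def]; group
        _ = y * v⁻¹ * c * v * y⁻¹ * c⁻¹ := by
            rw [show y⁻¹ * c * y = c by rw [mul_assoc, ← hyc, inv_mul_cancel_left]]
        _ = y * ⁅v⁻¹, c⁆ * (c * y⁻¹ * c⁻¹) := by simp only [commutatorElement_def]; group
        _ = y * ⁅v⁻¹, c⁆ * y⁻¹ := by
            rw [show c * y⁻¹ * c⁻¹ = y⁻¹ by
              rw [show c * y⁻¹ = y⁻¹ * c from
                (Commute.inv_right (show Commute c y from hyc.symm)).eq, mul_inv_cancel_right]]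
        _ = ⁅y, ⁅v⁻¹, c⁆⁆ * ⁅v⁻¹, c⁆ := by simp only [commutatorElement_def]; group
    show ⁅⁅v, y⁆, c⁆ ∈ N
    rw [show ⁅⁅v, y⁆, c⁆ = v * ⁅y * v⁻¹ * y⁻¹, c⁆ * v⁻¹ * ⁅v, c⁆ by
      simp only [commutatorElement_def]; group, e,
      show v * (⁅y, ⁅v⁻¹, c⁆⁆ * ⁅v⁻¹, c⁆) * v⁻¹ * ⁅v, c⁆ = v * ⁅y, ⁅v⁻¹, c⁆⁆ * v⁻¹ by
        simp only [commutatorElement_def]; group]
    exact conj_mem (hQN hv) hn

/-- The moved part of `Q / rad N` under an involution has order `1` or `q ^ (2 b)`. -/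
theorem size [FiniteDimensional K V] (T : TopExt ρ a r q s Q Φ Y τ) {N : Subgroup Γ}
    (hN : IsEigKer τ Φ N) {y : Γ} (hy : y ∈ Y) :
    ⁅Q, zpowers y⁆ ≤ radMod Q N ∨
      ∃ b : ℕ, r * 2 = q ^ b + 1 ∧ (radMod Q N).relIndex ⁅Q, zpowers y⁆ = q ^ b * q ^ b := by
  have L := T.top.layer
  set Qy := ⁅Q, zpowers y⁆
  have hz : zpowers y ≤ normalizer (Q : Set Γ) := zpowers_le.2 (L.E'Q hy)
  have hQyQ : Qy ≤ Q := le_normalizer_iff_commutator_le_left.1 hz
  have hQN := T.Q_le_normalizer hN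
  obtain ⟨v, hv0, hvc, hvN⟩ := hN
  have hN : IsEigKer τ Φ N := ⟨v, hv0, hvc, hvN⟩
  set U := eigSub τ Φ v
  have hcQ : ∀ u ∈ Q, ∀ z ∈ Φ, τ (z * u) = τ (u * z) := fun u hu z hz => T.eq_of (L.cent z hz u hu)
  have hnorm : ∀ g : Γ, Commute g y → g ∈ normalizer (zpowers y : Set Γ) := fun g hg =>
    centralizer_le_normalizer _ (mem_centralizer_iff.2 fun b hb => by
      obtain ⟨i, rfl⟩ := mem_zpowers_iff.1 hb
      exact (hg.zpow_right i).eq.symm)
  have hWQ : Q ≤ stabSub τ (U ⊓ commPart τ Qy) := fun u hu x hx =>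
    ⟨map_mem_eigSub (hcQ u hu) hx.1,
      map_mem_commPart τ (normalizer_commutator_ge_left Q (zpowers y) hu) hx.2⟩
  have hWa : a ∈ stabSub τ (U ⊓ commPart τ Qy) := fun x hx =>
    ⟨map_mem_eigSub (fun z hz => T.eq_of (T.top.phi_a hz)) hx.1,
      map_mem_commPart τ (mem_normalizer_commutator L.aQ
        (hnorm a (show Commute y a from T.top.ya y hy).symm)) hx.2⟩
  have hWy : y ∈ stabSub τ (U ⊓ commPart τ Qy) := fun x hx =>
    ⟨map_mem_eigSub (fun z hz => T.cent_Y hy hz) hx.1,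
      map_mem_commPart τ (mem_normalizer_commutator (L.E'Q hy) (hnorm y (Commute.refl y))) hx.2⟩
  have hcard := T.card Qy hQyQ
  by_cases hW : U ⊓ commPart τ Qy = ⊥
  · refine Or.inl fun u hu => (mem_radMod hQN).2 ⟨hQyQ hu, fun w hw => ?_⟩
    have hfix : ∀ x ∈ U, τ u x = x := fun x hx => by
      have h1 : avg τ Qy x ∈ U := avg_mem τ (fun g hg t ht => map_mem_eigSub (hcQ g (hQyQ hg)) ht) hx
      have h2 : x - avg τ Qy x ∈ U ⊓ commPart τ Qy := ⟨sub_mem hx h1, sub_avg_mem τ hcard x⟩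
      rw [hW, Submodule.mem_bot, sub_eq_zero] at h2
      rw [h2]
      exact avg_mem_fixSub τ x u hu
    have hvU : v ∈ U := fun z _ c hc => hc
    refine (hvN _).2 ⟨L.der u (hQyQ hu) w hw, ?_⟩
    rw [commutatorElement_def, rep_self_mul_apply, rep_self_mul_apply, rep_self_mul_apply]
    have h1 : τ w⁻¹ v ∈ U := map_mem_eigSub (hcQ _ (inv_mem hw)) hvU
    have h3 : τ u⁻¹ (τ w⁻¹ v) = τ w⁻¹ v := by
      conv_lhs => rw [← hfix _ h1]
      exact rep_inv_apply_self τ u _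
    rw [h3, rep_self_apply_inv, hfix _ hvU]
  · obtain ⟨N', x, b, -, hxW, hx0, hxN, -, hrb, hidx⟩ := T.const y hy _ hW hWQ hWa hWy
      fun x hx hfix => eq_zero_of_fix_of_comm τ hcard hfix hx.2
    have hNN : N' = N := by
      ext z
      rw [hxN, hvN]
      refine and_congr_right fun hz => ?_
      obtain ⟨c, hc⟩ := hvc z hz
      rw [hxW.1 z hz c hc, hc]
      constructor
      · intro e
        have : c • x = (1 : Kb) • x := by rw [e, one_smul]
        rw [smul_left_injective Kb hx0 this, one_smul]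
      · intro e
        have : c • v = (1 : Kb) • v := by rw [e, one_smul]
        rw [smul_left_injective Kb hv0 this, one_smul]
    subst hNN
    have hrad : radMod Qy N' = radMod Q N' ⊓ Qy := by
      ext u
      rw [mem_inf, mem_radMod (hQyQ.trans hQN), mem_radMod hQN]
      refine ⟨fun h => ⟨⟨hQyQ h.1, fun w hw => ?_⟩, h.1⟩, fun h => ⟨h.2, fun w hw => h.1.2 w (hQyQ hw)⟩⟩
      obtain ⟨n, hn, c, hc, rfl⟩ := Coprime.exists_mul_eq' hz (by
        have := Fact.mk L.qPrime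
        obtain ⟨k, hk⟩ := IsPGroup.iff_card.1 L.isP
        rw [hk, Nat.card_zpowers]
        exact (orderOf_coprime_of_isPGroup L.sPrime L.qPrime L.sq L.sP hy).pow_right k)
        (Or.inr (L.solvable le_rfl)) hw
      rw [show ⁅u, n * c⁆ = ⁅u, n⁆ * (n * ⁅u, c⁆ * n⁻¹) by simp only [commutatorElement_def]; group]
      exact mul_mem (h.2 n hn) (conj_mem (hQN (hQyQ hn))
        (T.orth hN hy hc.1 (mem_centralizer_iff.1 hc.2 y (mem_zpowers y)) h.1))
    rw [hrad, inf_relIndex_right] at hidx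
    exact Or.inr ⟨b, hrb, hidx⟩

set_option maxHeartbeats 1000000 in
/-- Every operator is `1` or `-1` on `Q / rad N`. -/
theorem alt [FiniteDimensional K V] (T : TopExt ρ a r q s Q Φ Y τ) {N : Subgroup Γ}
    (hN : IsEigKer τ Φ N) {y : Γ} (hy : y ∈ Y) :
    (∀ u ∈ Q, ⁅y, u⁆ ∈ radMod Q N) ∨ ∀ u ∈ Q, y * u * y⁻¹ * u ∈ radMod Q N := by
  have L := T.top.layer
  have := Fact.mk L.qPrime
  have := Fact.mk L.prime
  set R := radMod Q N
  have hQN := T.Q_le_normalizer hN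
  have hΦR : Φ ≤ R := T.phi_le_rad hN
  let h : SecAb q Q R := ⟨radMod_le Q N,
    fun u hu => mem_normalizer_radMod (le_normalizer hu) (hQN hu),
    fun u hu v hv => hΦR (L.der u hu v hv), fun u hu => hΦR (L.powQ u hu)⟩
  have hYg : Y ≤ SecAb.grp Q R := fun x hx =>
    ⟨L.E'Q hx, mem_normalizer_radMod (L.E'Q hx) (T.Y_le_normalizer hN hx)⟩
  have haR : a ∈ normalizer (R : Set Γ) := mem_normalizer_radMod L.aQ (T.a_mem_normalizer hN)
  have hag : a ∈ SecAb.grp Q R := ⟨L.aQ, haR⟩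
  let Op : ∀ x, x ∈ Y → Module.End (ZMod q) h.Space := fun x hx => h.rep ⟨x, hYg hx⟩
  have hOsq : ∀ x hx, Op x hx * Op x hx = 1 := fun x hx => by
    rw [← map_mul]
    refine (h.rep_eq_one_iff _).2 fun u hu => hΦR (T.top.ker _
      (commutator_mem_of_normalizes (mul_mem (L.E'Q hx) (L.E'Q hx)) hu) ?_)
    show ρ ⁅x * x, u⁆ = 1
    have h1 : ρ (x * x) = 1 := by rw [← pow_two]; exact T.sq x hx
    have h1' : ρ (x * x)⁻¹ = 1 := by
      rw [← mul_one (ρ (x * x)⁻¹), ← h1, ← map_mul, inv_mul_cancel, map_one, h1]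
    rw [commutatorElement_def, map_mul, map_mul, map_mul, h1, h1', one_mul, mul_one, ← map_mul,
      mul_inv_cancel, map_one]
  have h2 : (2 : ZMod q) ≠ 0 := by
    intro e
    have e' : ((2 : ℕ) : ZMod q) = 0 := by exact_mod_cast e
    rw [ZMod.natCast_eq_zero_iff] at e'
    exact L.sq (T.sTwo.trans ((Nat.prime_dvd_prime_iff_eq L.qPrime Nat.prime_two).1 e').symm)
  have hcardOp : ∀ x hx, Nat.card (LinearMap.ker (Op x hx + 1)) = R.relIndex ⁅Q, zpowers x⁆ := by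
    intro x hx
    rw [← range_sub_one_eq_ker h2 (hOsq x hx), ← h.card_imageSub
      (le_normalizer_iff_commutator_le_left.1 (zpowers_le.2 (L.E'Q hx)))]
    refine congrArg (fun L : Submodule (ZMod q) h.Space => Nat.card L) (le_antisymm ?_ ?_)
    · rintro _ ⟨w, rfl⟩
      obtain ⟨u, hu, rfl⟩ := h.exists_vec w
      rw [LinearMap.sub_apply, Module.End.one_apply, h.rep_sub_vec]
      refine h.mem_imageSub.2 ⟨_, _, ?_, rfl⟩
      rw [← commutatorElement_inv]
      exact inv_mem (commutator_mem_commutator hu (mem_zpowers x))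
    · intro w hw
      obtain ⟨u, hu, huc, rfl⟩ := h.mem_imageSub.1 hw
      let H : Subgroup Γ :=
        { carrier := {t | ∃ ht : t ∈ Q, h.vec t ht ∈ LinearMap.range (Op x hx - 1)}
          one_mem' := ⟨one_mem Q, by rw [h.vec_one]; exact zero_mem _⟩
          mul_mem' := fun {p p'} ⟨hp, e⟩ ⟨hp', e'⟩ =>
            ⟨mul_mem hp hp', by rw [h.vec_mul hp hp']; exact add_mem e e'⟩
          inv_mem' := fun {p} ⟨hp, e⟩ => ⟨inv_mem hp, by rw [h.vec_inv hp]; exact neg_mem e⟩ }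
      refine ((commutator_zpowers_le (L.E'Q hx) (H := H) fun t ht => ?_) huc).choose_spec
      rw [← commutatorElement_inv]
      refine inv_mem ⟨commutator_mem_of_normalizes (L.E'Q hx) ht, ?_⟩
      refine ⟨h.vec t ht, ?_⟩
      rw [LinearMap.sub_apply, Module.End.one_apply]
      exact h.rep_sub_vec ⟨x, hYg hx⟩ ht
  set Y₁ := Op y hy
  have hYY₁ : ∀ w, Y₁ (Y₁ w) = w := fun w => by rw [← Module.End.mul_apply, hOsq y hy]; rfl
  by_cases hU : LinearMap.ker (Y₁ + 1) = ⊥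
  · refine Or.inl fun u hu => (h.rep_fix_iff ⟨y, hYg hy⟩ hu).1 (sub_eq_zero.1 ?_)
    have h1 : (Y₁ - 1) (h.vec u hu) ∈ LinearMap.ker (Y₁ + 1) := by
      rw [← range_sub_one_eq_ker h2 (hOsq y hy)]; exact ⟨_, rfl⟩
    rw [hU, Submodule.mem_bot] at h1
    exact h1
  by_cases hR : LinearMap.ker (Y₁ - 1) = ⊥
  · refine Or.inr fun u hu => ?_
    have h1 : Y₁ (h.vec u hu) + h.vec u hu ∈ LinearMap.ker (Y₁ - 1) := by
      rw [LinearMap.mem_ker, LinearMap.sub_apply, Module.End.one_apply, map_add, hYY₁]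
      abel
    rw [hR, Submodule.mem_bot, h.rep_vec, ← h.vec_mul] at h1
    exact (h.vec_eq_zero _).1 h1
  exfalso
  obtain ⟨w, hwR, hw0⟩ := Submodule.exists_mem_ne_zero_of_ne_bot hR
  -- an operator moving the fixed vector `w`
  obtain ⟨x, hx, hxw⟩ : ∃ x, ∃ hx : x ∈ Y, Op x hx w ≠ w := by
    by_contra hall
    push Not at hall
    obtain ⟨u, hu, rfl⟩ := h.exists_vec w
    have hcop : (Nat.card Y).Coprime q := by
      have := Fact.mk L.sPrime
      obtain ⟨k, hk⟩ := IsPGroup.iff_card.1 L.sP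
      rw [hk]
      exact ((Nat.coprime_primes L.sPrime L.qPrime).2 L.sq).pow_left k
    exact hw0 ((h.vec_eq_zero hu).2 (mem_of_fixed_mod L.isP h.norm L.E'Q
      (fun t ht => (hYg ht).2) h.comm (L.genQ.trans le_sup_left) hcop hu
      fun t ht => (h.rep_fix_iff ⟨t, hYg ht⟩ hu).1 (hall t ht)))
  set Y₂ := Op x hx
  have hc : Y₁ * Y₂ = Y₂ * Y₁ := by
    have h12 : Op (y * x) (mul_mem hy hx) = Y₁ * Y₂ := map_mul h.rep ⟨y, hYg hy⟩ ⟨x, hYg hx⟩
    have h3 := hOsq _ (mul_mem hy hx)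
    rw [h12] at h3
    calc Y₁ * Y₂ = Y₁ * (Y₁ * Y₂ * (Y₁ * Y₂)) * Y₂ := by rw [h3, mul_one]
      _ = (Y₁ * Y₁) * Y₂ * Y₁ * (Y₂ * Y₂) := by simp only [mul_assoc]
      _ = Y₂ * Y₁ := by rw [hOsq y hy, hOsq x hx, one_mul, mul_one]
  have hdim : ∀ z hz, LinearMap.ker (Op z hz + 1) = ⊥ ∨
      ∃ b, r * 2 = q ^ b + 1 ∧ Module.finrank (ZMod q) (LinearMap.ker (Op z hz + 1)) = 2 * b := by
    intro z hz
    rcases T.size hN hz with hle | ⟨b, hb, hidx⟩
    · have h1 := hcardOp z hz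
      rw [Subgroup.relIndex_eq_one.2 hle, Nat.card_eq_one_iff_unique] at h1
      refine Or.inl ((Submodule.eq_bot_iff _).2 fun t ht => ?_)
      exact congrArg Subtype.val (h1.1.elim ⟨t, ht⟩ 0)
    · refine Or.inr ⟨b, hb, ?_⟩
      have h1 := Module.natCard_eq_pow_finrank (K := ZMod q) (V := LinearMap.ker (Op z hz + 1))
      rw [hcardOp z hz, hidx, Nat.card_zmod, ← pow_add, ← two_mul] at h1
      exact (Nat.pow_right_injective L.qPrime.two_le h1).symm
  obtain ⟨b, hb, -⟩ := (hdim y hy).resolve_left hU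
  have hall : ∀ Yo ∈ ({Y₁, Y₂, Y₁ * Y₂} : Set (Module.End (ZMod q) h.Space)),
      LinearMap.ker (Yo + 1) = ⊥ ∨ Module.finrank (ZMod q) (LinearMap.ker (Yo + 1)) = 2 * b := by
    intro Yo hYo
    obtain ⟨z, hz, rfl⟩ : ∃ z, ∃ hz : z ∈ Y, Op z hz = Yo := by
      rcases hYo with rfl | rfl | rfl
      · exact ⟨y, hy, rfl⟩
      · exact ⟨x, hx, rfl⟩
      · exact ⟨y * x, mul_mem hy hx, map_mul h.rep ⟨y, hYg hy⟩ ⟨x, hYg hx⟩⟩
    refine (hdim z hz).imp_right ?_
    rintro ⟨b', hb', e⟩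
    have : b' = b := Nat.pow_right_injective L.qPrime.two_le
      (show q ^ b' = q ^ b by omega)
    rw [e, this]
  set T₃ := LinearMap.ker (Y₁ - 1) ⊓ LinearMap.ker (Y₂ + 1)
  have hT : T₃ ≠ ⊥ := by
    refine (Submodule.ne_bot_iff _).2 ⟨Y₂ w - w, ⟨?_, ?_⟩, sub_ne_zero.2 hxw⟩
    · rw [SetLike.mem_coe, LinearMap.mem_ker, LinearMap.sub_apply, Module.End.one_apply,
        sub_eq_zero] at *
      rw [map_sub, ← Module.End.mul_apply, hc, Module.End.mul_apply, hwR]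
    · rw [← range_sub_one_eq_ker h2 (hOsq x hx)]
      exact ⟨w, rfl⟩
  have h23 := two_mul_finrank_part h2 (hOsq y hy) (hOsq x hx) hc hall hU hT
  -- `a` on the part of dimension `b`
  set A := h.rep ⟨a, hag⟩
  have hAc : ∀ z (hz : z ∈ Y) t, Op z hz (A t) = A (Op z hz t) := fun z hz t => by
    rw [← Module.End.mul_apply, ← Module.End.mul_apply, ← map_mul, ← map_mul]
    exact LinearMap.congr_fun (congrArg h.rep (Subtype.ext (T.top.ya z hz))) t
  have hA0 : ∀ t, A t = t → t = 0 := by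
    intro t ht
    obtain ⟨u, hu, rfl⟩ := h.exists_vec t
    refine (h.vec_eq_zero hu).2 (mem_of_fixed_mod (Y := zpowers a) L.isP h.norm (zpowers_le.2 L.aQ)
      (zpowers_le.2 haR) h.comm (T.top.Qa.trans le_sup_left)
      (((Nat.coprime_primes L.prime L.qPrime).2 L.qr.symm).coprime_dvd_left L.card_a) hu
      fun g hg => ?_)
    obtain ⟨i, rfl⟩ : ∃ i : ℕ, a ^ i = g := mem_powers_iff_mem_zpowers.2 hg
    have hpow : (A ^ i) (h.vec u hu) = h.vec u hu := by
      clear hg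
      induction i with
      | zero => simp
      | succ i ih => rw [pow_succ, Module.End.mul_apply, ht, ih]
    rw [← map_pow] at hpow
    exact (h.rep_fix_iff _ hu).1 hpow
  have hAr : A ^ r = 1 := by
    rw [← map_pow, show (⟨a, hag⟩ : SecAb.grp Q R) ^ r = 1 from Subtype.ext L.pow_a, map_one]
  have hdvd := dvd_card_sub_one hAr hA0 (L := T₃) fun t ht => by
    refine ⟨?_, ?_⟩
    · rw [SetLike.mem_coe, LinearMap.mem_ker, LinearMap.sub_apply, Module.End.one_apply, hAc y hy]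
      have h1 := LinearMap.mem_ker.1 ht.1
      rw [LinearMap.sub_apply, Module.End.one_apply, sub_eq_zero] at h1
      rw [h1, sub_self]
    · rw [SetLike.mem_coe, LinearMap.mem_ker, LinearMap.add_apply, Module.End.one_apply, hAc x hx,
        ← map_add]
      have h1 := LinearMap.mem_ker.1 ht.2
      rw [LinearMap.add_apply, Module.End.one_apply] at h1
      rw [h1, map_zero]
  have h24 : 2 * Module.finrank (ZMod q) T₃ = 2 * b := h23
  rw [show Module.finrank (ZMod q) T₃ = b by omega] at hdvd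
  have h1q := Nat.one_le_pow b q L.qPrime.pos
  have hr2 : r ∣ 2 := by
    have h5 : r * 2 = (q ^ b - 1) + 2 := by omega
    exact (Nat.dvd_add_right hdvd).1 (h5 ▸ Dvd.intro 2 rfl)
  exact L.sr (T.sTwo.trans ((Nat.prime_dvd_prime_iff_eq L.prime Nat.prime_two).1 hr2).symm)

/-- The image of `Q` is not commutative. -/
theorem exists_noncomm [FiniteDimensional K V] (T : TopExt ρ a r q s Q Φ Y τ) :
    ∃ u ∈ Q, ∃ v ∈ Q, ρ ⁅u, v⁆ ≠ 1 := by
  have L := T.top.layer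
  by_contra hall
  push Not at hall
  obtain ⟨y, hy, hy1⟩ := T.nontriv
  set Qy := ⁅Q, zpowers y⁆
  have hQyQ : Qy ≤ Q := le_normalizer_iff_commutator_le_left.1 (zpowers_le.2 (L.E'Q hy))
  have hnorm : ∀ g : Γ, Commute g y → g ∈ normalizer (zpowers y : Set Γ) := fun g hg =>
    centralizer_le_normalizer _ (mem_centralizer_iff.2 fun b hb => by
      obtain ⟨i, rfl⟩ := mem_zpowers_iff.1 hb
      exact (hg.zpow_right i).eq.symm)
  by_cases hW : commPart τ Qy = ⊥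
  · refine hy1 (T.top.eq_one_of_commutes hy fun u hu => ?_)
    have hd : ρ ⁅u, y⁆ = 1 := by
      rw [← map_one ρ, ← T.iff, map_one]
      refine LinearMap.ext fun x => sub_eq_zero.1 ((Submodule.mem_bot Kb).1 (hW ▸ ?_))
      exact sub_mem_commPart τ (commutator_mem_commutator hu (mem_zpowers y)) x
    rw [show u * y = ⁅u, y⁆ * (y * u) by simp only [commutatorElement_def]; group,
      map_mul ρ ⁅u, y⁆, hd, one_mul]
  · obtain ⟨N, x, b, hN, -, -, -, hb, -, hidx⟩ := T.const y hy _ hW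
      (fun u hu t ht => map_mem_commPart τ (normalizer_commutator_ge_left Q (zpowers y) hu) ht)
      (fun t ht => map_mem_commPart τ (mem_normalizer_commutator L.aQ
        (hnorm a (show Commute y a from T.top.ya y hy).symm)) ht)
      (fun t ht => map_mem_commPart τ
        (mem_normalizer_commutator (L.E'Q hy) (hnorm y (Commute.refl y))) ht)
      fun t ht hfix => eq_zero_of_fix_of_comm τ (T.card _ hQyQ) hfix ht
    have h1 : radMod Qy N = Qy := le_antisymm (radMod_le _ _) fun u hu =>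
      (mem_radMod (hQyQ.trans (T.Q_le_normalizer hN))).2 ⟨hu, fun w hw =>
        hN.mem_of_rep_eq_one (L.der u (hQyQ hu) w (hQyQ hw)) (by
          rw [← map_one τ, T.iff, hall u (hQyQ hu) w (hQyQ hw), map_one])⟩
    rw [h1, relIndex_self] at hidx
    have h2 : 1 < q ^ b := Nat.one_lt_pow (Nat.one_le_iff_ne_zero.1 hb) L.qPrime.one_lt
    rw [← mul_one 1] at hidx
    exact absurd hidx (Nat.ne_of_lt (Nat.mul_lt_mul'' h2 h2))

/-- **Commutators of the operators with what fixes `Φ` are trivial on `Q` modulo the radical.** -/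
theorem commutator_rad [FiniteDimensional K V] [IsAlgClosed Kb] [FiniteDimensional Kb Vb]
    (T : TopExt ρ a r q s Q Φ Y τ) {x : Γ} (hxQ : x ∈ normalizer (Q : Set Γ))
    (hxΦ : x ∈ normalizer (Φ : Set Γ)) (hxY : x ∈ normalizer (Y : Set Γ))
    (hxfix : ∀ z ∈ Φ, ρ (x * z * x⁻¹) = ρ z) {y u v : Γ} (hy : y ∈ Y) (hu : u ∈ Q) (hv : v ∈ Q) :
    ρ ⁅⁅⁅x, y⁆, u⁆, v⁆ = 1 := by
  have L := T.top.layer
  have hxy : ⁅x, y⁆ ∈ normalizer (Q : Set Γ) :=
    L.E'Q (commutator_mem_of_normalizes hxY hy)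
  have hu' : ⁅⁅x, y⁆, u⁆ ∈ Q := commutator_mem_of_normalizes hxy hu
  have key : ∀ N, IsEigKer τ Φ N → ⁅⁅x, y⁆, u⁆ ∈ radMod Q N := by
    intro N hN
    set R := radMod Q N
    have hxR : x ∈ normalizer (R : Set Γ) :=
      mem_normalizer_radMod hxQ (hN.mem_normalizer hxΦ fun z hz => T.eq_of (hxfix z hz))
    have hyR : y ∈ normalizer (R : Set Γ) :=
      mem_normalizer_radMod (L.E'Q hy) (T.Y_le_normalizer hN hy)
    rcases T.alt hN hy with h | h
    · have hyC : y ∈ centMod Q R := ⟨hyR, h⟩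
      have h1 : x * y * x⁻¹ * y⁻¹ ∈ centMod Q R :=
        mul_mem (conj_mem (mem_normalizer_centMod hxQ hxR) hyC) (inv_mem hyC)
      exact h1.2 u hu
    · have h' : ∀ t ∈ Q, x * y * x⁻¹ * t * (x * y * x⁻¹)⁻¹ * t ∈ R := fun t ht => by
        rw [show x * y * x⁻¹ * t * (x * y * x⁻¹)⁻¹ * t
          = x * (y * (x⁻¹ * t * x) * y⁻¹ * (x⁻¹ * t * x)) * x⁻¹ by group]
        exact conj_mem hxR (h _ (inv_conj_mem hxQ ht))
      set w := y⁻¹ * u * y
      have hw : w ∈ Q := inv_conj_mem (L.E'Q hy) hu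
      have h1 : u * w ∈ R := by
        have := h w hw
        rwa [show y * w * y⁻¹ * w = u * w by simp only [w]; group] at this
      rw [show ⁅⁅x, y⁆, u⁆ = x * y * x⁻¹ * w * (x * y * x⁻¹)⁻¹ * w * (u * w)⁻¹ by
        simp only [w, commutatorElement_def]; group]
      exact mul_mem (h' w hw) (inv_mem h1)
  set z := ⁅⁅⁅x, y⁆, u⁆, v⁆
  have hz : z ∈ Φ := L.der _ hu' v hv
  rw [← map_one ρ, ← T.iff, map_one]
  refine LinearMap.ext fun t => fix_of_weights τ Φ (M := ⊤) (fun _ _ _ _ => Submodule.mem_top)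
    (fun b hb c hc t _ => by rw [T.eq_of (L.cent b hb c (L.ΦQ hc))]) hz ?_ (fun w χ _ hw0 hwχ => ?_)
    t Submodule.mem_top
  · intro e
    have hd : orderOf z ∣ Nat.card Φ := Subgroup.orderOf_dvd_natCard _ hz
    obtain ⟨c, hc⟩ := hd
    exact T.card Φ L.ΦQ (by rw [hc, Nat.cast_mul, e, zero_mul])
  · let N : Subgroup Γ :=
      { carrier := {g | g ∈ Φ ∧ τ g w = w}
        one_mem' := ⟨one_mem _, by simp⟩
        mul_mem' := fun {b c} hb hc => ⟨mul_mem hb.1 hc.1, by rw [rep_self_mul_apply, hc.2, hb.2]⟩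
        inv_mem' := fun {b} hb => ⟨inv_mem hb.1, by
          conv_lhs => rw [← hb.2]
          exact rep_inv_apply_self τ b w⟩ }
    have hN : IsEigKer τ Φ N := ⟨w, hw0, fun g hg => ⟨χ g, hwχ g hg⟩, fun _ => Iff.rfl⟩
    exact (((mem_radMod (T.Q_le_normalizer hN)).1 (key N hN)).2 v hv).2

end TopExt

end CfsgLib.CoprimeHeight
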