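import Cfsg.Agent.Lib.CoprimeHeight.RedEngine
import Cfsg.Agent.Lib.CoprimeHeight.TopEigen

/-!
# The second term above the last moved layer

When the first term above the last moved layer moves the fixed points only into the kernel, the
second one does not do so through the fixed points of `a` in that layer.
-/

set_option autoImplicit false

namespace CfsgLib.CoprimeHeight

open Subgroup CfsgLib.FixedFree
open scoped commutatorElement

universe u

variable {X : Type u} [Group X] [Finite X]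

namespace Setup

variable {a : X} {G : Subgroup X} {r : ℕ} {p : ℕ → ℕ} {P : ℕ → Subgroup X} {n J : ℕ}

/-- The fixed points in the moved layer lie in `tfr`. -/
theorem D_top_le_tfr (h : Setup a G r p P n J) : redD a P J J ≤ tfr P J := fun u hu => by
  have hu1 : u ∈ P J := h.Q_le le_rfl hu.1
  refine h.min.mem_tfr_of_fixed h.tower h.le h.moved h.up hu1 ?_
  rw [commutatorElement_eq_one_iff_mul_comm.2 (commute_of_mem_centralizer_zpowers hu.2)]
  exact one_mem _

variable [∀ k, Fact (p k).Prime]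

theorem topData (h : Setup a G r p P n J) {j : ℕ} (hj : j + 1 = J) (hjn : j + 2 ≤ n)
    (hII : P (j + 2) ≤ centMod (redD a P J j) (redKD a P J j)) :
    TopData (h.secP (k := j) (by omega)).rep ⟨a, h.a_mem_grp (by omega)⟩ r (p (j + 1)) (p (j + 2))
      ((redQ a P J (j + 1)).subgroupOf (SecAb.grp (P j) (tfr P j)))
      ((redPhi a P J (j + 1)).subgroupOf (SecAb.grp (P j) (tfr P j)))
      ((P (j + 2)).subgroupOf (SecAb.grp (P j) (tfr P j))) := by
  have hQS : redQ a P J (j + 1) ≤ SecAb.grp (P j) (tfr P j) := h.Q_le_secP_grp (by omega)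
  have hQ : redQ a P J (j + 1) = P (j + 1) := by rw [hj, redQ_top]
  refine ⟨h.layerTop hj (by omega), fun y hy => Subtype.ext
    (commute_of_mem_centralizer_zpowers (h.up (j + 2) (by omega) hjn hy)).symm, ?_, ?_,
    fun y hy v hv => ?_, fun u hu hu1 => ?_⟩
  · refine subgroupOf_le_commutator hQS (h.a_mem_grp (by omega)) ?_
    rw [hj, redQ_top]
    exact (h.min.commutator_zpowers_eq h.tower h.cop h.le h.moved h.up).ge
  · refine (h.secP (by omega)).commPart_eq_top hQS ?_
    rw [hQ]
    exact (h.min.commutator_eq h.tower (by omega)).ge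
  · obtain ⟨u, hu, rfl⟩ := (h.secP (k := j) (by omega)).exists_vec v
    exact ((h.secP (by omega)).rep_fix_iff y hu).2
      (h.fix_top hj (by omega) hII hy hu (((h.secP (by omega)).rep_fix_iff _ hu).1 hv))
  · exact mem_subgroupOf.2 (mem_inf.2 ⟨hu, mem_sup_right (h.mem_linkKer_of_tfr (by omega)
      (h.Q_le (by omega) hu) (((h.secP (by omega)).rep_eq_one_iff u).1 hu1))⟩)

set_option maxHeartbeats 1000000 in
/-- **The case left open by the fixed points below the moved layer.** -/
theorem caseTwo_false (h : Setup a G r p P n J) {j : ℕ} (hj : j + 1 = J) (hjn : j + 3 ≤ n)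
    (hII : P (j + 2) ≤ centMod (redD a P J j) (redKD a P J j))
    (hX : ∀ x ∈ P (j + 3), ∀ z ∈ redD a P J (j + 1),
      ⁅x, z⁆ ∈ centMod (redD a P J j) (redKD a P J j)) : False := by
  have hjJ : j + 1 ≤ J := hj.le
  have hJn : J < n := by omega
  set S := SecAb.grp (P j) (tfr P j)
  set sP := h.secP (k := j) (by omega)
  have T := h.topData hj (by omega) hII
  have hQ : redQ a P J (j + 1) = P (j + 1) := by rw [hj, redQ_top]
  have hDt : redD a P J (j + 1) ≤ tfr P (j + 1) := by rw [hj]; exact h.D_top_le_tfr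
  have hDP : redD a P J (j + 1) ≤ P (j + 1) := hDt.trans (tfr_le P _)
  have hKS : linkKer P (j + 1) ≤ S :=
    (linkKer_le P _).trans (h.P_le_grp (Nat.le_succ j) (by omega))
  have hnontriv : Nontrivial sP.Space := by
    obtain ⟨u, hu, hut⟩ := Set.exists_of_ssubset (lt_of_le_of_ne (tfr_le P j)
      (h.tower.tfr_ne (by omega)) : tfr P j < P j)
    exact ⟨⟨sP.vec u hu, 0, fun e => hut ((sP.vec_eq_zero hu).1 e)⟩⟩
  -- the commutators of the two
  set R := ⁅P (j + 3), redD a P J (j + 1)⁆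
  have hXn : P (j + 3) ≤ normalizer (redD a P J (j + 1) : Set X) :=
    (h.P_le_normalizer hjJ (by omega) hjn).trans inf_le_left
  have hRD : R ≤ redD a P J (j + 1) := le_normalizer_iff_commutator_le_right.1 hXn
  have hRC : R ≤ centMod (redD a P J j) (redKD a P J j) := commutator_le.2 hX
  have hRS : R ≤ S := (hRD.trans hDP).trans (h.P_le_grp (Nat.le_succ j) (by omega))
  have hRK : R ≤ normalizer (linkKer P (j + 1) : Set X) :=
    (hRD.trans hDP).trans (h.tower.le_normalizer_linkKer le_rfl (by omega))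
  set A := linkKer P (j + 1) ⊔ R
  have hAl : ∀ l, j < l → l ≤ n → P l ≤ normalizer (A : Set X) := by
    intro l hl hln g hg
    by_cases hl3 : j + 3 ≤ l
    · refine mem_normalizer_sup (h.tower.le_normalizer_linkKer (by omega) hln hg)
        (mem_normalizer_commutator (h.tower.norm _ l hl3 hln hg) ?_)
      exact (h.P_le_normalizer hjJ (by omega) hln hg).1
    · have hgK : g ∈ normalizer (linkKer P (j + 1) : Set X) :=
        h.tower.le_normalizer_linkKer (by omega) hln hg
      have hc : ∀ z ∈ R, ⁅g, z⁆ ∈ linkKer P (j + 1) ∧ ⁅g⁻¹, z⁆ ∈ linkKer P (j + 1) := by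
        intro z hz
        rcases (show l = j + 1 ∨ l = j + 2 by omega) with rfl | rfl
        · exact ⟨h.min.commutator_tfr_mem h.tower (by omega) hg (hDt (hRD hz)),
            h.min.commutator_tfr_mem h.tower (by omega) (inv_mem hg) (hDt (hRD hz))⟩
        · exact ⟨h.min.centralize_tfr h.tower (by omega) hg (hDt (hRD hz)),
            h.min.centralize_tfr h.tower (by omega) (inv_mem hg) (hDt (hRD hz))⟩
      refine mem_normalizer_of_conj (fun t ht => ?_) fun t ht => ?_ <;>
        obtain ⟨z, hz, k, hk, rfl⟩ := (Coprime.mem_sup_of_le_normalizer' hRK).1 ht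
      · rw [show g * (z * k) * g⁻¹ = ⁅g, z⁆ * z * (g * k * g⁻¹) by
          simp only [commutatorElement_def]; group]
        exact mul_mem (mul_mem (mem_sup_left (hc z hz).1) (mem_sup_right hz))
          (mem_sup_left (conj_mem hgK hk))
      · rw [show g⁻¹ * (z * k) * g = ⁅g⁻¹, z⁆ * z * (g⁻¹ * k * g) by
          simp only [commutatorElement_def]; group]
        exact mul_mem (mul_mem (mem_sup_left (hc z hz).2) (mem_sup_right hz))
          (mem_sup_left (inv_conj_mem hgK hk))
  have haA : a ∈ normalizer (A : Set X) := mem_normalizer_sup (h.tower.conj_linkKer (by omega))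
    (mem_normalizer_commutator (h.tower.conj _ hjn) (h.a_le_normalizer hjJ).1)
  set Qp := P j ⊓ centMod A (tfr P j)
  have hQp : InvAbove a P n j Qp :=
    ⟨mem_normalizer_inf (h.tower.conj j (by omega))
      (mem_normalizer_centMod haA (h.tower.conj_tfr (by omega))),
    fun l hl hln g hg => mem_normalizer_inf (h.tower.norm j l hl.le hln hg)
      (mem_normalizer_centMod (hAl l hl hln hg) (h.tower.le_normalizer_tfr hl.le hln hg))⟩
  by_cases hne : Qp ≠ P j
  · -- `R` fixes nothing, so the fixed points are in the kernel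
    have hle := h.min.le_tfr h.tower (by omega) inf_le_left hne hQp
    refine h.D_not_le_KD hjJ (Or.inr hJn) fun d hd => ?_
    have hdP : d ∈ P j := h.Q_le (by omega) hd.1
    have hcard : (Nat.card (R.subgroupOf S) : ZMod (p j)) ≠ 0 := by
      rw [Coprime.card_subgroupOf hRS]
      exact natCast_card_ne_zero (h.tower.prime (j + 1) (by omega))
        (natCast_ne_zero (h.tower.prime (j + 1) (by omega)) (h.tower.ne j (by omega)))
        ((h.tower.isP (j + 1) (by omega)).to_le (hRD.trans hDP))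
    have hfix0 : ∀ v ∈ (⊤ : Submodule (ZMod (p j)) sP.Space),
        v ∈ fixSub sP.rep (R.subgroupOf S) → v = 0 := by
      intro v _ hv
      obtain ⟨u, hu, rfl⟩ := sP.exists_vec v
      refine (sP.vec_eq_zero hu).2 (hle (mem_inf.2
        ⟨hu, h.tower.le_normalizer_tfr le_rfl (by omega) hu, fun t ht => ?_⟩))
      obtain ⟨z, hz, k, hk, rfl⟩ := (Coprime.mem_sup_of_le_normalizer' hRK).1 ht
      have h1 : ⁅u, z⁆ ∈ tfr P j := by
        rw [← commutatorElement_inv]
        exact inv_mem ((sP.rep_fix_iff ⟨z, hRS hz⟩ hu).1 (hv ⟨z, hRS hz⟩ hz))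
      have h2 : ⁅u, k⁆ ∈ tfr P j := by
        rw [← commutatorElement_inv]; exact inv_mem (tfr_of_linkKer hk hu)
      rw [show ⁅u, z * k⁆ = ⁅u, z⁆ * (z * ⁅u, k⁆ * z⁻¹) by
        simp only [commutatorElement_def]; group]
      exact mul_mem h1 (conj_mem (hRS hz).2 h2)
    have htop := le_commPart sP.rep hcard (fun _ _ _ _ => Submodule.mem_top) hfix0
    set B := sP.imageSub (redKD a P J j)
    have hfixB : ∀ g ∈ R.subgroupOf S, sP.rep g (sP.vec d hdP) - sP.vec d hdP ∈ B := fun g hg => by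
      rw [sP.rep_sub_vec]
      exact sP.mem_imageSub.2 ⟨_, _, (hRC hg).2 d hd, rfl⟩
    have h1 := sub_avg_mem_of_fixed sP.rep hcard hfixB
    rw [avg_eq_zero sP.rep (htop Submodule.mem_top), sub_zero] at h1
    refine sP.mem_of_vec_mem_imageSub (redKD_le a P J j) (fun t ht => ?_) hdP hd h1
    exact redPhi_le_redKD a P J j (mem_inf.2 ⟨ht.1, mem_inf.2 ⟨ht.1.1, ht.2⟩⟩)
  push Not at hne
  -- `R` is trivial below, so the top term fixes the kernels of the characters of `Φ`
  have hR : R ≤ linkKer P (j + 1) := fun z hz => h.mem_linkKer_of_tfr (by omega)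
    (hDP (hRD hz)) fun u hu => by
      have h1 : u ∈ Qp := by rw [hne]; exact hu
      rw [← commutatorElement_inv]
      exact inv_mem (h1.2.2 z (mem_sup_right hz))
  have htriv : ∀ g : S, (g : X) ∈ linkKer P (j + 1) → sP.rep g = 1 := fun g hg =>
    (sP.rep_eq_one_iff g).2 fun u hu => tfr_of_linkKer hg hu
  have hback : ∀ g : S, (g : X) ∈ P (j + 1) → sP.rep g = 1 → (g : X) ∈ linkKer P (j + 1) :=
    fun g hg e => h.mem_linkKer_of_tfr (by omega) hg ((sP.rep_eq_one_iff g).1 e)
  have hcov : ∀ x ∈ P (j + 3), ∀ z ∈ tfr P (j + 1), ⁅x, z⁆ ∈ linkKer P (j + 1) := by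
    intro x hx z hz
    have hzP : z ∈ P (j + 1) := tfr_le P _ hz
    have haK : a ∈ normalizer (linkKer P (j + 1) : Set X) := h.tower.conj_linkKer (by omega)
    have hzK : z ∈ normalizer (linkKer P (j + 1) : Set X) :=
      h.tower.le_normalizer_linkKer le_rfl (by omega) hzP
    have haz : ⁅a, z⁆ ∈ linkKer P (j + 1) := by
      have hzS : z ∈ S := h.P_le_grp (Nat.le_succ j) (by omega) hzP
      have hazP : ⁅a, z⁆ ∈ P (j + 1) :=
        commutator_mem_of_normalizes (h.tower.conj _ (by omega)) hzP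
      refine hback ⟨_, h.P_le_grp (Nat.le_succ j) (by omega) hazP⟩ hazP ?_
      have h1 := T.phi_a (z := ⟨z, hzS⟩) (mem_subgroupOf.2 (mem_inf.2 ⟨hQ.symm ▸ hzP, hz⟩))
      rw [show (⟨⁅a, z⁆, _⟩ : S) = ((⟨a, h.a_mem_grp (by omega)⟩ : S) * ⟨z, hzS⟩)
        * (((⟨z, hzS⟩ : S) * ⟨a, h.a_mem_grp (by omega)⟩))⁻¹ from Subtype.ext (by
          show ⁅a, z⁆ = a * z * (z * a)⁻¹
          rw [commutatorElement_def, mul_inv_rev]; group), map_mul, ← h1, ← map_mul, mul_inv_cancel,
        map_one]
    have hfix : ∀ b ∈ zpowers a, z⁻¹ * b * z * b⁻¹ ∈ linkKer P (j + 1) := by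
      let H : Subgroup X :=
        { carrier := {b | b ∈ normalizer (linkKer P (j + 1) : Set X) ∧ ⁅b, z⁆ ∈ linkKer P (j + 1)}
          one_mem' := ⟨one_mem _, by rw [commutatorElement_one_left]; exact one_mem _⟩
          mul_mem' := fun {p p'} hp hp' => ⟨mul_mem hp.1 hp'.1, by
            rw [show ⁅p * p', z⁆ = p * ⁅p', z⁆ * p⁻¹ * ⁅p, z⁆ by
              simp only [commutatorElement_def]; group]
            exact mul_mem (conj_mem hp.1 hp'.2) hp.2⟩
          inv_mem' := fun {p} hp => ⟨inv_mem hp.1, by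
            rw [show ⁅p⁻¹, z⁆ = p⁻¹ * ⁅p, z⁆⁻¹ * p by simp only [commutatorElement_def]; group]
            exact inv_conj_mem hp.1 (inv_mem hp.2)⟩ }
      intro b hb
      have h1 : b ∈ H := (zpowers_le.2 (show a ∈ H from ⟨haK, haz⟩)) hb
      have h2 := inv_conj_mem hzK h1.2
      simpa [commutatorElement_def, mul_assoc] using h2
    obtain ⟨k, hk, hc⟩ := Coprime.exists_mem_centralizer_of_coset
      (zpowers_le.2 (h.tower.conj_tfr (by omega))) (zpowers_le.2 haK)
      (le_sup_right : linkKer P (j + 1) ≤ tfr P (j + 1))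
      (h.coprime_a (by omega) (tfr_le P (j + 1)))
      (Or.inr (h.solvable (by omega) (linkKer_le P (j + 1)))) hz hfix
    have hcD : z * k ∈ redD a P J (j + 1) :=
      mem_inf.2 ⟨hQ.symm ▸ mul_mem hzP (linkKer_le P _ hk), hc⟩
    rw [show ⁅x, z⁆ = ⁅x, z * k⁆ * ((z * k) * ⁅x, k⁻¹⁆ * (z * k)⁻¹) by
      simp only [commutatorElement_def]; group]
    refine mul_mem (hR (commutator_mem_commutator hx hcD))
      (conj_mem (mul_mem hzK (le_normalizer hk)) ?_)
    exact commutator_mem_of_normalizes (h.tower.le_normalizer_linkKer (by omega) hjn hx) (inv_mem hk)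
  have E := T.topExt
  -- the radical
  set Rad := radMod (P (j + 1)) (linkKer P (j + 1))
  have hPK : P (j + 1) ≤ normalizer (linkKer P (j + 1) : Set X) :=
    h.tower.le_normalizer_linkKer le_rfl (by omega)
  have hQS : ∀ {u : X}, u ∈ P (j + 1) → u ∈ S := fun hu => h.P_le_grp (Nat.le_succ j) (by omega) hu
  have hmemQ : ∀ {u : S}, (u : X) ∈ P (j + 1) → u ∈ (redQ a P J (j + 1)).subgroupOf S :=
    fun hu => mem_subgroupOf.2 (hQ.symm ▸ hu)
  have hRad : Rad ≤ tfr P (j + 1) := by
    refine h.min.le_tfr h.tower (by omega) (radMod_le _ _) (fun e => ?_)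
      ⟨mem_normalizer_radMod (h.tower.conj _ (by omega)) (h.tower.conj_linkKer (by omega)),
        fun l hl hln g hg => mem_normalizer_radMod (h.tower.norm _ l hl.le hln hg)
          (h.tower.le_normalizer_linkKer hl.le hln hg)⟩
    obtain ⟨u, hu, v, hv, huv⟩ := E.exists_noncomm
    have hu' : (u : X) ∈ P (j + 1) := hQ ▸ mem_subgroupOf.1 hu
    have hv' : (v : X) ∈ P (j + 1) := hQ ▸ mem_subgroupOf.1 hv
    exact huv (htriv ⁅u, v⁆ (((mem_radMod hPK).1 (e.symm ▸ hu' : (u : X) ∈ Rad)).2 v hv'))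
  refine h.tower.not_le_linkKer hjn fun x hx => ?_
  show x ∈ linkKer P (j + 2 + 1)
  rw [linkKer_succ]
  refine mem_inf.2 ⟨hx, h.tower.le_normalizer_linkKer (by omega) hjn hx, fun y hy => ?_⟩
  have hxy : ⁅x, y⁆ ∈ P (j + 2) :=
    commutator_mem_of_normalizes (h.tower.norm _ _ (by omega) hjn hx) hy
  refine h.mem_linkKer_of_tfr (k := j + 1) (by omega) hxy fun u hu =>
    hRad ((mem_radMod hPK).2
      ⟨commutator_mem_of_normalizes (h.tower.norm _ _ (by omega) (by omega) hxy) hu, fun v hv => ?_⟩)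
  have hxS : x ∈ S := h.P_le_grp (by omega) hjn hx
  have hyS : y ∈ S := h.P_le_grp (by omega) (by omega) hy
  have hd : ⁅⁅⁅x, y⁆, u⁆, v⁆ ∈ P (j + 1) :=
    commutator_mem_of_normalizes (le_normalizer
      (commutator_mem_of_normalizes (h.tower.norm _ _ (by omega) (by omega) hxy) hu)) hv
  refine hback ⟨_, hQS hd⟩ hd ?_
  refine E.commutator_rad (x := ⟨x, hxS⟩) (y := ⟨y, hyS⟩) (u := ⟨u, hQS hu⟩) (v := ⟨v, hQS hv⟩)
    (mem_normalizer_subgroupOf ?_)
    (mem_normalizer_subgroupOf (mem_normalizer_inf ?_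
      (h.tower.le_normalizer_tfr (by omega) hjn hx)))
    (mem_normalizer_subgroupOf (h.tower.norm (j + 2) _ (by omega) hjn hx))
    (fun z hz => ?_) hy (hmemQ hu) (hmemQ hv)
  · exact (h.P_stab hjJ (by omega) hjn hx).1
  · exact (h.P_stab hjJ (by omega) hjn hx).1
  · rw [show (⟨x, hxS⟩ : S) * z * (⟨x, hxS⟩ : S)⁻¹ = ⁅(⟨x, hxS⟩ : S), z⁆ * z by
      simp only [commutatorElement_def]; group, map_mul,
      htriv ⁅(⟨x, hxS⟩ : S), z⁆ (hcov x hx _ (mem_inf.1 (mem_subgroupOf.1 hz)).2), one_mul]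

end Setup

end CfsgLib.CoprimeHeight
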