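import Cfsg.Agent.Lib.CoprimeHeight.Frob
import Cfsg.Agent.Lib.HallHigman.CriticalIrred

/-!
# A constituent for a semiregular automorphism of low degree

If `g` acts semiregularly on `Q / Φ` and satisfies a polynomial of degree less than its order on a
module where `Q` fixes nothing, then some constituent is an extraspecial one and the order of `g`
is `q ^ b + 1`.
-/

set_option autoImplicit false

namespace CfsgLib.CoprimeHeight

open Subgroup CfsgLib.FixedFree CfsgLib.HallHigman Polynomial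
open scoped commutatorElement

universe u v w

variable {Γ : Type w} [Group Γ]

/-- The radical of the commutator pairing of `Q` modulo `N`. -/
def radMod (Q N : Subgroup Γ) : Subgroup Γ := Q ⊓ centMod Q N

theorem mem_radMod {Q N : Subgroup Γ} (hQN : Q ≤ normalizer (N : Set Γ)) {u : Γ} :
    u ∈ radMod Q N ↔ u ∈ Q ∧ ∀ v ∈ Q, ⁅u, v⁆ ∈ N :=
  ⟨fun h => ⟨h.1, h.2.2⟩, fun h => ⟨h.1, hQN h.1, h.2⟩⟩

theorem radMod_le (Q N : Subgroup Γ) : radMod Q N ≤ Q := inf_le_left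

theorem mem_normalizer_radMod {Q N : Subgroup Γ} {g : Γ} (hQ : g ∈ normalizer (Q : Set Γ))
    (hN : g ∈ normalizer (N : Set Γ)) : g ∈ normalizer (radMod Q N : Set Γ) :=
  mem_normalizer_inf hQ (mem_normalizer_centMod hQ hN)

variable {K : Type u} [Field K] {V : Type v} [AddCommGroup V] [Module K V]

/-- `N` is the kernel of an eigen-character of `Φ`. -/
def IsEigKer (ρ : Representation K Γ V) (Φ N : Subgroup Γ) : Prop :=
  ∃ v : V, v ≠ 0 ∧ (∀ z ∈ Φ, ∃ c : K, ρ z v = c • v) ∧ ∀ z, z ∈ N ↔ z ∈ Φ ∧ ρ z v = v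

namespace IsEigKer

variable {ρ : Representation K Γ V} {Φ N : Subgroup Γ}

theorem le (h : IsEigKer ρ Φ N) : N ≤ Φ := by
  obtain ⟨v, -, -, hN⟩ := h
  exact fun z hz => ((hN z).1 hz).1

theorem mem_of_rep_eq_one (h : IsEigKer ρ Φ N) {z : Γ} (hz : z ∈ Φ) (hz1 : ρ z = 1) : z ∈ N := by
  obtain ⟨v, -, -, hN⟩ := h
  exact (hN z).2 ⟨hz, by rw [hz1]; rfl⟩

/-- Whatever fixes `Φ` in the representation normalises the kernel. -/
theorem mem_normalizer (h : IsEigKer ρ Φ N) {g : Γ} (hg : g ∈ normalizer (Φ : Set Γ))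
    (hfix : ∀ z ∈ Φ, ρ (g * z * g⁻¹) = ρ z) : g ∈ normalizer (N : Set Γ) := by
  obtain ⟨v, -, -, hN⟩ := h
  rw [Subgroup.mem_normalizer_iff]
  intro z
  rw [hN, hN]
  refine ⟨fun hz => ⟨conj_mem hg hz.1, by rw [hfix z hz.1]; exact hz.2⟩, fun hz => ?_⟩
  have hzΦ : z ∈ Φ := by
    have := inv_conj_mem hg hz.1
    rwa [show g⁻¹ * (g * z * g⁻¹) * g = z by group] at this
  exact ⟨hzΦ, hfix z hzΦ ▸ hz.2⟩

theorem commutator_mem (h : IsEigKer ρ Φ N) {g z : Γ} (hg : g ∈ normalizer (Φ : Set Γ)) (hz : z ∈ Φ)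
    (hfix : ρ (g * z * g⁻¹) = ρ z) : ⁅g, z⁆ ∈ N := by
  refine h.mem_of_rep_eq_one (mul_mem (conj_mem hg hz) (inv_mem hz)) ?_
  rw [commutatorElement_def, map_mul, hfix, ← map_mul, mul_inv_cancel, map_one]

/-- `Φ / N` has at most one involution. -/
theorem inv_mul_mem (h : IsEigKer ρ Φ N) {z w : Γ} (hz : z ∈ Φ) (hw : w ∈ Φ) (hz2 : z ^ 2 ∈ N)
    (hw2 : w ^ 2 ∈ N) (hzN : z ∉ N) (hwN : w ∉ N) : z⁻¹ * w ∈ N := by
  obtain ⟨v, hv, hc, hN⟩ := h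
  have key : ∀ z ∈ Φ, z ^ 2 ∈ N → z ∉ N → ρ z v = (-1 : K) • v := by
    intro z hz hz2 hzN
    obtain ⟨c, hc⟩ := hc z hz
    have h2 : (c * c) • v = (1 : K) • v := by
      have h3 := ((hN _).1 hz2).2
      rw [pow_two, rep_self_mul_apply, hc, map_smul, hc, smul_smul] at h3
      rw [h3, one_smul]
    have h4 := smul_left_injective K hv h2
    rcases mul_self_eq_one_iff.1 h4 with rfl | rfl
    · exact absurd ((hN z).2 ⟨hz, by rw [hc, one_smul]⟩) hzN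
    · exact hc
  refine (hN _).2 ⟨mul_mem (inv_mem hz) hw, ?_⟩
  rw [rep_self_mul_apply, key w hw hw2 hwN, ← key z hz hz2 hzN, rep_inv_apply_self]

end IsEigKer

/-- A map that is injective modulo `Φ` and keeps `A ≥ Φ` keeps the outside of `A` outside. -/
theorem mem_of_semiregular [Finite Γ] {Q Φ A : Subgroup Γ} {h u : Γ} (hQΦ : Q ≤ normalizer (Φ : Set Γ))
    (hder : ∀ u ∈ Q, ∀ v ∈ Q, ⁅u, v⁆ ∈ Φ) (hAQ : A ≤ Q) (hΦA : ∀ z ∈ Φ, z ∈ Q → z ∈ A)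
    (hhQ : h ∈ normalizer (Q : Set Γ)) (hhΦ : h ∈ normalizer (Φ : Set Γ))
    (hinj : ∀ w ∈ Q, ⁅h, w⁆ ∈ Φ → w ∈ Φ) (hA : ∀ w ∈ A, ⁅h, w⁆ ∈ A) (hu : u ∈ Q)
    (hu' : ⁅h, u⁆ ∈ A) : u ∈ A := by
  classical
  have : Fintype A := Fintype.ofFinite A
  have hnA : (Φ.subgroupOf A).Normal :=
    ⟨fun z hz w => show (w : Γ) * z * (w : Γ)⁻¹ ∈ Φ from conj_mem (hQΦ (hAQ w.2)) hz⟩
  -- equality modulo `Φ` of commutators gives equality modulo `Φ`
  have key : ∀ y ∈ Q, ∀ w ∈ Q, ⁅h, y⁆⁻¹ * ⁅h, w⁆ ∈ Φ → y⁻¹ * w ∈ Φ := by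
    intro y hy w hw hyw
    refine hinj _ (mul_mem (inv_mem hy) hw) ?_
    rw [show ⁅h, y⁻¹ * w⁆ = y⁻¹ * (⁅h, y⁆⁻¹ * ⁅h, w⁆) * y by
      simp only [commutatorElement_def]; group]
    exact inv_conj_mem (hQΦ hy) hyw
  let F : A ⧸ Φ.subgroupOf A → A ⧸ Φ.subgroupOf A :=
    fun x => QuotientGroup.mk ⟨⁅h, (x.out : A)⁆, hA _ x.out.2⟩
  have hF : Function.Injective F := by
    intro x y hxy
    rw [← QuotientGroup.out_eq' x, ← QuotientGroup.out_eq' y, QuotientGroup.eq]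
    exact key _ (hAQ x.out.2) _ (hAQ y.out.2) (QuotientGroup.eq.1 hxy : _)
  obtain ⟨x, hx⟩ := Finite.surjective_of_injective hF (QuotientGroup.mk ⟨_, hu'⟩)
  have hx' : (QuotientGroup.mk (⟨⁅h, (x.out : A).1⁆, hA _ x.out.2⟩ : A) : A ⧸ Φ.subgroupOf A)
      = QuotientGroup.mk ⟨_, hu'⟩ := hx
  rw [QuotientGroup.eq] at hx'
  have h1 : ⁅h, (x.out : A).1⁆⁻¹ * ⁅h, u⁆ ∈ Φ := hx'
  have h2 := key _ (hAQ x.out.2) u hu h1
  have h3 := mul_mem x.out.2 (hΦA _ h2 (mul_mem (inv_mem (hAQ x.out.2)) hu))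
  rwa [mul_inv_cancel_left] at h3

variable [Finite Γ] [IsAlgClosed K] [FiniteDimensional K V]

/-- A common eigenvector of commuting operators gives an eigen-kernel. -/
theorem exists_isEigKer (ρ : Representation K Γ V) {Φ : Subgroup Γ} {W : Submodule K V} (hW : W ≠ ⊥)
    (hinv : ∀ z ∈ Φ, ∀ x ∈ W, ρ z x ∈ W)
    (hcomm : ∀ y ∈ Φ, ∀ z ∈ Φ, ∀ x ∈ W, ρ (y * z) x = ρ (z * y) x) :
    ∃ N, IsEigKer ρ Φ N ∧ ∃ v ∈ W, v ≠ 0 ∧ ∀ z, z ∈ N ↔ z ∈ Φ ∧ ρ z v = v := by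
  obtain ⟨v, χ, hvW, hv0, hvχ⟩ := exists_weight ρ Φ hW hinv hcomm
  let N : Subgroup Γ :=
    { carrier := {z | z ∈ Φ ∧ ρ z v = v}
      one_mem' := ⟨one_mem _, by simp⟩
      mul_mem' := fun {a b} ha hb => ⟨mul_mem ha.1 hb.1, by rw [rep_self_mul_apply, hb.2, ha.2]⟩
      inv_mem' := fun {a} ha => ⟨inv_mem ha.1, by
        conv_lhs => rw [← ha.2]
        exact rep_inv_apply_self ρ a v⟩ }
  exact ⟨N, ⟨v, hv0, fun z hz => ⟨χ z, hvχ z hz⟩, fun _ => Iff.rfl⟩, v, hvW, hv0, fun _ => Iff.rfl⟩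

set_option maxHeartbeats 1000000 in
/-- **The constituent lemma.** -/
theorem exists_constituent [Nontrivial V] (ρ : Representation K Γ V) {Q Φ : Subgroup Γ} {g : Γ}
    {n q : ℕ} [hq : Fact q.Prime] (hQ : IsPGroup q Q) (hgQ : g ∈ normalizer (Q : Set Γ))
    (hgΦ : g ∈ normalizer (Φ : Set Γ)) (hQΦ : Q ≤ normalizer (Φ : Set Γ))
    (hn : 1 < n) (hgn : ρ (g ^ n) = 1)
    (hΦQ : ∀ z ∈ Φ, ∀ u ∈ Q, ρ (z * u) = ρ (u * z)) (hΦg : ∀ z ∈ Φ, ρ (z * g) = ρ (g * z))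
    (hΦΦ : ∀ z ∈ Φ, ∀ y ∈ Φ, ρ (z * y) = ρ (y * z))
    (hder : ∀ u ∈ Q, ∀ v ∈ Q, ⁅u, v⁆ ∈ Φ)
    (hsemi : ∀ u ∈ Q, ∀ i : ℕ, 0 < i → i < n → ⁅g ^ i, u⁆ ∈ Φ → u ∈ Φ)
    (hgen : Q ≤ ⁅Q, zpowers g⁆) (hfix : ∀ v : V, (∀ u ∈ Q, ρ u v = v) → v = 0)
    (f : K[X]) (hf0 : f ≠ 0) (hfdeg : f.natDegree < n) (hf : aeval (ρ g) f = 0) :
    ∃ N : Subgroup Γ, IsEigKer ρ Φ N ∧ ∃ b : ℕ, 1 ≤ b ∧ n = q ^ b + 1 ∧ q ^ b ≤ f.natDegree ∧
      (radMod Q N).relIndex Q = q ^ b * q ^ b := by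
  -- a minimal invariant subspace
  obtain ⟨U, ⟨hUb, hUQ, hUΦ, hUg⟩, hmin⟩ := wellFounded_lt.has_min
    {W : Submodule K V | W ≠ ⊥ ∧ (∀ u ∈ Q, u ∈ stabSub ρ W) ∧ (∀ z ∈ Φ, z ∈ stabSub ρ W) ∧
      g ∈ stabSub ρ W}
    ⟨⊤, top_ne_bot, fun _ _ _ _ => Submodule.mem_top, fun _ _ _ _ => Submodule.mem_top,
      fun _ _ => Submodule.mem_top⟩
  have hUmin : ∀ W : Submodule K V, W ≤ U → W ≠ ⊥ → (∀ u ∈ Q, ∀ x ∈ W, ρ u x ∈ W) →
      (∀ z ∈ Φ, ∀ x ∈ W, ρ z x ∈ W) → (∀ x ∈ W, ρ g x ∈ W) → W = U := fun W hle hb h1 h2 h3 =>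
    eq_of_le_of_not_lt hle fun hlt => hmin W ⟨hb, h1, h2, h3⟩ hlt
  have hΦcomm : ∀ y ∈ Φ, ∀ z ∈ Φ, ∀ x ∈ U, ρ (y * z) x = ρ (z * y) x := fun y hy z hz x _ => by
    rw [hΦΦ y hy z hz]
  -- `Φ` acts by scalars on `U`
  obtain ⟨v, θ, hvU, hv0, hvθ⟩ := exists_weight ρ Φ hUb hUΦ hΦcomm
  have hscal : ∀ x ∈ U, ∀ z ∈ Φ, ρ z x = θ z • x := by
    set W := U ⊓ charSpace ρ Φ θ
    have hW : W = U := by
      refine hUmin W inf_le_left ((Submodule.ne_bot_iff _).2 ⟨v, ⟨hvU, hvθ⟩, hv0⟩) ?_ ?_ ?_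
      · exact fun u hu x hx => ⟨hUQ u hu x hx.1, fun z hz => by
          rw [← rep_self_mul_apply, hΦQ z hz u hu, rep_self_mul_apply, hx.2 z hz, map_smul]⟩
      · exact fun y hy x hx => ⟨hUΦ y hy x hx.1, fun z hz => by
          rw [← rep_self_mul_apply, hΦΦ z hz y hy, rep_self_mul_apply, hx.2 z hz, map_smul]⟩
      · exact fun x hx => ⟨hUg x hx.1, fun z hz => by
          rw [← rep_self_mul_apply, hΦg z hz, rep_self_mul_apply, hx.2 z hz, map_smul]⟩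
    exact fun x hx z hz => (hW.ge hx).2 z hz
  let N : Subgroup Γ :=
    { carrier := {z | z ∈ Φ ∧ ρ z v = v}
      one_mem' := ⟨one_mem _, by simp⟩
      mul_mem' := fun {a b} ha hb => ⟨mul_mem ha.1 hb.1, by rw [rep_self_mul_apply, hb.2, ha.2]⟩
      inv_mem' := fun {a} ha => ⟨inv_mem ha.1, by
        conv_lhs => rw [← ha.2]
        exact rep_inv_apply_self ρ a v⟩ }
  have hN : IsEigKer ρ Φ N := ⟨v, hv0, fun z hz => ⟨θ z, hvθ z hz⟩, fun _ => Iff.rfl⟩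
  have hNU : ∀ z, z ∈ N ↔ z ∈ Φ ∧ ∀ x ∈ U, ρ z x = x := fun z => by
    refine ⟨fun hz => ⟨hz.1, fun x hx => ?_⟩, fun hz => ⟨hz.1, hz.2 v hvU⟩⟩
    have h1 : θ z • v = (1 : K) • v := by rw [one_smul, ← hvθ z hz.1]; exact hz.2
    rw [hscal x hx z hz.1, smul_left_injective K hv0 h1, one_smul]
  have hQN : Q ≤ normalizer (N : Set Γ) := fun u hu => hN.mem_normalizer (hQΦ hu) fun z hz => by
    rw [map_mul, ← hΦQ z hz u hu, ← map_mul, mul_assoc, mul_inv_cancel, mul_one]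
  have hgN : g ∈ normalizer (N : Set Γ) := hN.mem_normalizer hgΦ fun z hz => by
    rw [map_mul, ← hΦg z hz, ← map_mul, mul_assoc, mul_inv_cancel, mul_one]
  set A := radMod Q N with hAdef
  have hA : ∀ {u}, u ∈ A ↔ u ∈ Q ∧ ∀ w ∈ Q, ⁅u, w⁆ ∈ N := mem_radMod hQN
  have hgA : g ∈ normalizer (A : Set Γ) := mem_normalizer_radMod hgQ hgN
  have hAQ : A ≤ Q := radMod_le Q N
  have hΦA : ∀ z ∈ Φ, z ∈ Q → z ∈ A := fun z hz hzQ => hA.2 ⟨hzQ, fun w hw =>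
    hN.mem_of_rep_eq_one (hder z hzQ w hw) (by
      rw [commutatorElement_def, map_mul, map_mul, hΦQ z hz w hw, ← map_mul, ← map_mul]
      simp [mul_assoc])⟩
  have hAcomm : ∀ z ∈ A, ∀ u ∈ Q, ∀ x ∈ U, ρ (z * u) x = ρ (u * z) x := fun z hz u hu x hx => by
    rw [show z * u = ⁅z, u⁆ * (u * z) by simp only [commutatorElement_def]; group,
      rep_self_mul_apply]
    exact ((hNU _).1 ((hA.1 hz).2 u hu)).2 _
      ((mul_mem (show u ∈ stabSub ρ U from hUQ u hu) (hUQ z (hAQ hz))) x hx)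
  -- weights of `A`
  obtain ⟨w, χ, hwU, hw0, hwχ⟩ := exists_weight ρ A hUb (fun z hz => hUQ z (hAQ hz))
    fun y hy z hz x hx => hAcomm y hy z (hAQ hz) x hx
  have hgi : ∀ i : ℕ, g ^ i ∈ normalizer (A : Set Γ) := fun i => pow_mem hgA i
  have htrans : ∀ (i : ℕ) (z : Γ), z ∈ A →
      ρ z (ρ (g ^ i) w) = χ ((g ^ i)⁻¹ * z * g ^ i) • ρ (g ^ i) w := fun i z hz => by
    rw [← rep_self_mul_apply, show z * g ^ i = g ^ i * ((g ^ i)⁻¹ * z * g ^ i) by group,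
      rep_self_mul_apply, hwχ _ (inv_conj_mem (hgi i) hz), map_smul]
  have hχmul : ∀ y ∈ A, ∀ z ∈ A, χ (y * z) = χ y * χ z := fun y hy z hz => by
    refine smul_left_injective K hw0 ?_
    show χ (y * z) • w = (χ y * χ z) • w
    rw [← hwχ _ (mul_mem hy hz), rep_self_mul_apply, hwχ z hz, map_smul, hwχ y hy, smul_smul,
      mul_comm]
  have hχΦ : ∀ z ∈ Φ, z ∈ A → χ z = θ z := fun z hz hzA => by
    refine smul_left_injective K hw0 ?_
    show χ z • w = θ z • w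
    rw [← hwχ z hzA, hscal w hwU z hz]
  obtain ⟨i, hi0, hin, hiχ⟩ : ∃ i : ℕ, 0 < i ∧ i < n ∧ ∀ z ∈ A, χ ((g ^ i)⁻¹ * z * g ^ i) = χ z := by
    by_contra hno
    push Not at hno
    have h0 : ∑ j : Fin n, f.coeff j • ρ (g ^ (j : ℕ)) w = 0 := by
      have h1 := LinearMap.congr_fun hf w
      rw [aeval_eq_sum_range' hfdeg, LinearMap.sum_apply, LinearMap.zero_apply] at h1
      rw [Fin.sum_univ_eq_sum_range (fun j => f.coeff j • ρ (g ^ j) w) n]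
      simpa [map_pow] using h1
    have hind := eq_zero_of_sum_eigen ρ A (fun (j : Fin n) z => χ ((g ^ (j : ℕ))⁻¹ * z * g ^ (j : ℕ)))
      ?_ (fun j => f.coeff j • ρ (g ^ (j : ℕ)) w)
      (fun j z hz => by rw [map_smul, htrans j z hz, smul_comm]) h0
    · refine hf0 (Polynomial.ext fun m => ?_)
      rw [coeff_zero]
      rcases lt_or_ge m n with hm | hm
      · refine (smul_eq_zero.1 (hind ⟨m, hm⟩)).resolve_right fun e => hw0 ?_
        have h2 := congrArg (ρ (g ^ m)⁻¹) e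
        rwa [rep_inv_apply_self, map_zero] at h2
      · exact coeff_eq_zero_of_natDegree_lt (by omega)
    · intro c d hcd
      wlog hle : (c : ℕ) ≤ d generalizing c d
      · exact (this d c (fun z hz => (hcd z hz).symm) (le_of_not_ge hle)).symm
      by_contra hne
      have hlt : (c : ℕ) < d := lt_of_le_of_ne hle fun e => hne (Fin.ext e)
      obtain ⟨z, hz, hzne⟩ := hno ((d : ℕ) - c) (by omega) (by omega)
      refine hzne ?_
      have h3 := hcd (g ^ (c : ℕ) * z * (g ^ (c : ℕ))⁻¹) (conj_mem (hgi _) hz)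
      rw [show g ^ (d : ℕ) = g ^ (c : ℕ) * g ^ ((d : ℕ) - c) by
        rw [← pow_add, Nat.add_sub_cancel' hle]] at h3
      simp only [mul_inv_rev, mul_assoc, inv_mul_cancel_left, inv_mul_cancel, mul_one] at h3
      simp only [mul_assoc]
      exact h3.symm
  -- the semiregular map on `Q / (Φ ∩ Q)`
  set M := (Φ.subgroupOf Q) with hMdef
  have hMn : M.Normal := ⟨fun z hz u => show (u : Γ) * z * (u : Γ)⁻¹ ∈ Φ from conj_mem (hQΦ u.2) hz⟩
  have hgi' : ∀ u : Q, g ^ i * (u : Γ) * (g ^ i)⁻¹ ∈ Q := fun u => conj_mem (pow_mem hgQ i) u.2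
  let h₀ : Q →* Q ⧸ M :=
    { toFun := fun u => QuotientGroup.mk' M ⟨⁅g ^ i, (u : Γ)⁆,
        commutator_mem_of_normalizes (pow_mem hgQ i) u.2⟩
      map_one' := by
        rw [QuotientGroup.mk'_apply, QuotientGroup.eq_one_iff]
        show ⁅g ^ i, ((1 : Q) : Γ)⁆ ∈ Φ
        rw [Subgroup.coe_one, commutatorElement_one_right]
        exact one_mem Φ
      map_mul' := fun u u' => by
        rw [← map_mul, QuotientGroup.mk'_eq_mk']
        refine ⟨⟨(⁅g ^ i, ((u * u' : Q) : Γ)⁆)⁻¹ * (⁅g ^ i, (u : Γ)⁆ * ⁅g ^ i, (u' : Γ)⁆),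
          mul_mem (inv_mem (commutator_mem_of_normalizes (pow_mem hgQ i) (u * u').2))
            (mul_mem (commutator_mem_of_normalizes (pow_mem hgQ i) u.2)
              (commutator_mem_of_normalizes (pow_mem hgQ i) u'.2))⟩, ?_, Subtype.ext ?_⟩
        · show _ ∈ Φ
          have e : (⁅g ^ i, ((u * u' : Q) : Γ)⁆)⁻¹ * (⁅g ^ i, (u : Γ)⁆ * ⁅g ^ i, (u' : Γ)⁆)
              = (u : Γ) * ⁅(⁅g ^ i, (u' : Γ)⁆)⁻¹, (u : Γ)⁻¹⁆ * (u : Γ)⁻¹ := by
            simp only [commutatorElement_def, Subgroup.coe_mul]; group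
          have hmem : (⁅g ^ i, ((u * u' : Q) : Γ)⁆)⁻¹ * (⁅g ^ i, (u : Γ)⁆ * ⁅g ^ i, (u' : Γ)⁆) ∈ Φ := by
            rw [e]
            exact conj_mem (hQΦ u.2) (hder _
              (inv_mem (commutator_mem_of_normalizes (pow_mem hgQ i) u'.2)) _ (inv_mem u.2))
          exact hmem
        · simp only [Subgroup.coe_mul, mul_inv_cancel_left] }
  have hker : ∀ u : Q, h₀ u = 1 → (u : Γ) ∈ Φ := fun u hu =>
    hsemi u u.2 i hi0 hin ((QuotientGroup.eq_one_iff _).1 hu : _)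
  have hΦker : M ≤ h₀.ker := fun u hu => by
    refine MonoidHom.mem_ker.2 ((QuotientGroup.eq_one_iff _).2 ?_)
    show ⁅g ^ i, (u : Γ)⁆ ∈ Φ
    exact mul_mem (conj_mem (pow_mem hgΦ i) hu) (inv_mem hu)
  let φ : Q ⧸ M →* Q ⧸ M := QuotientGroup.lift M h₀ hΦker
  have hφ : Function.Injective φ := by
    rw [← MonoidHom.ker_eq_bot_iff, eq_bot_iff]
    intro x hx
    induction x using QuotientGroup.induction_on with
    | _ u => exact (QuotientGroup.eq_one_iff u).2 (hker u hx)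
  -- `[g ^ i, _]` maps `A` onto `A` modulo `Φ`
  have honto : ∀ z ∈ A, ∃ w ∈ A, w⁻¹ * z ∈ A ∧ ⁅g ^ i, w⁆⁻¹ * z ∈ Φ := by
    let Ab := (A.subgroupOf Q).map (QuotientGroup.mk' M)
    have hmap : Ab.map φ = Ab := by
      refine eq_of_le_of_card_ge ?_ (le_of_eq (card_map_of_injective hφ).symm)
      rintro _ ⟨_, ⟨u, hu, rfl⟩, rfl⟩
      exact ⟨_, show ⁅g ^ i, (u : Γ)⁆ ∈ A from commutator_mem_of_normalizes (hgi i) hu, rfl⟩
    intro z hz
    obtain ⟨_, ⟨u, hu, rfl⟩, he⟩ := hmap.ge (show QuotientGroup.mk' M ⟨z, hAQ hz⟩ ∈ Ab from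
      ⟨⟨z, hAQ hz⟩, hz, rfl⟩)
    exact ⟨u, hu, mul_mem (inv_mem hu) hz, (QuotientGroup.eq.1 he : _)⟩
  -- the weight is fixed by `g`
  have hgχ : ∀ z ∈ A, χ (g⁻¹ * z * g) = χ z := by
    have hfixi : ∀ z ∈ A, χ (g ^ i * z * (g ^ i)⁻¹) = χ z := fun z hz => by
      have h1 := hiχ _ (conj_mem (hgi i) hz)
      rw [show (g ^ i)⁻¹ * (g ^ i * z * (g ^ i)⁻¹) * g ^ i = z by group] at h1
      exact h1.symm
    have hone : χ 1 = 1 := smul_left_injective K hw0 (by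
      show χ 1 • w = (1 : K) • w
      rw [← hwχ 1 (one_mem A), map_one, Module.End.one_apply, one_smul])
    have hcomm0 : ∀ y ∈ A, χ ⁅g ^ i, y⁆ = 1 := fun y hy => by
      rw [commutatorElement_def, hχmul _ (conj_mem (hgi i) hy) _ (inv_mem hy), hfixi y hy,
        ← hχmul _ hy _ (inv_mem hy), mul_inv_cancel, hone]
    intro z hz
    obtain ⟨y, hy, -, hyz⟩ := honto z hz
    have hd : ⁅g ^ i, y⁆ ∈ A := commutator_mem_of_normalizes (hgi i) hy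
    have hz' : z = ⁅g ^ i, y⁆ * (⁅g ^ i, y⁆⁻¹ * z) := (mul_inv_cancel_left _ _).symm
    have hrA : ⁅g ^ i, y⁆⁻¹ * z ∈ A := mul_mem (inv_mem hd) hz
    have hr : χ (g⁻¹ * (⁅g ^ i, y⁆⁻¹ * z) * g) = χ (⁅g ^ i, y⁆⁻¹ * z) := by
      rw [hχΦ _ (inv_conj_mem hgΦ hyz) (inv_conj_mem hgA hrA), hχΦ _ hyz hrA]
      refine smul_left_injective K hv0 ?_
      show θ _ • v = θ _ • v
      rw [← hvθ _ (inv_conj_mem hgΦ hyz), ← hvθ _ hyz]
      rw [show g⁻¹ * (⁅g ^ i, y⁆⁻¹ * z) * g = g⁻¹ * ((⁅g ^ i, y⁆⁻¹ * z) * g) by group, map_mul,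
        hΦg _ hyz, ← map_mul, inv_mul_cancel_left]
    have hdi : χ (g⁻¹ * ⁅g ^ i, y⁆ * g) = χ ⁅g ^ i, y⁆ := by
      rw [hcomm0 y hy, show g⁻¹ * ⁅g ^ i, y⁆ * g = ⁅g ^ i, g⁻¹ * y * g⁆ by
        have e : Commute (g ^ i) g := Commute.pow_self g i
        simp only [commutatorElement_def]
        calc g⁻¹ * (g ^ i * y * (g ^ i)⁻¹ * y⁻¹) * g
            = (g⁻¹ * g ^ i * g) * (g⁻¹ * y * g) * (g⁻¹ * (g ^ i)⁻¹ * g) * (g⁻¹ * y⁻¹ * g) := by group
          _ = g ^ i * (g⁻¹ * y * g) * (g ^ i)⁻¹ * (g⁻¹ * y * g)⁻¹ := by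
            rw [show g⁻¹ * g ^ i * g = g ^ i by rw [mul_assoc, e.eq, inv_mul_cancel_left],
              show g⁻¹ * (g ^ i)⁻¹ * g = (g ^ i)⁻¹ by
                rw [mul_assoc, e.inv_left.eq, inv_mul_cancel_left]]
            group, hcomm0 _ (inv_conj_mem hgA hy)]
    rw [hz', show g⁻¹ * (⁅g ^ i, y⁆ * (⁅g ^ i, y⁆⁻¹ * z)) * g
        = (g⁻¹ * ⁅g ^ i, y⁆ * g) * (g⁻¹ * (⁅g ^ i, y⁆⁻¹ * z) * g) by group,
      hχmul _ (inv_conj_mem hgA hd) _ (inv_conj_mem hgA hrA), hdi, hr, ← hχmul _ hd _ hrA]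
  -- `A` acts by scalars on `U`
  have hAscal : ∀ x ∈ U, ∀ z ∈ A, ρ z x = χ z • x := by
    set W := U ⊓ charSpace ρ A χ
    have hW : W = U := by
      refine hUmin W inf_le_left ((Submodule.ne_bot_iff _).2 ⟨w, ⟨hwU, hwχ⟩, hw0⟩) ?_ ?_ ?_
      · exact fun u hu x hx => ⟨hUQ u hu x hx.1, fun z hz => by
          rw [← rep_self_mul_apply, hAcomm z hz u hu x hx.1, rep_self_mul_apply, hx.2 z hz,
            map_smul]⟩
      · exact fun y hy x hx => ⟨hUΦ y hy x hx.1, fun z hz => by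
          rw [← rep_self_mul_apply, ← hΦQ y hy z (hAQ hz), rep_self_mul_apply, hx.2 z hz, map_smul]⟩
      · refine fun x hx => ⟨hUg x hx.1, fun z hz => ?_⟩
        rw [← rep_self_mul_apply, show z * g = g * (g⁻¹ * z * g) by group, rep_self_mul_apply,
          hx.2 _ (inv_conj_mem hgA hz), map_smul, hgχ z hz]
    exact fun x hx z hz => (hW.ge hx).2 z hz
  -- `A` is not all of `Q`
  have hAne : A ≠ Q := fun e => hv0 (hfix v fun u hu => by
    let F : Subgroup Γ :=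
      { carrier := {y | y ∈ Q ∧ ρ y v = v}
        one_mem' := ⟨one_mem _, by simp⟩
        mul_mem' := fun {a b} ha hb => ⟨mul_mem ha.1 hb.1, by rw [rep_self_mul_apply, hb.2, ha.2]⟩
        inv_mem' := fun {a} ha => ⟨inv_mem ha.1, by
          conv_lhs => rw [← ha.2]
          exact rep_inv_apply_self ρ a v⟩ }
    refine ((hgen.trans (commutator_zpowers_le hgQ (H := F) fun y hy => ⟨?_, ?_⟩)) hu).2
    · rw [← commutatorElement_inv]; exact inv_mem (commutator_mem_of_normalizes hgQ hy)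
    · have hyA : y ∈ A := e.symm ▸ hy
      rw [commutatorElement_def, show y * g * y⁻¹ * g⁻¹ = y * (g * y⁻¹ * g⁻¹) by group,
        rep_self_mul_apply, hAscal v hvU _ (conj_mem hgA (inv_mem hyA)), map_smul,
        hAscal v hvU y hyA, smul_smul]
      have h1 : χ (g * y⁻¹ * g⁻¹) = χ y⁻¹ := by
        have h2 := hgχ _ (conj_mem hgA (inv_mem hyA))
        rw [show g⁻¹ * (g * y⁻¹ * g⁻¹) * g = y⁻¹ by group] at h2
        exact h2.symm
      rw [h1, ← smul_smul, ← hAscal v hvU y hyA, ← map_smul, ← hAscal v hvU _ (inv_mem hyA)]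
      exact rep_self_apply_inv ρ y v)
  -- the image group on `U`
  have : Nontrivial U := Submodule.nontrivial_iff_ne_bot.2 hUb
  set S := stabSub ρ U
  let σ : Representation K S U := restrictRep ρ S U fun s hs x hx => hs x hx
  let e : S →* σ.asGroupHom.range := σ.asGroupHom.rangeRestrict
  have : Finite σ.asGroupHom.range := Finite.of_surjective e σ.asGroupHom.rangeRestrict_surjective
  let τ : Representation K σ.asGroupHom.range U :=
    (Units.coeHom (U →ₗ[K] U)).comp σ.asGroupHom.range.subtype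
  have hτ : ∀ s : S, τ (e s) = σ s := fun s => Representation.asGroupHom_apply σ s
  have hτx : ∀ (s : S) (x : U), ((τ (e s) x : U) : V) = ρ (s : Γ) x := fun s x => by rw [hτ]; rfl
  have hinj : Function.Injective τ := fun x y h => Subtype.ext (Units.ext h)
  set Q' := (Q.subgroupOf S).map e
  have hQS : Q ≤ S := fun u hu => hUQ u hu
  let π : Q →* Q' :=
    { toFun := fun u => ⟨e ⟨u, hQS u.2⟩, ⟨_, u.2, rfl⟩⟩
      map_one' := Subtype.ext (map_one e)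
      map_mul' := fun u u' => Subtype.ext (map_mul e ⟨u, hQS u.2⟩ ⟨u', hQS u'.2⟩) }
  have hπ : Function.Surjective π := by
    rintro ⟨_, ⟨u, hu⟩, hu', rfl⟩
    exact ⟨⟨u, hu'⟩, rfl⟩
  have hcenter : ∀ u : Q, π u ∈ Subgroup.center Q' ↔ (u : Γ) ∈ A := by
    intro u
    rw [Subgroup.mem_center_iff]
    refine ⟨fun hc => hA.2 ⟨u.2, fun w hw => (hNU _).2 ⟨hder _ u.2 w hw, fun x hx => ?_⟩⟩,
      fun hu y => ?_⟩
    · have h1 := congrArg (fun t : Q' => τ (t : σ.asGroupHom.range)) (hc (π ⟨w, hw⟩))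
      have h2 : ∀ z ∈ U, ρ (w * (u : Γ)) z = ρ ((u : Γ) * w) z := fun z hz => by
        have h3 := congrArg (fun t : Module.End K U => ((t ⟨z, hz⟩ : U) : V)) h1
        simp only [Subgroup.coe_mul, map_mul] at h3
        rw [rep_self_mul_apply, rep_self_mul_apply]
        exact h3
      have hx' : ρ ((u : Γ)⁻¹ * w⁻¹) x ∈ U :=
        (mul_mem (inv_mem (hQS u.2)) (inv_mem (hQS hw))) x hx
      rw [commutatorElement_def, show (u : Γ) * w * (u : Γ)⁻¹ * w⁻¹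
        = (u : Γ) * w * ((u : Γ)⁻¹ * w⁻¹) by group, rep_self_mul_apply, ← h2 _ hx',
        ← rep_self_mul_apply]
      simp
    · obtain ⟨w, rfl⟩ := hπ y
      refine Subtype.ext (hinj (LinearMap.ext fun x => Subtype.ext ?_))
      simp only [Subgroup.coe_mul, map_mul, Module.End.mul_apply]
      show ((τ (e _) (τ (e _) x) : U) : V) = ((τ (e _) (τ (e _) x) : U) : V)
      rw [hτx, hτx, hτx, hτx, ← rep_self_mul_apply, ← rep_self_mul_apply]
      exact (hAcomm _ hu w w.2 x x.2).symm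
  have hcrit : Critical τ Q' q := by
    refine ⟨hinj, (hQ.of_equiv (subgroupOfEquivOfLe hQS).symm).map e, fun z hz => ?_,
      fun y z => ?_, fun htop => hAne (le_antisymm hAQ fun u hu => ?_)⟩
    · obtain ⟨u, rfl⟩ := hπ z
      refine ⟨χ (u : Γ), LinearMap.ext fun x => Subtype.ext ?_⟩
      show ((τ (e _) x : U) : V) = χ (u : Γ) • (x : V)
      rw [hτx]
      exact hAscal x x.2 _ ((hcenter u).1 hz)
    · obtain ⟨y, rfl⟩ := hπ y
      obtain ⟨z, rfl⟩ := hπ z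
      rw [← map_inv, ← map_inv, ← map_mul, ← map_mul, ← map_mul, hcenter]
      refine hΦA _ ?_ (y * z * y⁻¹ * z⁻¹).2
      simp only [Subgroup.coe_mul, Subgroup.coe_inv, ← commutatorElement_def]
      exact hder _ y.2 _ z.2
    · exact (hcenter ⟨u, hu⟩).1 (htop ▸ Subgroup.mem_top _)
  set x := e ⟨g, hUg⟩
  have hxQ : ∀ y ∈ Q', x * y * x⁻¹ ∈ Q' := by
    rintro _ ⟨⟨u, hu⟩, hu', rfl⟩
    rw [← map_inv, ← map_mul, ← map_mul]
    exact ⟨_, show g * u * g⁻¹ ∈ Q from conj_mem hgQ hu', rfl⟩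
  have hxn : x ^ n = 1 := by
    refine hinj (LinearMap.ext fun y => Subtype.ext ?_)
    rw [← map_pow e, map_one, hτx]
    show ρ (g ^ n) y = (y : V)
    rw [hgn]; rfl
  have hirr : ∀ W : Submodule K U, (∀ y ∈ Q', ∀ z ∈ W, τ y z ∈ W) → (∀ z ∈ W, τ x z ∈ W) →
      W = ⊥ ∨ W = ⊤ := by
    intro W h1 h2
    refine or_iff_not_imp_left.2 fun hb => Submodule.map_injective_of_injective U.subtype_injective ?_
    rw [Submodule.map_top, Submodule.range_subtype]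
    refine hUmin _ (Submodule.map_subtype_le U W) (fun e => hb (eq_bot_of_map_subtype e)) ?_ ?_ ?_
    · rintro u hu _ ⟨y, hy, rfl⟩
      exact ⟨_, h1 _ ⟨⟨u, hQS hu⟩, hu, rfl⟩ y hy, hτx _ _⟩
    · rintro z hz _ ⟨y, hy, rfl⟩
      exact ⟨θ z • y, W.smul_mem _ hy, (hscal y y.2 z hz).symm⟩
    · rintro _ ⟨y, hy, rfl⟩
      exact ⟨_, h2 y hy, hτx _ _⟩
  have hdeg : deg (τ x) ≤ f.natDegree := by
    refine deg_le_of_aeval_eq_zero hf0 (LinearMap.ext fun y => Subtype.ext ?_)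
    rw [show τ x = (ρ g).restrict (fun z (hz : z ∈ U) => hUg z hz) from
        LinearMap.ext fun z => Subtype.ext (hτx _ z),
      aeval_restrict_apply, hf]
    rfl
  have hfree : ∀ (u v : Q') (i : ℕ), 0 < i → i < n →
      (v : σ.asGroupHom.range) = x ^ i * u * (x ^ i)⁻¹ → u⁻¹ * v ∈ Subgroup.center Q' →
      u ∈ Subgroup.center Q' := by
    intro y z j hj0 hjn hz hc
    obtain ⟨u, rfl⟩ := hπ y
    have hu' : g ^ j * (u : Γ) * (g ^ j)⁻¹ ∈ Q := conj_mem (pow_mem hgQ j) u.2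
    have hzu : z = π ⟨_, hu'⟩ := Subtype.ext (by
      rw [hz]
      show x ^ j * e _ * (x ^ j)⁻¹ = e ⟨_, _⟩
      rw [← map_pow, ← map_inv, ← map_mul, ← map_mul]
      rfl)
    rw [hzu, ← map_inv, ← map_mul, hcenter] at hc
    rw [hcenter]
    have h1 : ⁅g ^ j, (u : Γ)⁆ ∈ A := by
      have h2 := conj_mem (show (u : Γ) ∈ normalizer (A : Set Γ) from
        mem_normalizer_radMod (le_normalizer u.2) (hQN u.2)) hc
      rwa [show (u : Γ) * (((u⁻¹ * ⟨_, hu'⟩ : Q) : Γ)) * (u : Γ)⁻¹ = ⁅g ^ j, (u : Γ)⁆ by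
        simp [commutatorElement_def, mul_assoc]] at h2
    -- `[g ^ j, _]` is injective on `Q / A`
    have hinj2 : ∀ w ∈ A, ⁅g ^ j, w⁆ ∈ A := fun w hw => commutator_mem_of_normalizes (hgi j) hw
    exact mem_of_semiregular hQΦ hder hAQ (fun z hz hzQ => hΦA z hz hzQ) (pow_mem hgQ j)
      (pow_mem hgΦ j) (fun w hw => hsemi w hw j hj0 hjn) hinj2 u.2 h1
  rcases hcrit.deg_bound_card hxQ hn hxn hfree hirr with h | ⟨b, hb1, hbn, hbdeg, hbcard⟩
  · omega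
  refine ⟨N, hN, b, hb1, hbn, hbdeg ▸ hdeg, ?_⟩
  rw [← hbcard]
  show (A.subgroupOf Q).index = _
  let ψ : Q →* Q' ⧸ Subgroup.center Q' := (QuotientGroup.mk' _).comp π
  have hψ : ψ.ker = A.subgroupOf Q := by
    ext u
    rw [MonoidHom.mem_ker, MonoidHom.comp_apply, QuotientGroup.mk'_apply, QuotientGroup.eq_one_iff,
      hcenter, mem_subgroupOf]
  have hψs : Function.Surjective ψ := (QuotientGroup.mk'_surjective _).comp hπ
  rw [← hψ, Subgroup.index_eq_card]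
  exact Nat.card_congr (QuotientGroup.quotientKerEquivOfSurjective ψ hψs).toEquiv

end CfsgLib.CoprimeHeight
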