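import Cfsg.Agent.Lib.CoprimeHeight.Frob
import Cfsg.Agent.Lib.Coprime.Action

/-!
# The engine: functionals and fixed points

`a` of prime order acts on a module `V` on which `E = [E, a]` fixes nothing. If every functional of
a separating family that `a` moves kills `B`, then whatever moves the fixed points of `a` only
inside `B` fixes them.
-/

set_option autoImplicit false

namespace CfsgLib.CoprimeHeight

open Subgroup CfsgLib.FixedFree
open scoped commutatorElement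

universe u v w

variable {K : Type u} [Field K] {V : Type v} [AddCommGroup V] [Module K V] {Γ : Type w} [Group Γ]

/-- The functional `χ` composed with the action of `g`. -/
def tw (ρ : Representation K Γ V) (χ : Module.Dual K V) (g : Γ) : Module.Dual K V := χ.comp (ρ g)

theorem tw_apply (ρ : Representation K Γ V) (χ : Module.Dual K V) (g : Γ) (v : V) :
    tw ρ χ g v = χ (ρ g v) := rfl

theorem tw_tw (ρ : Representation K Γ V) (χ : Module.Dual K V) (g h : Γ) :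
    tw ρ (tw ρ χ g) h = tw ρ χ (g * h) :=
  LinearMap.ext fun v => congrArg χ (rep_self_mul_apply ρ g h v).symm

theorem tw_one (ρ : Representation K Γ V) (χ : Module.Dual K V) : tw ρ χ 1 = χ :=
  LinearMap.ext fun v => by rw [tw_apply, map_one]; rfl

theorem tw_congr {ρ : Representation K Γ V} (χ : Module.Dual K V) {g h : Γ} (e : ρ g = ρ h) :
    tw ρ χ g = tw ρ χ h := by rw [tw, tw, e]

theorem tw_inj (ρ : Representation K Γ V) {χ ψ : Module.Dual K V} {g : Γ}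
    (e : tw ρ χ g = tw ρ ψ g) : χ = ψ := by
  have := congrArg (fun f => tw ρ f g⁻¹) e
  simpa [tw_tw, tw_one] using this

/-- The stabiliser of a functional. -/
def dualStab (ρ : Representation K Γ V) (χ : Module.Dual K V) : Subgroup Γ where
  carrier := {g | tw ρ χ g = χ}
  one_mem' := tw_one ρ χ
  mul_mem' {g h} hg hh := by
    show tw ρ χ (g * h) = χ
    rw [← tw_tw, show tw ρ χ g = χ from hg, show tw ρ χ h = χ from hh]
  inv_mem' {g} hg := by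
    show tw ρ χ g⁻¹ = χ
    conv_lhs => rw [← show tw ρ χ g = χ from hg]
    rw [tw_tw, mul_inv_cancel, tw_one]

theorem mem_dualStab {ρ : Representation K Γ V} {χ : Module.Dual K V} {g : Γ} :
    g ∈ dualStab ρ χ ↔ tw ρ χ g = χ := Iff.rfl

/-- The elements `g` such that `a` fixes `χ ∘ ρ g`. -/
def fixSet (ρ : Representation K Γ V) (a : Γ) (χ : Module.Dual K V) (g : Γ) : Prop :=
  tw ρ χ (g * a) = tw ρ χ g

theorem fixSet_iff {ρ : Representation K Γ V} {a : Γ} {χ : Module.Dual K V} (ha : tw ρ χ a = χ)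
    {g : Γ} : fixSet ρ a χ g ↔ ⁅g, a⁆ ∈ dualStab ρ χ := by
  rw [fixSet, mem_dualStab, commutatorElement_def]
  refine ⟨fun e => ?_, fun e => ?_⟩
  · rw [show g * a * g⁻¹ * a⁻¹ = g * a * (g⁻¹ * a⁻¹) by group, ← tw_tw, e, tw_tw,
      mul_inv_cancel_left]
    exact dualStab ρ χ |>.inv_mem (show a ∈ dualStab ρ χ from ha)
  · rw [show g * a = g * a * g⁻¹ * a⁻¹ * (a * g) by group, ← tw_tw, e, ← tw_tw, ha]

variable [Finite Γ]

/-- `a` is fixed-point-free on `N₀` modulo `F` if its fixed points lie in `F`. -/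
theorem mem_of_commutator_pow_mem {a : Γ} {r : ℕ} (hr : r.Prime) (ha : a ^ r = 1)
    {N₀ F : Subgroup Γ} (haN : a ∈ normalizer (N₀ : Set Γ)) (haF : a ∈ normalizer (F : Set Γ))
    (hF : F ≤ N₀) (hcop : (Nat.card N₀).Coprime r) (hsol : Group.IsSolvable N₀)
    (hfix : ∀ c ∈ N₀, a * c = c * a → c ∈ F) {u : Γ} (hu : u ∈ N₀) {k : ℕ} (hk0 : 0 < k)
    (hkr : k < r) (h : ⁅u, a ^ k⁆ ∈ F) : u ∈ F := by
  have hiter : ∀ m : ℕ, ⁅u, (a ^ k) ^ m⁆ ∈ F := by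
    intro m
    induction m with
    | zero => simp
    | succ m ih =>
      rw [show ⁅u, (a ^ k) ^ (m + 1)⁆
          = ⁅u, (a ^ k) ^ m⁆ * ((a ^ k) ^ m * ⁅u, a ^ k⁆ * ((a ^ k) ^ m)⁻¹) by
        simp only [commutatorElement_def, pow_succ]; group]
      exact mul_mem ih (conj_mem (pow_mem (pow_mem haF k) m) h)
  obtain ⟨m, hm⟩ : ∃ m : ℕ, (a ^ k) ^ m = a := exists_pow_eq_self_of_coprime (by
    refine Nat.Coprime.coprime_dvd_right (orderOf_dvd_of_pow_eq_one ha) ?_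
    exact ((hr.coprime_iff_not_dvd).2 fun h => absurd (Nat.le_of_dvd hk0 h) (by omega)).symm)
  have hcop' : (Nat.card (zpowers a)).Coprime (Nat.card N₀) := by
    rw [Nat.card_zpowers]
    exact (hcop.coprime_dvd_right (orderOf_dvd_of_pow_eq_one ha)).symm
  obtain ⟨n, hn, hc⟩ := Coprime.exists_mem_centralizer_of_coset (zpowers_le.2 haN)
    (zpowers_le.2 haF) hF hcop' (Or.inr (Coprime.isSolvable_of_le hsol hF)) (inv_mem hu)
    fun b hb => by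
      obtain ⟨i, rfl⟩ : ∃ i : ℕ, a ^ i = b := mem_powers_iff_mem_zpowers.2 hb
      have h1 := hiter (m * i)
      rw [pow_mul, hm] at h1
      rw [inv_inv, ← commutatorElement_def]
      exact h1
  have h2 := mul_mem hn (inv_mem (hfix _ (mul_mem (inv_mem hu) (hF hn))
    (mem_centralizer_iff.1 hc a (mem_zpowers a))))
  rwa [mul_inv_rev, inv_inv, mul_inv_cancel_left] at h2

/-- The hypotheses of the engine. -/
structure EngineData (ρ : Representation K Γ V) (a : Γ) (r : ℕ) (Q E Φ : Subgroup Γ)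
    (Ω : Set (Module.Dual K V)) (B : Submodule K V) : Prop where
  prime : r.Prime
  pow_a : a ^ r = 1
  aQ : a ∈ normalizer (Q : Set Γ)
  aE : a ∈ normalizer (E : Set Γ)
  aΦ : a ∈ normalizer (Φ : Set Γ)
  EQ : E ≤ Q
  ΦQ : Φ ≤ Q
  cop : (Nat.card Q).Coprime r
  sol : Group.IsSolvable Q
  cent : ∀ z ∈ Φ, ∀ u ∈ Q, ρ (z * u) = ρ (u * z)
  der : ∀ u ∈ Q, ∀ v ∈ Q, ⁅u, v⁆ ∈ Φ
  gen : E ≤ ⁅E, zpowers a⁆
  noFix : commPart ρ E = ⊤
  twa : ∀ χ ∈ Ω, tw ρ χ a ∈ Ω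
  twQ : ∀ u ∈ Q, ∀ χ ∈ Ω, tw ρ χ u ∈ Ω
  sep : ∀ v, (∀ χ ∈ Ω, χ v = 0) → v = 0
  fixB : ∀ b ∈ B, ρ a b = b
  kill : ∀ χ ∈ Ω, tw ρ χ a ≠ χ → ∀ b ∈ B, χ b = 0

namespace EngineData

variable {ρ : Representation K Γ V} {a : Γ} {r : ℕ} {Q E Φ : Subgroup Γ}
  {Ω : Set (Module.Dual K V)} {B : Submodule K V}

theorem conj_rep (h : EngineData ρ a r Q E Φ Ω B) {z u : Γ} (hz : z ∈ Φ) (hu : u ∈ Q) :
    ρ (u * z * u⁻¹) = ρ z := by
  rw [map_mul, ← h.cent z hz u hu, ← map_mul, mul_assoc, mul_inv_cancel, mul_one]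

omit [Finite Γ] in
theorem conj_pow_commute {a : Γ} (k : ℕ) {y : Γ} (hy : y * a = a * y) :
    y * a ^ k = a ^ k * y := (Commute.pow_right (show Commute y a from hy) k).eq

/-- What `a`-fixed translates do to `χ`: the fundamental identity. -/
theorem sum_eq (h : EngineData ρ a r Q E Φ Ω B) {w x : Γ} (hxa : x * a = a * x) {c : V}
    (hc : ρ a c = c) :
    ρ a (∑ k ∈ Finset.range r, ρ (a ^ k * w⁻¹ * (a ^ k)⁻¹) c) =
      ∑ k ∈ Finset.range r, ρ (a ^ k * w⁻¹ * (a ^ k)⁻¹) c ∧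
    ρ x (∑ k ∈ Finset.range r, ρ (a ^ k * w⁻¹ * (a ^ k)⁻¹) c) =
      ∑ k ∈ Finset.range r, ρ (x * (a ^ k * w⁻¹ * (a ^ k)⁻¹)) c := by
  refine ⟨?_, by simp only [map_sum, rep_self_mul_apply]⟩
  have hc' : ∀ k : ℕ, ρ ((a ^ k)⁻¹) c = c := fun k => by
    have h1 : ρ (a ^ k) c = c := by
      induction k with
      | zero => simp
      | succ k ih => rw [pow_succ, rep_self_mul_apply, hc, ih]
    conv_lhs => rw [← h1]
    exact CfsgLib.HallHigman.rep_inv_apply_self ρ _ c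
  have e : ∀ k : ℕ, ρ (a ^ k * w⁻¹ * (a ^ k)⁻¹) c = ρ (a ^ k) (ρ w⁻¹ c) := fun k => by
    rw [rep_self_mul_apply, hc', rep_self_mul_apply]
  simp only [e, map_sum]
  have h1 : ∀ i, ρ a (ρ (a ^ i) (ρ w⁻¹ c)) = ρ (a ^ (i + 1)) (ρ w⁻¹ c) := fun i => by
    rw [← rep_self_mul_apply, ← pow_succ']
  simp only [h1]
  have h2 := Finset.sum_range_succ' (fun i => ρ (a ^ i) (ρ w⁻¹ c)) r
  rw [Finset.sum_range_succ (fun i => ρ (a ^ i) (ρ w⁻¹ c)) r, h.pow_a, pow_zero] at h2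
  exact (add_right_cancel h2).symm

/-- `w` is usable for `χ`: it moves `χ` and so does every `w * w_k⁻¹`, `0 < k < r`. -/
def Usable (ρ : Representation K Γ V) (a : Γ) (r : ℕ) (χ : Module.Dual K V) (w : Γ) : Prop :=
  ¬ fixSet ρ a χ w ∧ ∀ k, 0 < k → k < r → ¬ fixSet ρ a χ (w * (a ^ k * w⁻¹ * (a ^ k)⁻¹))

theorem apply_eq (h : EngineData ρ a r Q E Φ Ω B) {χ : Module.Dual K V} (hχ : χ ∈ Ω) {w : Γ}
    (hw : w ∈ Q) (hu : Usable ρ a r χ w) {b : V} (hb : b ∈ B) :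
    (∑ k ∈ Finset.range r, χ (ρ (w * (a ^ k * w⁻¹ * (a ^ k)⁻¹)) b)) = χ b := by
  rw [Finset.sum_eq_single 0]
  · simp
  · intro k hk hk0
    have hmem : w * (a ^ k * w⁻¹ * (a ^ k)⁻¹) ∈ Q :=
      mul_mem hw (conj_mem (pow_mem h.aQ k) (inv_mem hw))
    exact h.kill _ (h.twQ _ hmem χ hχ) (fun e => hu.2 k (Nat.pos_of_ne_zero hk0)
      (Finset.mem_range.1 hk) (by rw [fixSet, ← tw_tw, e])) b hb
  · intro hn; exact absurd (Finset.mem_range.2 h.prime.pos) hn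

/-- If moved functionals kill every fixed vector then so does `χ`. -/
theorem apply_eq_zero (h : EngineData ρ a r Q E Φ Ω B) (hall : ∀ v, ρ a v = v → v ∈ B)
    {χ : Module.Dual K V} (hχ : χ ∈ Ω) {w : Γ} (hw : w ∈ Q) (hu : Usable ρ a r χ w) {c : V}
    (hc : ρ a c = c) : χ c = 0 := by
  obtain ⟨hs, -⟩ := h.sum_eq (w := w) (x := 1) (by simp) hc
  have h1 := h.kill _ (h.twQ w hw χ hχ) (fun e => hu.1 (by rw [fixSet, ← tw_tw, e])) _ (hall _ hs)
  simp only [tw_apply, map_sum, ← rep_self_mul_apply] at h1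
  rwa [h.apply_eq hχ hw hu (hall c hc)] at h1

/-- The two ways to show `χ (ρ x c - c) = 0`. -/
theorem apply_sub_eq_zero (h : EngineData ρ a r Q E Φ Ω B) {x : Γ} (hxa : x * a = a * x)
    (hxΩ : ∀ χ ∈ Ω, tw ρ χ x ∈ Ω) (hxB : ∀ c, ρ a c = c → ρ x c - c ∈ B)
    {χ : Module.Dual K V} (hχ : χ ∈ Ω) {w : Γ} (hw : w ∈ Q) (hu : Usable ρ a r χ w)
    (hcase : (∀ k < r, tw ρ χ (w * (x * (a ^ k * w⁻¹ * (a ^ k)⁻¹)))
        = tw ρ χ (w * (a ^ k * w⁻¹ * (a ^ k)⁻¹) * x)) ∨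
      (∀ k < r, ¬ fixSet ρ a χ (w * (x * (a ^ k * w⁻¹ * (a ^ k)⁻¹))))) {c : V} (hc : ρ a c = c) :
    χ (ρ x c - c) = 0 := by
  have key : ∀ d, ρ a d = d → ∑ k ∈ Finset.range r, χ (ρ (w * (x * (a ^ k * w⁻¹ * (a ^ k)⁻¹))) d)
      = ∑ k ∈ Finset.range r, χ (ρ (w * (a ^ k * w⁻¹ * (a ^ k)⁻¹)) d) := by
    intro d hd
    obtain ⟨hs1, hs2⟩ := h.sum_eq (w := w) hxa hd
    have h1 := h.kill _ (h.twQ w hw χ hχ) (fun e => hu.1 (by rw [fixSet, ← tw_tw, e])) _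
      (hxB _ hs1)
    rw [map_sub, sub_eq_zero, hs2] at h1
    simp only [tw_apply, map_sum, ← rep_self_mul_apply] at h1
    exact h1
  rcases hcase with h1 | h2
  · have h3 := key c hc
    rw [Finset.sum_congr rfl (fun k hk => show χ (ρ (w * (x * (a ^ k * w⁻¹ * (a ^ k)⁻¹))) c)
        = χ (ρ (w * (a ^ k * w⁻¹ * (a ^ k)⁻¹)) (ρ x c)) by
      rw [← tw_apply, h1 k (Finset.mem_range.1 hk), tw_apply, rep_self_mul_apply]),
      ← sub_eq_zero, ← Finset.sum_sub_distrib] at h3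
    simp only [← map_sub] at h3
    rwa [h.apply_eq hχ hw hu (hxB c hc)] at h3
  · -- `χ` kills `B`
    suffices hB : ∀ b ∈ B, χ b = 0 from hB _ (hxB c hc)
    intro b hb
    have h3 := key b (h.fixB b hb)
    rw [h.apply_eq hχ hw hu hb] at h3
    rw [← h3]
    refine Finset.sum_eq_zero fun k hk => ?_
    have hmem : tw ρ χ (w * (x * (a ^ k * w⁻¹ * (a ^ k)⁻¹))) ∈ Ω := by
      rw [← tw_tw, ← tw_tw]
      exact h.twQ _ (conj_mem (pow_mem h.aQ k) (inv_mem hw)) _ (hxΩ _ (h.twQ w hw χ hχ))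
    exact h.kill _ hmem (fun e => h2 k (Finset.mem_range.1 hk) (by rw [fixSet, ← tw_tw, e])) b hb

theorem isSolvable_le (h : EngineData ρ a r Q E Φ Ω B) {S : Subgroup Γ} (hS : S ≤ Q) :
    Group.IsSolvable S := Coprime.isSolvable_of_le h.sol hS

theorem coprime_le (h : EngineData ρ a r Q E Φ Ω B) {S : Subgroup Γ} (hS : S ≤ Q) :
    (Nat.card S).Coprime r := h.cop.coprime_dvd_left (card_dvd_of_le hS)

theorem conj_mem_dualStab {χ : Module.Dual K V} (hχa : tw ρ χ a = χ) {z : Γ}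
    (hz : z ∈ dualStab ρ χ) : a * z * a⁻¹ ∈ dualStab ρ χ :=
  mul_mem (mul_mem (show a ∈ dualStab ρ χ from hχa) hz) (inv_mem (show a ∈ dualStab ρ χ from hχa))

/-- The part of `Φ` keeping `χ` fixed. -/
def fixPhi (h : EngineData ρ a r Q E Φ Ω B) {χ : Module.Dual K V} (hχa : tw ρ χ a = χ) :
    Subgroup Γ where
  carrier := {g | g ∈ Φ ∧ fixSet ρ a χ g}
  one_mem' := ⟨one_mem Φ, by rw [fixSet, one_mul, hχa, tw_one]⟩
  mul_mem' {x y} hx hy := ⟨mul_mem hx.1 hy.1, by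
    rw [fixSet_iff hχa]
    have hd : ⁅y, a⁆ ∈ Φ := by
      rw [commutatorElement_def, show y * a * y⁻¹ * a⁻¹ = y * (a * y⁻¹ * a⁻¹) by group]
      exact mul_mem hy.1 (conj_mem h.aΦ (inv_mem hy.1))
    rw [show ⁅x * y, a⁆ = (x * ⁅y, a⁆ * x⁻¹) * ⁅x, a⁆ by simp only [commutatorElement_def]; group]
    refine mul_mem ?_ ((fixSet_iff hχa).1 hx.2)
    rw [mem_dualStab, tw_congr χ (h.conj_rep hd (h.ΦQ hx.1))]
    exact (fixSet_iff hχa).1 hy.2⟩
  inv_mem' {x} hx := ⟨inv_mem hx.1, by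
    rw [fixSet_iff hχa]
    have hd : ⁅x, a⁆⁻¹ ∈ Φ := by
      refine inv_mem ?_
      rw [commutatorElement_def, show x * a * x⁻¹ * a⁻¹ = x * (a * x⁻¹ * a⁻¹) by group]
      exact mul_mem hx.1 (conj_mem h.aΦ (inv_mem hx.1))
    rw [show ⁅x⁻¹, a⁆ = x⁻¹ * ⁅x, a⁆⁻¹ * x⁻¹⁻¹ by simp only [commutatorElement_def]; group,
      mem_dualStab, tw_congr χ (h.conj_rep hd (inv_mem (h.ΦQ hx.1)))]
    exact inv_mem ((fixSet_iff hχa).1 hx.2)⟩

theorem commute_conj_fixSet {χ : Module.Dual K V} (hχa : tw ρ χ a = χ) {g : Γ}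
    (hg : fixSet ρ a χ g) : fixSet ρ a χ (a * g * a⁻¹) := by
  rw [fixSet_iff hχa] at hg ⊢
  rw [show ⁅a * g * a⁻¹, a⁆ = a * ⁅g, a⁆ * a⁻¹ by simp only [commutatorElement_def]; group]
  exact conj_mem_dualStab hχa hg

theorem inv_commute_conj_fixSet {χ : Module.Dual K V} (hχa : tw ρ χ a = χ) {g : Γ}
    (hg : fixSet ρ a χ g) : fixSet ρ a χ (a⁻¹ * g * a) := by
  have haS : a ∈ dualStab ρ χ := hχa
  rw [fixSet_iff hχa] at hg ⊢
  rw [show ⁅a⁻¹ * g * a, a⁆ = a⁻¹ * ⁅g, a⁆ * a by simp only [commutatorElement_def]; group]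
  exact mul_mem (mul_mem (inv_mem haS) hg) haS

/-- When all of `Φ` keeps `χ` fixed, the elements of `E` keeping it fixed are closed under
products. -/
theorem fixSet_mul (h : EngineData ρ a r Q E Φ Ω B) {χ : Module.Dual K V} (hχa : tw ρ χ a = χ)
    (hΦ : ∀ z ∈ Φ, fixSet ρ a χ z) {x y : Γ} (hxE : x ∈ E) (hx : fixSet ρ a χ x) (hyE : y ∈ E)
    (hy : fixSet ρ a χ y) : fixSet ρ a χ (x * y) := by
  -- split off the fixed points of `a`
  have split : ∀ g, g ∈ E → fixSet ρ a χ g → ∃ m c, g = m * c ∧ tw ρ χ m = χ ∧ m ∈ E ∧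
      c ∈ E ∧ a * c = c * a := by
    intro g hgE hg
    set N := E ⊓ dualStab ρ χ
    have haN : a ∈ normalizer (N : Set Γ) :=
      mem_normalizer_inf h.aE (le_normalizer (show a ∈ dualStab ρ χ from hχa))
    have hgN : ∀ i : ℕ, ⁅g, a ^ i⁆ ∈ N := by
      intro i
      induction i with
      | zero => simp
      | succ i ih =>
        rw [show ⁅g, a ^ (i + 1)⁆ = ⁅g, a ^ i⁆ * (a ^ i * ⁅g, a⁆ * (a ^ i)⁻¹) by
          simp only [commutatorElement_def, pow_succ]; group]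
        refine mul_mem ih (conj_mem (pow_mem haN i) ⟨?_, (fixSet_iff hχa).1 hg⟩)
        rw [commutatorElement_def, show g * a * g⁻¹ * a⁻¹ = g * (a * g⁻¹ * a⁻¹) by group]
        exact mul_mem hgE (conj_mem h.aE (inv_mem hgE))
    have hcop : (Nat.card (zpowers a)).Coprime (Nat.card E) := by
      rw [Nat.card_zpowers]
      exact ((h.coprime_le h.EQ).coprime_dvd_right (orderOf_dvd_of_pow_eq_one h.pow_a)).symm
    obtain ⟨n, hn, hc⟩ := Coprime.exists_mem_centralizer_of_coset (zpowers_le.2 h.aE)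
      (zpowers_le.2 haN) inf_le_left hcop
      (Or.inr (h.isSolvable_le ((inf_le_left : N ≤ E).trans h.EQ))) (inv_mem hgE) fun b hb => by
        obtain ⟨i, rfl⟩ : ∃ i : ℕ, a ^ i = b := mem_powers_iff_mem_zpowers.2 hb
        rw [inv_inv, ← commutatorElement_def]
        exact hgN i
    have hcm : g⁻¹ * n ∈ E := mul_mem (inv_mem hgE) hn.1
    exact ⟨n, (g⁻¹ * n)⁻¹, by group, hn.2, hn.1, inv_mem hcm,
      ((show Commute a (g⁻¹ * n) from mem_centralizer_iff.1 hc a (mem_zpowers a)).inv_right).eq⟩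
  obtain ⟨m₁, c₁, rfl, hm₁, hm₁E, hc₁, hc₁a⟩ := split x hxE hx
  obtain ⟨m₂, c₂, rfl, hm₂, hm₂E, hc₂, hc₂a⟩ := split y hyE hy
  -- `χ ∘ (x y) = (χ ∘ z) ∘ (c₁ c₂)` for some `z ∈ Φ`
  set z := ⁅c₁⁻¹, m₂⁻¹⁆
  have hz : z ∈ Φ := h.der _ (inv_mem (h.EQ hc₁)) _ (inv_mem (h.EQ hm₂E))
  have e1 : tw ρ χ (m₁ * c₁ * (m₂ * c₂)) = tw ρ (tw ρ χ z) (c₁ * c₂) := by
    rw [show m₁ * c₁ * (m₂ * c₂) = m₁ * (m₂ * (c₁ * z * c₂)) by
        simp only [z, commutatorElement_def]; group,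
      ← tw_tw, hm₁, ← tw_tw, hm₂, tw_tw]
    refine tw_congr χ ?_
    rw [map_mul, ← h.cent z hz c₁ (h.EQ hc₁), ← map_mul, mul_assoc]
  have hcomm : c₁ * c₂ * a = a * (c₁ * c₂) := by
    rw [mul_assoc, ← hc₂a, ← mul_assoc, ← hc₁a, mul_assoc]
  rw [fixSet, ← tw_tw, e1, tw_tw, hcomm, ← tw_tw, tw_tw ρ χ z a,
    show tw ρ χ (z * a) = tw ρ χ z from hΦ z hz]

/-- When all of `Φ` keeps `χ` fixed: the part of `E` keeping `χ` fixed. -/
def fixE (h : EngineData ρ a r Q E Φ Ω B) {χ : Module.Dual K V} (hχa : tw ρ χ a = χ)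
    (hΦ : ∀ z ∈ Φ, fixSet ρ a χ z) : Subgroup Γ where
  carrier := {g | g ∈ E ∧ fixSet ρ a χ g}
  one_mem' := ⟨one_mem E, by rw [fixSet, one_mul, hχa, tw_one]⟩
  mul_mem' {x y} hx hy := ⟨mul_mem hx.1 hy.1, h.fixSet_mul hχa hΦ hx.1 hx.2 hy.1 hy.2⟩
  inv_mem' {x} hx := by
    refine ⟨inv_mem hx.1, ?_⟩
    rw [show x⁻¹ = x ^ (orderOf x - 1) from inv_eq_of_mul_eq_one_right (by
      rw [← pow_succ', Nat.sub_add_cancel (orderOf_pos x), pow_orderOf_eq_one])]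
    generalize orderOf x - 1 = k
    induction k with
    | zero => rw [pow_zero, fixSet, one_mul, hχa, tw_one]
    | succ k ih =>
      rw [pow_succ']
      exact h.fixSet_mul hχa hΦ hx.1 hx.2 (pow_mem hx.1 k) ih

theorem aux_normalizer (S : Subgroup Γ) {a : Γ} (h1 : ∀ g ∈ S, a * g * a⁻¹ ∈ S) :
    a ∈ normalizer (S : Set Γ) := by
  refine mem_normalizer_of_conj h1 fun g hg => ?_
  have hp : ∀ (i : ℕ), a ^ i * g * (a ^ i)⁻¹ ∈ S := by
    intro i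
    induction i with
    | zero => simpa using hg
    | succ i ih =>
      have := h1 _ ih
      rwa [show a * (a ^ i * g * (a ^ i)⁻¹) * a⁻¹ = a ^ (i + 1) * g * (a ^ (i + 1))⁻¹ by
        rw [pow_succ' a i]; group] at this
  have e : a⁻¹ = a ^ (orderOf a - 1) := inv_eq_of_mul_eq_one_right (by
    rw [← pow_succ', Nat.sub_add_cancel (orderOf_pos a), pow_orderOf_eq_one])
  have := hp (orderOf a - 1)
  rwa [← e, inv_inv] at this

/-- An element of `N₀` outside the fixed part is usable. -/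
theorem usable_of_not_mem (h : EngineData ρ a r Q E Φ Ω B) {χ : Module.Dual K V}
    (hχa : tw ρ χ a = χ) {N₀ F : Subgroup Γ} (hF : ∀ g, g ∈ F ↔ g ∈ N₀ ∧ fixSet ρ a χ g)
    (haN : a ∈ normalizer (N₀ : Set Γ)) (hNQ : N₀ ≤ Q) {w : Γ} (hw : w ∈ N₀) (hwF : w ∉ F) :
    Usable ρ a r χ w := by
  refine ⟨fun e => hwF ((hF w).2 ⟨hw, e⟩), fun k hk0 hkr e => hwF ?_⟩
  have hle : F ≤ N₀ := fun g hg => ((hF g).1 hg).1
  have haF : a ∈ normalizer (F : Set Γ) := by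
    refine aux_normalizer F fun g hg => (hF _).2 ⟨conj_mem haN ((hF g).1 hg).1, ?_⟩
    exact commute_conj_fixSet hχa ((hF g).1 hg).2
  refine mem_of_commutator_pow_mem h.prime h.pow_a haN haF hle (h.coprime_le hNQ) (h.isSolvable_le hNQ)
    (fun c hc hca => (hF c).2 ⟨hc, ?_⟩) hw hk0 hkr ((hF _).2 ⟨?_, ?_⟩)
  · rw [fixSet, ← hca, ← tw_tw, hχa]
  · rw [commutatorElement_def, show w * a ^ k * w⁻¹ * (a ^ k)⁻¹
      = w * (a ^ k * w⁻¹ * (a ^ k)⁻¹) by group]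
    exact mul_mem hw (conj_mem (pow_mem haN k) (inv_mem hw))
  · rwa [commutatorElement_def, show w * a ^ k * w⁻¹ * (a ^ k)⁻¹
      = w * (a ^ k * w⁻¹ * (a ^ k)⁻¹) by group]

/-- A usable element for `χ`, either in `Φ`, or in `E` when `Φ` keeps `χ` fixed. -/
theorem exists_usable (h : EngineData ρ a r Q E Φ Ω B) {χ : Module.Dual K V} (hχa : tw ρ χ a = χ)
    (hχ0 : χ ≠ 0) : ∃ w ∈ Q, Usable ρ a r χ w := by
  by_cases hΦ : ∀ z ∈ Φ, fixSet ρ a χ z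
  · obtain ⟨v, hv, hvF⟩ : ∃ v ∈ E, v ∉ h.fixE hχa hΦ := by
      by_contra hall
      push Not at hall
      have hS : E ≤ dualStab ρ χ := h.gen.trans (commutator_zpowers_le h.aE fun u hu =>
        (fixSet_iff hχa).1 (hall u hu).2)
      refine hχ0 (LinearMap.ext fun v => ?_)
      have hv : v ∈ commPart ρ E := h.noFix.symm ▸ Submodule.mem_top
      induction hv using Submodule.span_induction with
      | mem y hy =>
        obtain ⟨g, hg, z, rfl⟩ := hy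
        rw [map_sub, LinearMap.zero_apply, sub_eq_zero]
        exact LinearMap.congr_fun (mem_dualStab.1 (hS hg)) z
      | zero => simp
      | add y z _ _ h1 h2 => rw [map_add, h1, h2]; simp
      | smul c y _ h1 => rw [map_smul, h1]; simp
    exact ⟨v, h.EQ hv, h.usable_of_not_mem hχa (F := h.fixE hχa hΦ) (fun _ => Iff.rfl)
      h.aE h.EQ hv hvF⟩
  · push Not at hΦ
    obtain ⟨z, hz, hzF⟩ := hΦ
    exact ⟨z, h.ΦQ hz, h.usable_of_not_mem hχa (F := h.fixPhi hχa) (fun _ => Iff.rfl)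
      h.aΦ h.ΦQ hz fun hm => hzF hm.2⟩

/-- In the case where `Φ` keeps `χ` fixed some element of `E` does not, unless `χ = 0`. -/
theorem exists_not_mem_fixE (h : EngineData ρ a r Q E Φ Ω B) {χ : Module.Dual K V}
    (hχa : tw ρ χ a = χ) (hΦ : ∀ z ∈ Φ, fixSet ρ a χ z) (hχ0 : χ ≠ 0) :
    ∃ v ∈ E, v ∉ h.fixE hχa hΦ := by
  by_contra hall
  push Not at hall
  have hS : E ≤ dualStab ρ χ := h.gen.trans (commutator_zpowers_le h.aE fun u hu =>
    (fixSet_iff hχa).1 (hall u hu).2)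
  refine hχ0 (LinearMap.ext fun v => ?_)
  have hv : v ∈ commPart ρ E := h.noFix.symm ▸ Submodule.mem_top
  induction hv using Submodule.span_induction with
  | mem y hy =>
    obtain ⟨g, hg, z, rfl⟩ := hy
    rw [map_sub, LinearMap.zero_apply, sub_eq_zero]
    exact LinearMap.congr_fun (mem_dualStab.1 (hS hg)) z
  | zero => simp
  | add y z _ _ h1 h2 => rw [map_add, h1, h2]; simp
  | smul c y _ h1 => rw [map_smul, h1]; simp

/-- **Non-vanishing**: `B` cannot contain all fixed points of `a` unless these are zero. -/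
theorem eq_zero_of_all_mem (h : EngineData ρ a r Q E Φ Ω B) (hall : ∀ v, ρ a v = v → v ∈ B) {v : V}
    (hv : ρ a v = v) : v = 0 := by
  refine h.sep v fun χ hχ => ?_
  by_cases hχa : tw ρ χ a = χ
  · by_cases hχ0 : χ = 0
    · rw [hχ0, LinearMap.zero_apply]
    obtain ⟨w, hw, hu⟩ := h.exists_usable hχa hχ0
    exact h.apply_eq_zero hall hχ hw hu hv
  · exact h.kill χ hχ hχa v (hall v hv)

/-- **The engine for elements of `Q`.** -/
theorem fix_of_mem (h : EngineData ρ a r Q E Φ Ω B) {x : Γ} (hx : x ∈ Q) (hxa : x * a = a * x)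
    (hxB : ∀ c, ρ a c = c → ρ x c - c ∈ B) {c : V} (hc : ρ a c = c) : ρ x c = c := by
  refine sub_eq_zero.1 (h.sep _ fun χ hχ => ?_)
  have hxΩ : ∀ ψ ∈ Ω, tw ρ ψ x ∈ Ω := h.twQ x hx
  by_cases hχa : tw ρ χ a = χ
  swap
  · exact h.kill χ hχ hχa _ (hxB c hc)
  by_cases hχ0 : χ = 0
  · rw [hχ0, LinearMap.zero_apply]
  by_cases hΦ : ∀ z ∈ Φ, fixSet ρ a χ z
  swap
  · push Not at hΦ
    obtain ⟨z, hz, hzF⟩ := hΦ
    refine h.apply_sub_eq_zero hxa hxΩ hxB hχ (h.ΦQ hz)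
      (h.usable_of_not_mem hχa (F := h.fixPhi hχa) (fun _ => Iff.rfl) h.aΦ h.ΦQ hz
        fun hm => hzF hm.2) (Or.inl fun k _ => tw_congr χ ?_) hc
    rw [map_mul, ← h.cent _ (conj_mem (pow_mem h.aΦ k) (inv_mem hz)) x hx, ← map_mul, ← mul_assoc]
  obtain ⟨v, hv, hvF⟩ := h.exists_not_mem_fixE hχa hΦ hχ0
  have hvaE : ∀ {g : Γ}, g ∈ E → ⁅g, a⁆ ∈ E := fun {g} hg => by
    rw [commutatorElement_def, show g * a * g⁻¹ * a⁻¹ = g * (a * g⁻¹ * a⁻¹) by group]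
    exact mul_mem hg (conj_mem h.aE (inv_mem hg))
  have haF : a ∈ normalizer (h.fixE hχa hΦ : Set Γ) := aux_normalizer _ fun g hg =>
    ⟨conj_mem h.aE hg.1, commute_conj_fixSet hχa hg.2⟩
  have hwF : ⁅v, a⁆ ∉ h.fixE hχa hΦ := fun hm => hvF (mem_of_commutator_pow_mem h.prime h.pow_a h.aE
    haF (fun g hg => hg.1) (h.coprime_le h.EQ) (h.isSolvable_le h.EQ)
    (fun c hc hca => ⟨hc, by rw [fixSet, ← hca, ← tw_tw, hχa]⟩) hv Nat.one_pos h.prime.one_lt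
    (by rwa [pow_one]))
  refine h.apply_sub_eq_zero hxa hxΩ hxB hχ (h.EQ (hvaE hv))
    (h.usable_of_not_mem hχa (F := h.fixE hχa hΦ) (fun _ => Iff.rfl) h.aE h.EQ (hvaE hv) hwF)
    (Or.inl fun k _ => ?_) hc
  set w := ⁅v, a⁆
  set v' := a ^ k * v * (a ^ k)⁻¹
  have hv' : v' ∈ E := conj_mem (pow_mem h.aE k) hv
  have hwk : a ^ k * w * (a ^ k)⁻¹ = ⁅v', a⁆ := by
    simp only [w, v', commutatorElement_def]; group
  set z' := ⁅x⁻¹, v'⁆
  have hz' : z' ∈ Φ := h.der _ (inv_mem hx) _ (h.EQ hv')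
  -- the commutator of `x⁻¹` with `⁅v', a⁆` fixes `χ`
  have hcomm : tw ρ χ ⁅x⁻¹, ⁅v', a⁆⁆ = χ := by
    have hax : a * x⁻¹ = x⁻¹ * a := (Commute.inv_right (show Commute a x from hxa.symm)).eq
    have e : ⁅x⁻¹, ⁅v', a⁆⁆ = z' * (⁅v', a⁆ * (a * z'⁻¹ * a⁻¹) * ⁅v', a⁆⁻¹) := by
      have e2 : a * x * a⁻¹ = x := by rw [← hxa, mul_assoc, mul_inv_cancel, mul_one]
      calc ⁅x⁻¹, ⁅v', a⁆⁆
          = x⁻¹ * v' * (a * v'⁻¹ * a⁻¹) * x * (a * v' * a⁻¹) * v'⁻¹ := by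
            simp only [commutatorElement_def]; group
        _ = x⁻¹ * v' * (a * v'⁻¹ * a⁻¹) * (a * x * a⁻¹) * (a * v' * a⁻¹) * v'⁻¹ := by rw [e2]
        _ = x⁻¹ * v' * a * v'⁻¹ * x * v' * a⁻¹ * v'⁻¹ := by group
        _ = x⁻¹ * v' * (x * a * x⁻¹) * v'⁻¹ * x * v' * a⁻¹ * v'⁻¹ := by
            rw [show x * a * x⁻¹ = a by rw [hxa, mul_assoc, mul_inv_cancel, mul_one]]
        _ = z' * (⁅v', a⁆ * (a * z'⁻¹ * a⁻¹) * ⁅v', a⁆⁻¹) := by
            simp only [z', commutatorElement_def]; group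
    have hz : a * z'⁻¹ * a⁻¹ ∈ Φ := conj_mem h.aΦ (inv_mem hz')
    rw [e, tw_congr χ (show ρ (z' * (⁅v', a⁆ * (a * z'⁻¹ * a⁻¹) * ⁅v', a⁆⁻¹)) = ρ ⁅z', a⁆ by
      rw [map_mul, h.conj_rep hz (h.EQ (hvaE hv')), ← map_mul, commutatorElement_def]
      congr 1; group)]
    exact (fixSet_iff hχa).1 (hΦ z' hz')
  set g := a ^ k * w⁻¹ * (a ^ k)⁻¹
  have hg : g = ⁅v', a⁆⁻¹ := by rw [← hwk]; simp only [g]; group
  have hzΦ : ⁅x⁻¹, ⁅v', a⁆⁆ ∈ Φ := h.der _ (inv_mem hx) _ (h.EQ (hvaE hv'))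
  rw [show w * (x * g) = w * g * x * ⁅x⁻¹, ⁅v', a⁆⁆ by
    rw [hg]; simp only [commutatorElement_def]; group]
  have hwgx : w * g * x ∈ Q := mul_mem (mul_mem (h.EQ (hvaE hv))
    (hg ▸ inv_mem (h.EQ (hvaE hv')))) hx
  rw [tw_congr χ (show ρ (w * g * x * ⁅x⁻¹, ⁅v', a⁆⁆) = ρ (⁅x⁻¹, ⁅v', a⁆⁆ * (w * g * x)) from
    (h.cent _ hzΦ _ hwgx).symm), ← tw_tw, hcomm]

/-- **The engine for an operator `y` centralising `Φ`.** -/
theorem fix_of_operator (h : EngineData ρ a r Q E Φ Ω B) {y : Γ}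
    (hyE : y ∈ normalizer (E : Set Γ)) (hya : y * a = a * y)
    (hyΦ : ∀ z ∈ Φ, ρ (y * z) = ρ (z * y)) (hyΩ : ∀ χ ∈ Ω, tw ρ χ y ∈ Ω)
    (hyr : (orderOf y).Coprime r) (hyc : (orderOf y).Coprime (Nat.card E))
    (hyB : ∀ c, ρ a c = c → ρ y c - c ∈ B) {c : V} (hc : ρ a c = c) : ρ y c = c := by
  refine sub_eq_zero.1 (h.sep _ fun χ hχ => ?_)
  by_cases hχa : tw ρ χ a = χ
  swap
  · exact h.kill χ hχ hχa _ (hyB c hc)
  by_cases hχ0 : χ = 0
  · rw [hχ0, LinearMap.zero_apply]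
  by_cases hΦ : ∀ z ∈ Φ, fixSet ρ a χ z
  swap
  · push Not at hΦ
    obtain ⟨z, hz, hzF⟩ := hΦ
    refine h.apply_sub_eq_zero hya hyΩ hyB hχ (h.ΦQ hz)
      (h.usable_of_not_mem hχa (F := h.fixPhi hχa) (fun _ => Iff.rfl) h.aΦ h.ΦQ hz
        fun hm => hzF hm.2) (Or.inl fun k _ => tw_congr χ ?_) hc
    rw [map_mul, hyΦ _ (conj_mem (pow_mem h.aΦ k) (inv_mem hz)), ← map_mul, ← mul_assoc]
  set F := h.fixE hχa hΦ
  have hFE : F ≤ E := fun g hg => hg.1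
  have hyak : ∀ k : ℕ, y * a ^ k = a ^ k * y := fun k => conj_pow_commute k hya
  have haF : a ∈ normalizer (F : Set Γ) := aux_normalizer _ fun g hg =>
    ⟨conj_mem h.aE hg.1, commute_conj_fixSet hχa hg.2⟩
  have hfix : ∀ g, g * a = a * g → ∀ ψ : Module.Dual K V, tw ρ ψ a = ψ → tw ρ (tw ρ ψ g) a = tw ρ ψ g :=
    fun g hga ψ hψ => by rw [tw_tw, hga, ← tw_tw, hψ]
  -- a moved translate of this shape kills `χ` on `B`
  have hmoved : ∀ w ∈ E, ∀ k : ℕ, w * (y * (a ^ k * w⁻¹ * (a ^ k)⁻¹) * y⁻¹) ∉ F →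
      ¬ fixSet ρ a χ (w * (y * (a ^ k * w⁻¹ * (a ^ k)⁻¹))) := by
    intro w hw k hnot e
    refine hnot ⟨mul_mem hw (conj_mem hyE (conj_mem (pow_mem h.aE k) (inv_mem hw))), ?_⟩
    have h1 := hfix y⁻¹ ((Commute.inv_left (show Commute y a from hya)).eq) _
      (show tw ρ (tw ρ χ (w * (y * (a ^ k * w⁻¹ * (a ^ k)⁻¹)))) a = _ by rw [tw_tw, e])
    rw [fixSet]
    simp only [tw_tw, mul_assoc] at h1 ⊢
    exact h1
  by_cases hyF : ∀ g ∈ F, y * g * y⁻¹ ∈ F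
  swap
  · push Not at hyF
    obtain ⟨g, hgF, hg⟩ := hyF
    obtain ⟨w, hwE, hwF, hyw⟩ : ∃ w ∈ E, w ∉ F ∧ y * w * y⁻¹ ∈ F := by
      by_contra hall
      push Not at hall
      have hle : F.map (MulAut.conj y⁻¹).toMonoidHom ≤ F := by
        rintro _ ⟨f, hf, rfl⟩
        show y⁻¹ * f * y⁻¹⁻¹ ∈ F
        rw [inv_inv]
        by_contra hnot
        refine hall _ (inv_conj_mem hyE (hFE hf)) hnot ?_
        rwa [show y * (y⁻¹ * f * y) * y⁻¹ = f by group]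
      have heq := eq_of_le_of_card_ge hle (Coprime.card_map_conj y⁻¹ F).ge
      obtain ⟨f, hf, e⟩ := heq.ge hgF
      refine hg ?_
      rw [← e]
      show y * (y⁻¹ * f * y⁻¹⁻¹) * y⁻¹ ∈ F
      rwa [show y * (y⁻¹ * f * y⁻¹⁻¹) * y⁻¹ = f by group]
    refine h.apply_sub_eq_zero hya hyΩ hyB hχ (h.EQ hwE)
      (h.usable_of_not_mem hχa (F := F) (fun _ => Iff.rfl) h.aE h.EQ hwE hwF)
      (Or.inr fun k _ => hmoved w hwE k fun hm => hwF ?_) hc
    have h1 : y * (a ^ k * w⁻¹ * (a ^ k)⁻¹) * y⁻¹ ∈ F := by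
      have e : y * (a ^ k * w⁻¹ * (a ^ k)⁻¹) * y⁻¹ = a ^ k * (y * w * y⁻¹)⁻¹ * (a ^ k)⁻¹ := by
        calc y * (a ^ k * w⁻¹ * (a ^ k)⁻¹) * y⁻¹ = (y * a ^ k) * w⁻¹ * (y * a ^ k)⁻¹ := by group
          _ = (a ^ k * y) * w⁻¹ * (a ^ k * y)⁻¹ := by rw [hyak]
          _ = a ^ k * (y * w * y⁻¹)⁻¹ * (a ^ k)⁻¹ := by group
      rw [e]
      exact conj_mem (pow_mem haF k) (inv_mem hyw)
    have h2 := mul_mem hm (inv_mem h1)
    rwa [mul_inv_cancel_right] at h2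
  have hyN : y ∈ normalizer (F : Set Γ) := aux_normalizer F hyF
  by_cases hrot : ∃ w ∈ E, w ∉ F ∧ ∀ k : ℕ, w * (y * (a ^ k * w⁻¹ * (a ^ k)⁻¹) * y⁻¹) ∉ F
  · obtain ⟨w, hwE, hwF, hw⟩ := hrot
    exact h.apply_sub_eq_zero hya hyΩ hyB hχ (h.EQ hwE)
      (h.usable_of_not_mem hχa (F := F) (fun _ => Iff.rfl) h.aE h.EQ hwE hwF)
      (Or.inr fun k _ => hmoved w hwE k (hw k)) hc
  push Not at hrot
  -- `y` fixes every coset of `F`
  have hycoset : ∀ w ∈ E, w ∉ F → ⁅w, y⁆ ∈ F := by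
    intro w hwE hwF
    obtain ⟨k, hk⟩ := hrot w hwE hwF
    set t := y * a ^ k
    have ht : t ∈ normalizer (F : Set Γ) := mul_mem hyN (pow_mem haF k)
    have hk' : ⁅w, t⁆ ∈ F := by
      rwa [show ⁅w, t⁆ = w * (y * (a ^ k * w⁻¹ * (a ^ k)⁻¹) * y⁻¹) by
        simp only [t, commutatorElement_def]; group]
    have hiter : ∀ m : ℕ, ⁅w, t ^ m⁆ ∈ F := by
      intro m
      induction m with
      | zero => simp
      | succ m ih =>
        rw [show ⁅w, t ^ (m + 1)⁆ = ⁅w, t ^ m⁆ * (t ^ m * ⁅w, t⁆ * (t ^ m)⁻¹) by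
          simp only [commutatorElement_def, pow_succ]; group]
        exact mul_mem ih (conj_mem (pow_mem ht m) hk')
    have hcomm : Commute y (a ^ k) := hyak k
    have hpow : t ^ orderOf y = a ^ (k * orderOf y % r) := by
      rw [hcomm.mul_pow, pow_orderOf_eq_one, one_mul, ← pow_mul]
      conv_lhs => rw [← Nat.mod_add_div (k * orderOf y) r, pow_add, pow_mul, h.pow_a, one_pow,
        mul_one]
    have hz : k * orderOf y % r = 0 := by
      by_contra hne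
      refine hwF (mem_of_commutator_pow_mem h.prime h.pow_a h.aE haF hFE (h.coprime_le h.EQ)
        (h.isSolvable_le h.EQ) (fun c hc hca => ⟨hc, by rw [fixSet, ← hca, ← tw_tw, hχa]⟩) hwE
        (Nat.pos_of_ne_zero hne) (Nat.mod_lt _ h.prime.pos) ?_)
      rw [← hpow]; exact hiter _
    have hrk : r ∣ k := (h.prime.dvd_mul.1 (Nat.dvd_of_mod_eq_zero hz)).resolve_right fun hd =>
      h.prime.ne_one (Nat.eq_one_of_dvd_coprimes hyr hd dvd_rfl)
    obtain ⟨m, rfl⟩ := hrk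
    have : t = y := by simp only [t, pow_mul, h.pow_a, one_pow, mul_one]
    rwa [this] at hk'
  obtain ⟨v, hv, hvF⟩ := h.exists_not_mem_fixE hχa hΦ hχ0
  have hcopy : (Nat.card (zpowers y)).Coprime (Nat.card E) := by rwa [Nat.card_zpowers]
  obtain ⟨n, hn, hcn⟩ := Coprime.exists_mem_centralizer_of_coset (zpowers_le.2 hyE)
    (zpowers_le.2 hyN) hFE hcopy (Or.inr (h.isSolvable_le (hFE.trans h.EQ))) hv fun b hb => by
      obtain ⟨i, rfl⟩ : ∃ i : ℕ, y ^ i = b := mem_powers_iff_mem_zpowers.2 hb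
      have hv' : v⁻¹ ∉ F := fun hm => hvF (by simpa using inv_mem hm)
      induction i with
      | zero => simp
      | succ i ih =>
        rw [show v⁻¹ * y ^ (i + 1) * v * (y ^ (i + 1))⁻¹
            = (v⁻¹ * y ^ i * v * (y ^ i)⁻¹) * (y ^ i * ⁅v⁻¹, y⁆ * (y ^ i)⁻¹) by
          simp only [commutatorElement_def, pow_succ]; group]
        exact mul_mem (ih (pow_mem (mem_zpowers y) i))
          (conj_mem (pow_mem hyN i) (hycoset _ (inv_mem hv) hv'))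
  set w := v * n
  have hwE : w ∈ E := mul_mem hv (hFE hn)
  have hwF : w ∉ F := fun hm => hvF (by simpa [w] using mul_mem hm (inv_mem hn))
  have hwy : y * w = w * y := mem_centralizer_iff.1 hcn y (mem_zpowers y)
  refine h.apply_sub_eq_zero hya hyΩ hyB hχ (h.EQ hwE)
    (h.usable_of_not_mem hχa (F := F) (fun _ => Iff.rfl) h.aE h.EQ hwE hwF)
    (Or.inl fun k _ => ?_) hc
  have e : Commute y (a ^ k * w⁻¹ * (a ^ k)⁻¹) :=
    (((show Commute y (a ^ k) from hyak k).mul_right (show Commute y w from hwy).inv_right).mul_right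
      (show Commute y (a ^ k) from hyak k).inv_right)
  rw [e.eq, ← mul_assoc]

end EngineData

end CfsgLib.CoprimeHeight
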