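import Cfsg.Agent.Lib.CoprimeHeight.WeakTower
import Cfsg.Agent.Lib.PLength.ConjRep

/-!
# The representation on an elementary abelian section
-/

set_option autoImplicit false

namespace CfsgLib.CoprimeHeight

open Subgroup CfsgLib.PLength
open scoped commutatorElement

universe u

variable {X : Type u} [Group X]

/-- An elementary abelian section `A / B`. -/
structure SecAb (p : ℕ) (A B : Subgroup X) : Prop where
  le : B ≤ A
  norm : A ≤ normalizer (B : Set X)
  comm : ∀ u ∈ A, ∀ v ∈ A, ⁅u, v⁆ ∈ B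
  pow : ∀ u ∈ A, u ^ p ∈ B

namespace SecAb

variable {p : ℕ} {A B : Subgroup X}

/-- The group acting on the section. -/
abbrev grp (A B : Subgroup X) : Subgroup X := normalizer (A : Set X) ⊓ normalizer (B : Set X)

theorem le_grp (h : SecAb p A B) : A ≤ grp A B := le_inf le_normalizer h.norm

instance normal_bot (A B : Subgroup X) : (B.subgroupOf (grp A B)).Normal :=
  ⟨fun n hn g => show (g : X) * (n : X) * (g : X)⁻¹ ∈ B from conj_mem g.2.2 hn⟩

instance normal_top (A B : Subgroup X) : (A.subgroupOf (grp A B)).Normal :=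
  ⟨fun n hn g => show (g : X) * (n : X) * (g : X)⁻¹ ∈ A from conj_mem g.2.1 hn⟩

/-- The section inside the quotient of the acting group. -/
abbrev img (A B : Subgroup X) : Subgroup (grp A B ⧸ B.subgroupOf (grp A B)) :=
  (A.subgroupOf (grp A B)).map (QuotientGroup.mk' (B.subgroupOf (grp A B)))

theorem elemNormal (h : SecAb p A B) : ElemNormal p (img A B) where
  normal := Subgroup.Normal.map inferInstance _ (QuotientGroup.mk'_surjective _)
  comm := by
    rintro _ ⟨a, ha, rfl⟩ _ ⟨b, hb, rfl⟩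
    refine commutatorElement_eq_one_iff_mul_comm.1 ?_
    rw [← map_commutatorElement]
    exact (QuotientGroup.eq_one_iff _).2 (h.comm _ ha _ hb)
  exponent := by
    rintro _ ⟨a, ha, rfl⟩
    rw [← map_pow]
    exact (QuotientGroup.eq_one_iff _).2 (h.pow _ ha)

/-- The section as a vector space. -/
abbrev Space (h : SecAb p A B) : Type u := h.elemNormal.Space

/-- Conjugation on the section. -/
noncomputable def rep (h : SecAb p A B) : Representation (ZMod p) (grp A B) h.Space :=
  h.elemNormal.conjRep.comp (QuotientGroup.mk' (B.subgroupOf (grp A B)))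

/-- The class of an element of the section. -/
noncomputable def vec (h : SecAb p A B) (u : X) (hu : u ∈ A) : h.Space :=
  h.elemNormal.vec ⟨_, mem_map_of_mem _ (show (⟨u, h.le_grp hu⟩ : grp A B) ∈ A.subgroupOf (grp A B)
    from hu)⟩

theorem exists_vec (h : SecAb p A B) (x : h.Space) : ∃ (u : X) (hu : u ∈ A), h.vec u hu = x := by
  obtain ⟨⟨_, u, hu, rfl⟩, rfl⟩ := h.elemNormal.vec.surjective x
  exact ⟨u, hu, rfl⟩

theorem vec_eq_zero (h : SecAb p A B) {u : X} (hu : u ∈ A) : h.vec u hu = 0 ↔ u ∈ B := by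
  rw [vec, ElemNormal.vec_eq_zero, ← Subtype.coe_inj]
  exact QuotientGroup.eq_one_iff _

theorem vec_mul (h : SecAb p A B) {u v : X} (hu : u ∈ A) (hv : v ∈ A) :
    h.vec (u * v) (mul_mem hu hv) = h.vec u hu + h.vec v hv := by
  rw [vec, vec, vec, ← ElemNormal.vec_mul]
  congr 1

theorem vec_congr (h : SecAb p A B) {u v : X} (hu : u ∈ A) (hv : v ∈ A) (e : u = v) :
    h.vec u hu = h.vec v hv := by subst e; rfl

theorem vec_inv (h : SecAb p A B) {u : X} (hu : u ∈ A) :
    h.vec u⁻¹ (inv_mem hu) = -h.vec u hu := by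
  refine eq_neg_of_add_eq_zero_left ?_
  rw [← h.vec_mul (inv_mem hu) hu]
  exact (h.vec_eq_zero _).2 (by rw [inv_mul_cancel]; exact one_mem B)

theorem vec_one (h : SecAb p A B) : h.vec 1 (one_mem A) = 0 :=
  (h.vec_eq_zero _).2 (one_mem B)

theorem vec_pow (h : SecAb p A B) {u : X} (hu : u ∈ A) (m : ℕ) :
    h.vec (u ^ m) (pow_mem hu m) = m • h.vec u hu := by
  induction m with
  | zero => rw [zero_smul]; exact (h.vec_congr _ (one_mem A) (pow_zero u)).trans h.vec_one
  | succ m ih =>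
    rw [succ_nsmul, ← ih, ← h.vec_mul (pow_mem hu m) hu]
    exact h.vec_congr _ _ (pow_succ u m)

theorem vec_eq_iff (h : SecAb p A B) {u v : X} (hu : u ∈ A) (hv : v ∈ A) :
    h.vec u hu = h.vec v hv ↔ u * v⁻¹ ∈ B := by
  rw [← sub_eq_zero, sub_eq_add_neg, ← h.vec_inv, ← h.vec_mul hu (inv_mem hv), h.vec_eq_zero]

theorem rep_vec (h : SecAb p A B) (g : grp A B) {u : X} (hu : u ∈ A) :
    h.rep g (h.vec u hu) = h.vec ((g : X) * u * (g : X)⁻¹) (conj_mem g.2.1 hu) := by
  rw [rep, MonoidHom.comp_apply, vec, ElemNormal.conjRep_vec]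
  congr 1

theorem rep_sub_vec (h : SecAb p A B) (g : grp A B) {u : X} (hu : u ∈ A) :
    h.rep g (h.vec u hu) - h.vec u hu
      = h.vec ⁅(g : X), u⁆ (commutator_mem_of_normalizes g.2.1 hu) := by
  rw [h.rep_vec, sub_eq_add_neg, ← h.vec_inv, ← h.vec_mul (conj_mem g.2.1 hu) (inv_mem hu)]
  exact h.vec_congr _ _ rfl

theorem rep_fix_iff (h : SecAb p A B) (g : grp A B) {u : X} (hu : u ∈ A) :
    h.rep g (h.vec u hu) = h.vec u hu ↔ ⁅(g : X), u⁆ ∈ B := by
  rw [← sub_eq_zero, h.rep_sub_vec, h.vec_eq_zero]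

theorem rep_eq_one_iff (h : SecAb p A B) (g : grp A B) :
    h.rep g = 1 ↔ ∀ u ∈ A, ⁅(g : X), u⁆ ∈ B := by
  refine ⟨fun e u hu => ?_, fun e => LinearMap.ext fun x => ?_⟩
  · rw [← h.rep_fix_iff g hu, e]; rfl
  · obtain ⟨u, hu, rfl⟩ := h.exists_vec x
    exact (h.rep_fix_iff g hu).2 (e u hu)

/-- The section as a quotient of `A`. -/
theorem card_space (h : SecAb p A B) : Nat.card h.Space = B.relIndex A := by
  rw [show Nat.card h.Space = Nat.card (img A B) from Nat.card_congr h.elemNormal.vec.symm]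
  have h1 : (B.subgroupOf (grp A B)).relIndex (A.subgroupOf (grp A B))
      = Nat.card (img A B) := by
    rw [← Subgroup.relIndex_bot_left (img A B), ← Subgroup.relIndex_comap, MonoidHom.comap_bot,
      QuotientGroup.ker_mk']
  rw [← h1, relIndex_subgroupOf h.le_grp]

end SecAb

end CfsgLib.CoprimeHeight
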