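import Cfsg.Agent.Lib.CoprimeHeight.Constituent
import Cfsg.Agent.Lib.CoprimeHeight.Section
import Cfsg.Agent.Lib.FixedFree.BaseChange
import Cfsg.Agent.Lib.HallHigman.TheoremB
import Mathlib.LinearAlgebra.BilinearForm.TensorProduct
import Mathlib.LinearAlgebra.Charpoly.Basic
import Mathlib.RingTheory.TensorProduct.Free
import Mathlib.FieldTheory.IsAlgClosed.AlgebraicClosure
import Mathlib.FieldTheory.Finite.Basic
import Mathlib.GroupTheory.Perm.Cycle.Type
import Mathlib.Data.Nat.GCD.Basic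

/-!
# Symplectic actions over the field with two elements

An odd group `E' = [E', a]` preserving a form over `ZMod 2` and moving something forces `a - 1` to
have rank at least `2 (r - 1)`; an irreducible `a` of order `2 ^ b + 1` commutes with no
nontrivial isometry of coprime order.
-/

set_option autoImplicit false

namespace CfsgLib.CoprimeHeight

open Subgroup CfsgLib.FixedFree CfsgLib.HallHigman Polynomial Module
open scoped commutatorElement TensorProduct

universe u v w

section Rank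

variable {K : Type u} [Field K] {V : Type v} [AddCommGroup V] [Module K V] [FiniteDimensional K V]

/-- The degree of the minimal polynomial is at most the rank of `f - 1`, plus one. -/
theorem deg_le_rank_add_one (f : Module.End K V) :
    deg f ≤ finrank K (LinearMap.range (f - 1)) + 1 := by
  set d := f - 1
  have hd : ∀ x ∈ LinearMap.range d, d x ∈ LinearMap.range d := fun x _ => ⟨x, rfl⟩
  set g := (d.restrict hd).charpoly
  have hg : g.Monic := LinearMap.charpoly_monic _
  have h0 : ∀ x : V, aeval d g (d x) = 0 := fun x => by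
    have := aeval_restrict_apply hd g ⟨d x, x, rfl⟩
    rw [LinearMap.aeval_self_charpoly] at this
    exact this.symm
  set p : K[X] := g.comp (X - C 1) * (X - C 1)
  have haev : aeval f p = 0 := by
    refine LinearMap.ext fun x => ?_
    rw [map_mul, aeval_comp, Module.End.mul_apply, map_sub, aeval_X, aeval_C, map_one]
    exact h0 x
  have hne : p ≠ 0 := ((hg.comp_X_sub_C 1).mul (monic_X_sub_C 1)).ne_zero
  refine (deg_le_of_aeval_eq_zero hne haev).trans ?_
  rw [natDegree_mul (hg.comp_X_sub_C 1).ne_zero (monic_X_sub_C 1).ne_zero, natDegree_comp,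
    natDegree_X_sub_C, mul_one, LinearMap.charpoly_natDegree]

/-- The same for a restriction. -/
theorem deg_restrict_le_rank {f : Module.End K V} {U : Submodule K V} (h : ∀ x ∈ U, f x ∈ U) :
    deg (f.restrict h) ≤ finrank K (U.map (f - 1)) + 1 := by
  refine (deg_le_rank_add_one _).trans (Nat.add_le_add_right (le_of_eq ?_) 1)
  have hmap : (LinearMap.range (f.restrict h - 1)).map U.subtype = U.map (f - 1) := by
    ext y
    constructor
    · rintro ⟨_, ⟨y', rfl⟩, rfl⟩
      exact ⟨y', y'.2, rfl⟩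
    · rintro ⟨y', hy', rfl⟩
      exact ⟨_, ⟨⟨y', hy'⟩, rfl⟩, rfl⟩
  rw [← hmap, Submodule.finrank_map_subtype_eq]

end Rank

section Eigen

variable {K : Type u} [Field K] {V : Type v} [AddCommGroup V] [Module K V] {G : Type w} [Group G]
  (ρ : Representation K G V) (Z : Subgroup G)

/-- The eigenspace of a function on `Z`. -/
def eig (ψ : Z → K) : Submodule K V where
  carrier := {x | ∀ z : Z, ρ (z : G) x = ψ z • x}
  zero_mem' z := by simp
  add_mem' {x y} hx hy z := by rw [map_add, hx z, hy z, smul_add]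
  smul_mem' c x hx z := by rw [map_smul, hx z, smul_comm]

/-- The operator `∑ ψ z⁻¹ • ρ z`. -/
noncomputable def eOp [Fintype Z] (ψ : Z → K) : Module.End K V :=
  ∑ z : Z, ψ z⁻¹ • ρ (z : G)

variable {Z}

theorem eig_mul {ψ : Z → K} {x : V} (hx : x ∈ eig ρ Z ψ) (hx0 : x ≠ 0) (y z : Z) :
    ψ (y * z) = ψ y * ψ z := by
  refine smul_left_injective K hx0 ?_
  show ψ (y * z) • x = (ψ y * ψ z) • x
  rw [← hx, Subgroup.coe_mul, rep_self_mul_apply, hx z, map_smul, hx y, smul_smul, mul_comm]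

theorem eig_one {ψ : Z → K} {x : V} (hx : x ∈ eig ρ Z ψ) (hx0 : x ≠ 0) : ψ 1 = 1 := by
  refine smul_left_injective K hx0 ?_
  show ψ 1 • x = (1 : K) • x
  rw [← hx, Subgroup.coe_one, map_one, Module.End.one_apply, one_smul]

theorem eOp_apply_self [Fintype Z] {ψ : Z → K} {x : V} (hx : x ∈ eig ρ Z ψ) :
    eOp ρ Z ψ x = (Nat.card Z : K) • x := by
  rcases eq_or_ne x 0 with rfl | hx0
  · simp
  rw [eOp, LinearMap.sum_apply, Finset.sum_congr rfl (fun (z : Z) _ => show
      (ψ z⁻¹ • ρ (z : G)) x = x by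
    rw [LinearMap.smul_apply, hx z, smul_smul, ← eig_mul ρ hx hx0, inv_mul_cancel, eig_one ρ hx hx0,
      one_smul]),
    Finset.sum_const, Finset.card_univ, ← Nat.card_eq_fintype_card, Nat.cast_smul_eq_nsmul]

theorem eOp_apply_ne [Fintype Z] {ψ φ : Z → K} {x y : V} (hy : y ∈ eig ρ Z ψ) (hy0 : y ≠ 0)
    (hx : x ∈ eig ρ Z φ) (hne : φ ≠ ψ) : eOp ρ Z ψ x = 0 := by
  rcases eq_or_ne x 0 with rfl | hx0
  · simp
  obtain ⟨w, hw⟩ : ∃ w, φ w ≠ ψ w := Function.ne_iff.1 hne
  have hcoef : eOp ρ Z ψ x = (∑ z : Z, ψ z⁻¹ * φ z) • x := by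
    rw [eOp, LinearMap.sum_apply, Finset.sum_smul]
    exact Finset.sum_congr rfl fun z _ => by rw [LinearMap.smul_apply, hx z, smul_smul]
  rw [hcoef]
  set S := ∑ z : Z, ψ z⁻¹ * φ z
  have h1 : S = (ψ w⁻¹ * φ w) * S := by
    rw [Finset.mul_sum]
    conv_lhs => rw [show S = ∑ z : Z, ψ (w * z)⁻¹ * φ (w * z) from
      (Equiv.sum_comp (Equiv.mulLeft w) fun z => ψ z⁻¹ * φ z).symm]
    refine Finset.sum_congr rfl fun z _ => ?_
    rw [mul_inv_rev, eig_mul ρ hy hy0, eig_mul ρ hx hx0]
    ring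
  have h2 : ψ w⁻¹ * φ w ≠ 1 := fun e => hw (by
    have h3 : ψ w * ψ w⁻¹ = 1 := by rw [← eig_mul ρ hy hy0, mul_inv_cancel, eig_one ρ hy hy0]
    calc φ w = (ψ w * ψ w⁻¹) * φ w := by rw [h3, one_mul]
      _ = ψ w := by rw [mul_assoc, e, mul_one])
  have h4 : S = 0 := by
    by_contra hS
    exact h2 (mul_right_cancel₀ hS (by rw [← h1, one_mul]))
  rw [h4, zero_smul]

theorem eOp_mem_eig [Fintype Z] {ψ : Z → K} {x : V} (hx : x ∈ eig ρ Z ψ) (hx0 : x ≠ 0) (y : V) :
    eOp ρ Z ψ y ∈ eig ρ Z ψ := by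
  intro w
  rw [eOp, LinearMap.sum_apply, map_sum, Finset.smul_sum]
  conv_rhs => rw [← Equiv.sum_comp (Equiv.mulLeft w)
    (fun z : Z => ψ w • ((ψ z⁻¹ • ρ (z : G)) y))]
  refine Finset.sum_congr rfl fun z _ => ?_
  rw [Equiv.coe_mulLeft, LinearMap.smul_apply, map_smul, LinearMap.smul_apply, smul_smul,
    ← rep_self_mul_apply, Subgroup.coe_mul]
  congr 1
  rw [mul_inv_rev, eig_mul ρ hx hx0, ← mul_assoc, mul_comm (ψ w) (ψ z⁻¹), mul_assoc,
    ← eig_mul ρ hx hx0, mul_inv_cancel, eig_one ρ hx hx0, mul_one]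

end Eigen

section RankBound

variable {G : Type w} [Group G] [Finite G] {W : Type v} [AddCommGroup W] [Module (ZMod 2) W]
  [FiniteDimensional (ZMod 2) W]

local notation "Kbar" => AlgebraicClosure (ZMod 2)

theorem natCast_ne_zero_of_odd_prime {s : ℕ} (hs : s.Prime) (hs2 : s ≠ 2) :
    (s : Kbar) ≠ 0 := by
  have : CharP Kbar 2 := charP_of_injective_algebraMap (algebraMap (ZMod 2) Kbar).injective 2
  exact fun h => hs2 ((Nat.prime_dvd_prime_iff_eq Nat.prime_two hs).1
    ((CharP.cast_eq_zero_iff Kbar 2 s).1 h)).symm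

set_option maxHeartbeats 1000000 in
/-- **The rank bound.** -/
theorem two_mul_le_rank (ρ : Representation (ZMod 2) G W) (B : LinearMap.BilinForm (ZMod 2) W)
    (hnd : ∀ y, (∀ x, B x y = 0) → y = 0) {E : Subgroup G} {a : G} {s r : ℕ} (hs : s.Prime)
    (hs2 : s ≠ 2) (hr : r.Prime) (hr2 : r ≠ 2) (hsr : s ≠ r) (ha : a ^ r = 1)
    (hE : IsPGroup s E) (haE : a ∈ normalizer (E : Set G)) (hgen : E ≤ ⁅E, zpowers a⁆)
    (hinv : ∀ e ∈ E, ∀ x y, B (ρ e x) (ρ e y) = B x y) (hmov : ∃ e ∈ E, ρ e ≠ 1) :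
    2 * (r - 1) ≤ finrank (ZMod 2) (LinearMap.range (ρ a - 1)) := by
  classical
  have := Fact.mk hs
  have := Fact.mk hr
  have hs0 := natCast_ne_zero_of_odd_prime hs hs2
  -- the elements acting as central elements of order dividing `s`
  let Z : Subgroup G :=
    { carrier := {e | e ∈ E ∧ (∀ f ∈ E, ρ (e * f) = ρ (f * e)) ∧ ρ (e ^ s) = 1}
      one_mem' := ⟨one_mem _, fun f _ => by simp, by simp⟩
      mul_mem' := fun {x y} hx hy => ⟨mul_mem hx.1 hy.1, fun f hf => by
          rw [mul_assoc, map_mul, hy.2.1 f hf, ← map_mul, ← mul_assoc, map_mul, hx.2.1 f hf,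
            ← map_mul, mul_assoc], by
          have hc : Commute (ρ x) (ρ y) := by
            show ρ x * ρ y = ρ y * ρ x
            rw [← map_mul, ← map_mul]; exact hx.2.1 y hy.1
          rw [map_pow, map_mul, hc.mul_pow, ← map_pow, ← map_pow, hx.2.2, hy.2.2, one_mul]⟩
      inv_mem' := fun {x} hx => ⟨inv_mem hx.1, fun f hf => by
          have h1 := congrArg (fun t => ρ x⁻¹ * t * ρ x⁻¹) (hx.2.1 f hf)
          simp only [← map_mul] at h1
          rw [show x⁻¹ * (x * f) * x⁻¹ = f * x⁻¹ by group,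
            show x⁻¹ * (f * x) * x⁻¹ = x⁻¹ * f by group] at h1
          exact h1.symm, by
          have h1 : ρ (x⁻¹ ^ s) * ρ (x ^ s) = 1 := by
            rw [← map_mul, inv_pow, inv_mul_cancel, map_one]
          rwa [hx.2.2, mul_one] at h1⟩ }
  have hZE : Z ≤ E := fun x hx => hx.1
  have hZmul : ∀ z ∈ Z, ∀ f ∈ E, ρ (z * f) = ρ (f * z) := fun z hz => hz.2.1
  have hZn : ∀ g : G, g ∈ normalizer (E : Set G) → g ∈ normalizer (Z : Set G) := by
    have key : ∀ g : G, g ∈ normalizer (E : Set G) → ∀ z ∈ Z, g * z * g⁻¹ ∈ Z := by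
      intro g hg z hz
      refine ⟨conj_mem hg hz.1, fun f hf => ?_, ?_⟩
      · rw [show g * z * g⁻¹ * f = g * (z * (g⁻¹ * f * g)) * g⁻¹ by group, map_mul, map_mul,
          hz.2.1 _ (inv_conj_mem hg hf), ← map_mul, ← map_mul]
        congr 1; group
      · rw [conj_pow, map_mul, map_mul, hz.2.2, mul_one, ← map_mul, mul_inv_cancel, map_one]
    refine fun g hg => mem_normalizer_of_conj (key g hg) fun z hz => ?_
    have := key g⁻¹ (inv_mem hg) z hz
    rwa [inv_inv] at this
  -- some element of `Z` is moved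
  obtain ⟨z₀, hz₀, hz₀ne⟩ : ∃ z ∈ Z, ρ z ≠ 1 := by
    set f : E →* (W →ₗ[ZMod 2] W)ˣ := ρ.asGroupHom.comp E.subtype
    have hval : ∀ e : E, ((f e : (W →ₗ[ZMod 2] W)ˣ) : W →ₗ[ZMod 2] W) = ρ (e : G) := fun e =>
      Representation.asGroupHom_apply ρ e
    have hfR : IsPGroup s f.range := hE.of_surjective f.rangeRestrict f.rangeRestrict_surjective
    have : Finite f.range := Finite.of_surjective f.rangeRestrict f.rangeRestrict_surjective
    have : Nontrivial f.range := by
      obtain ⟨e, he, hne⟩ := hmov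
      exact ⟨⟨f.rangeRestrict ⟨e, he⟩, 1, fun h => hne (by
        rw [← hval ⟨e, he⟩, show f ⟨e, he⟩ = 1 from congrArg Subtype.val h]; rfl)⟩⟩
    have : Nontrivial (Subgroup.center f.range) := hfR.center_nontrivial
    obtain ⟨k, hk0, hk⟩ := (hfR.to_subgroup (Subgroup.center f.range)).nontrivial_iff_card.1 this
    obtain ⟨c, hc⟩ := exists_prime_orderOf_dvd_card' (G := Subgroup.center f.range) s
      (hk ▸ dvd_pow_self s hk0.ne')
    obtain ⟨e, he⟩ := f.rangeRestrict_surjective (c : f.range)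
    have hfe : f e = ((c : f.range) : (W →ₗ[ZMod 2] W)ˣ) := congrArg Subtype.val he
    refine ⟨e, ⟨e.2, fun g hg => ?_, ?_⟩, fun h1 => ?_⟩
    · have h1 := congrArg (fun t : f.range => (t : (W →ₗ[ZMod 2] W)ˣ))
        (Subgroup.mem_center_iff.1 c.2 (f.rangeRestrict ⟨g, hg⟩))
      have h2 := congrArg (fun t : (W →ₗ[ZMod 2] W)ˣ => (t : W →ₗ[ZMod 2] W)) h1
      simp only [Subgroup.coe_mul, MonoidHom.coe_rangeRestrict, ← hfe, ← map_mul, hval] at h2
      exact h2.symm
    · have h1 : f (e ^ s) = 1 := by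
        rw [map_pow, hfe, ← Subgroup.coe_pow, ← Subgroup.coe_pow, ← hc, pow_orderOf_eq_one]; rfl
      rw [← Subgroup.coe_pow, ← hval, h1]; rfl
    · have h2 : f e = 1 := Units.ext (by rw [hval, h1]; rfl)
      rw [hfe, ← Subgroup.coe_one f.range] at h2
      have h3 : c = 1 := Subtype.ext (Subtype.ext h2)
      rw [h3, orderOf_one] at hc
      exact hs.ne_one hc.symm
  -- extend the scalars
  set σ := extend Kbar ρ
  have hσeq : ∀ g h : G, ρ g = ρ h → σ g = σ h := fun g h e => (extend_eq_iff Kbar ρ g h).2 e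
  have hσone : ∀ g : G, σ g = 1 ↔ ρ g = 1 := fun g => by
    rw [← map_one σ, extend_eq_iff, map_one]
  have := Fintype.ofFinite Z
  have hcardZ : (Nat.card Z : Kbar) ≠ 0 := by
    obtain ⟨k, hk⟩ := IsPGroup.iff_card.1 (hE.to_le hZE)
    rw [hk, Nat.cast_pow]
    exact pow_ne_zero _ hs0
  -- a nontrivial character
  have hcp : commPart σ Z ≠ ⊥ := fun h => by
    have h1 : σ z₀ ≠ 1 := fun e => hz₀ne ((hσone z₀).1 e)
    refine h1 (LinearMap.ext fun x => sub_eq_zero.1 ?_)
    have := sub_mem_commPart σ hz₀ x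
    rwa [h, Submodule.mem_bot] at this
  obtain ⟨v, χ, hvc, hv0, hvχ⟩ := exists_weight σ Z hcp
    (fun z hz x hx => map_mem_commPart σ (le_normalizer hz) hx)
    (fun x hx y hy w _ => by rw [hσeq _ _ (hZmul x hx y (hZE hy))])
  set ψ₀ : Z → Kbar := fun z => χ z
  have hv : v ∈ eig σ Z ψ₀ := fun z => hvχ z z.2
  have hψs : ∀ z : Z, ψ₀ z ^ s = 1 := fun z => by
    have h1 : ∀ k : ℕ, ψ₀ (z ^ k) = ψ₀ z ^ k := by
      intro k
      induction k with
      | zero => rw [pow_zero, pow_zero, eig_one σ hv hv0]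
      | succ k ih => rw [pow_succ, pow_succ, eig_mul σ hv hv0, ih]
    rw [← h1]
    refine smul_left_injective Kbar hv0 ?_
    show ψ₀ (z ^ s) • v = (1 : Kbar) • v
    rw [← hv, Subgroup.coe_pow, (hσone _).2 z.2.2.2, Module.End.one_apply, one_smul]
  have hψne : ∃ z, ψ₀ z ≠ 1 := by
    by_contra hall
    push Not at hall
    refine hv0 (eq_zero_of_fix_of_comm σ hcardZ (fun g hg => ?_) hvc)
    rw [hv ⟨g, hg⟩, hall, one_smul]
  -- translates under `a`
  have haZ : ∀ i : ℕ, a ^ i ∈ normalizer (Z : Set G) := fun i => hZn _ (pow_mem haE i)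
  let cj : ℕ → Z → Z := fun i z => ⟨(a ^ i)⁻¹ * z * a ^ i, inv_conj_mem (haZ i) z.2⟩
  let orb : (Z → Kbar) → ℕ → Z → Kbar := fun ψ i z => ψ (cj i z)
  have horb : ∀ ψ i, ∀ x ∈ eig σ Z ψ, σ (a ^ i) x ∈ eig σ Z (orb ψ i) := fun ψ i x hx z => by
    rw [← rep_self_mul_apply, show (z : G) * a ^ i = a ^ i * (cj i z : G) by simp [cj, mul_assoc],
      rep_self_mul_apply, hx, map_smul]
  have horb0 : ∀ i, σ (a ^ i) v ≠ 0 := fun i h => hv0 (by
    rw [← rep_inv_apply_self σ (a ^ i) v, h, map_zero])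
  set ψi : Z → Kbar := fun z => ψ₀ z⁻¹
  -- the inverse character occurs
  obtain ⟨v', hv', hv'0⟩ : ∃ x, x ∈ eig σ Z ψi ∧ x ≠ 0 := by
    set T := B.baseChange Kbar
    have hT : ∀ e ∈ E, ∀ x y, T (σ e x) (σ e y) = T x y := by
      intro e he x y
      induction x using TensorProduct.induction_on with
      | zero => simp
      | add x₁ x₂ h1 h2 => simp only [map_add, LinearMap.add_apply, h1, h2]
      | tmul c x =>
        induction y using TensorProduct.induction_on with
        | zero => simp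
        | add y₁ y₂ h1 h2 => simp only [map_add, h1, h2]
        | tmul d y =>
          rw [extend_tmul, extend_tmul, LinearMap.BilinForm.baseChange_tmul,
            LinearMap.BilinForm.baseChange_tmul, hinv e he]
    -- right nondegeneracy gives dual vectors
    let φ : W →ₗ[ZMod 2] Module.Dual (ZMod 2) W := B.flip
    have hφ : Function.Injective φ := by
      rw [← LinearMap.ker_eq_bot, eq_bot_iff]
      exact fun y hy => hnd y fun x => LinearMap.congr_fun (LinearMap.mem_ker.1 hy) x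
    have hφs : Function.Surjective φ :=
      (LinearMap.injective_iff_surjective_of_finrank_eq_finrank Subspace.dual_finrank_eq.symm).1 hφ
    let bb := Module.finBasis (ZMod 2) W
    have hTnd : ∀ x, (∀ y, T x y = 0) → x = 0 := by
      intro x hx
      let bK := Algebra.TensorProduct.basis Kbar bb
      refine bK.ext_elem fun j => ?_
      obtain ⟨y, hy⟩ := hφs (bb.coord j)
      have h1 := hx (1 ⊗ₜ[ZMod 2] y)
      rw [← bK.sum_repr x, map_sum, LinearMap.sum_apply] at h1
      rw [map_zero, Finsupp.zero_apply]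
      rw [Finset.sum_eq_single j (fun i _ hij => ?_) (by simp)] at h1
      · rw [map_smul, LinearMap.smul_apply, Algebra.TensorProduct.basis_apply,
          LinearMap.BilinForm.baseChange_tmul, show B (bb j) y = bb.coord j (bb j) from
            LinearMap.congr_fun hy (bb j), Basis.coord_apply, Basis.repr_self,
          Finsupp.single_eq_same, one_smul, mul_one, smul_eq_mul, mul_one] at h1
        exact h1
      · rw [map_smul, LinearMap.smul_apply, Algebra.TensorProduct.basis_apply,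
          LinearMap.BilinForm.baseChange_tmul, show B (bb i) y = bb.coord j (bb i) from
            LinearMap.congr_fun hy (bb i), Basis.coord_apply, Basis.repr_self,
          Finsupp.single_eq_of_ne' hij, zero_smul, smul_zero]
    have hadj : ∀ x y, T (eOp σ Z ψ₀ x) y = T x (eOp σ Z ψi y) := by
      intro x y
      simp only [eOp, LinearMap.sum_apply, map_sum]
      rw [← Equiv.sum_comp (Equiv.inv Z) (fun z : Z => T ((ψ₀ z⁻¹ • σ (z : G)) x) y)]
      refine Finset.sum_congr rfl fun z _ => ?_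
      rw [Equiv.inv_apply, inv_inv, LinearMap.smul_apply, LinearMap.smul_apply, map_smul,
        LinearMap.smul_apply, map_smul]
      congr 1
      · simp [ψi]
      · rw [← hT z (hZE z.2) _ y, Subgroup.coe_inv, rep_self_apply_inv]
    obtain ⟨y, hy⟩ : ∃ y, eOp σ Z ψi y ≠ 0 := by
      by_contra hall
      push Not at hall
      have h1 : eOp σ Z ψ₀ v = 0 := hTnd _ fun y => by rw [hadj, hall, map_zero]
      rw [eOp_apply_self σ hv, smul_eq_zero] at h1
      exact h1.elim hcardZ hv0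
    refine ⟨eOp σ Z ψi y, fun w => ?_, hy⟩
    -- `eOp ψi` lands in the eigenspace of `ψi`
    rw [eOp, LinearMap.sum_apply, map_sum, Finset.smul_sum]
    conv_rhs => rw [← Equiv.sum_comp (Equiv.mulLeft w)
      (fun z : Z => ψi w • ((ψi z⁻¹ • σ (z : G)) y))]
    refine Finset.sum_congr rfl fun z _ => ?_
    rw [Equiv.coe_mulLeft, LinearMap.smul_apply, map_smul, LinearMap.smul_apply, smul_smul,
      ← rep_self_mul_apply, Subgroup.coe_mul]
    congr 1
    simp only [ψi, inv_inv]
    rw [eig_mul σ hv hv0, ← mul_assoc, ← eig_mul σ hv hv0, inv_mul_cancel, eig_one σ hv hv0,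
      one_mul]
  -- the two orbits
  let O : (Z → Kbar) → Set (Z → Kbar) := fun ψ => Set.range fun i : Fin r => orb ψ i
  have harmod : ∀ i : ℕ, a ^ i = a ^ (i % r) := fun i => by
    conv_lhs => rw [← Nat.mod_add_div i r, pow_add, pow_mul, ha, one_pow, mul_one]
  have horbmem : ∀ ψ i, orb ψ i ∈ O ψ := fun ψ i => ⟨⟨i % r, Nat.mod_lt _ hr.pos⟩, by
    funext z
    show ψ _ = ψ _
    congr 1
    refine Subtype.ext ?_
    show (a ^ (i % r))⁻¹ * z * a ^ (i % r) = (a ^ i)⁻¹ * z * a ^ i
    rw [← harmod i]⟩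
  let VO : (Z → Kbar) → Submodule Kbar (Kbar ⊗[ZMod 2] W) := fun ψ =>
    Submodule.span Kbar {x | ∃ φ ∈ O ψ, x ∈ eig σ Z φ}
  have hVOstab : ∀ ψ, a ∈ stabSub σ (VO ψ) ∧ E ≤ stabSub σ (VO ψ) := by
    intro ψ
    refine ⟨fun x hx => ?_, fun e he x hx => ?_⟩ <;>
      induction hx using Submodule.span_induction with
      | mem x hx =>
        obtain ⟨φ, ⟨i, rfl⟩, hxφ⟩ := hx
        first
        | exact Submodule.subset_span ⟨orb ψ ((i : ℕ) + 1), horbmem ψ _, fun z => by
            have h1 := horb _ 1 x hxφ z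
            rw [pow_one] at h1
            rw [h1]
            congr 1
            show ψ _ = ψ _
            congr 1
            refine Subtype.ext ?_
            simp only [cj, pow_one]
            group⟩
        | exact Submodule.subset_span ⟨_, ⟨i, rfl⟩, fun z => by
            rw [← rep_self_mul_apply, hσeq _ _ (hZmul z z.2 e he), rep_self_mul_apply, hxφ z,
              map_smul]⟩
      | zero => rw [map_zero]; exact zero_mem _
      | add x y _ _ h1 h2 => rw [map_add]; exact add_mem h1 h2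
      | smul c x _ h1 => rw [map_smul]; exact Submodule.smul_mem _ _ h1
  -- every orbit subspace containing a nontrivial character has a big rank
  have hrank : ∀ ψ x, x ∈ eig σ Z ψ → x ≠ 0 → (∃ z, ψ z ≠ 1) →
      r ≤ finrank Kbar ((VO ψ).map (σ a - 1)) + 1 := by
    intro ψ x hx hx0 hne
    obtain ⟨haS, hES⟩ := hVOstab ψ
    set S := stabSub σ (VO ψ)
    set τ := restrictRep σ S (VO ψ) fun g hg => hg
    have hEτ : IsPGroup s (E.subgroupOf S) := hE.of_equiv (subgroupOfEquivOfLe hES).symm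
    have hxV : x ∈ VO ψ := Submodule.subset_span ⟨orb ψ 0, horbmem ψ 0, fun z => by
      rw [hx z]
      congr 1
      show ψ z = ψ _
      congr 1
      exact Subtype.ext (by simp [cj])⟩
    have hmove : ∃ g ∈ E.subgroupOf S,
        τ ((⟨a, haS⟩ : S) ^ r ^ (1 - 1) * g) ≠ τ (g * (⟨a, haS⟩ : S) ^ r ^ (1 - 1)) := by
      by_contra hall
      push Not at hall
      simp only [Nat.sub_self, pow_zero, pow_one] at hall
      obtain ⟨z, hz⟩ := hne
      -- `E` is trivial on the orbit subspace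
      let F : Subgroup G :=
        { carrier := {g | g ∈ E ∧ ∀ y ∈ VO ψ, σ g y = y}
          one_mem' := ⟨one_mem _, fun y _ => by simp⟩
          mul_mem' := fun {g h} hg hh => ⟨mul_mem hg.1 hh.1, fun y hy => by
            rw [rep_self_mul_apply, hh.2 y hy, hg.2 y hy]⟩
          inv_mem' := fun {g} hg => ⟨inv_mem hg.1, fun y hy => by
            conv_lhs => rw [← hg.2 y hy]
            exact rep_inv_apply_self σ g y⟩ }
      have hF : E ≤ F := hgen.trans (commutator_zpowers_le haE fun u hu => ⟨by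
        rw [commutatorElement_def, show u * a * u⁻¹ * a⁻¹ = u * (a * u⁻¹ * a⁻¹) by group]
        exact mul_mem hu (conj_mem haE (inv_mem hu)), fun y hy => by
        have h1 := fun y' hy' => congrArg Subtype.val
          (LinearMap.congr_fun (hall ⟨u, hES hu⟩ hu) (⟨y', hy'⟩ : VO ψ))
        have hy' : σ (u⁻¹ * a⁻¹) y ∈ VO ψ :=
          (mul_mem (inv_mem (hES hu)) (inv_mem haS) : u⁻¹ * a⁻¹ ∈ S) y hy
        have h2 : σ (a * u) (σ (u⁻¹ * a⁻¹) y) = σ (u * a) (σ (u⁻¹ * a⁻¹) y) := h1 _ hy'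
        rw [commutatorElement_def, show u * a * u⁻¹ * a⁻¹ = u * a * (u⁻¹ * a⁻¹) by group,
          rep_self_mul_apply, ← h2, ← rep_self_mul_apply]
        simp⟩)
      have h3 := (hF (hZE z.2)).2 x hxV
      rw [hx z] at h3
      exact hz (smul_left_injective Kbar hx0 (by show ψ z • x = (1 : Kbar) • x; rw [h3, one_smul]))
    have hB : BoundHolds.{0, v, w} Kbar r s (finrank Kbar (VO ψ)) :=
      boundHolds hr hs hsr.symm hs0 _
    have hbound := @hB S _ _ (VO ψ) _ _ _ τ rfl (E.subgroupOf S)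
      ⟨a, haS⟩ 1 hEτ (by
        rw [Subgroup.mem_normalizer_iff]
        exact fun g => Subgroup.mem_normalizer_iff.1 haE (g : G)) (by
        rw [show (⟨a, haS⟩ : S) ^ r ^ 1 = 1 from Subtype.ext (by simp [ha]), map_one]) le_rfl hmove
    have hdeg : r ≤ deg (K := Kbar) (V := VO ψ) (τ ⟨a, haS⟩) := by
      rcases hbound with h | ⟨i, b, hi1, hi2, hb, hpow, -, -⟩
      · simpa using h
      · obtain rfl : i = 1 := by omega
        rw [pow_one] at hpow
        have hodd : Odd (s ^ b) := (hs.odd_of_ne_two hs2).pow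
        have hrodd : Odd r := hr.odd_of_ne_two hr2
        rw [hpow] at hrodd
        exact absurd (hodd.add_one) (Nat.not_even_iff_odd.2 hrodd)
    exact hdeg.trans (deg_restrict_le_rank (f := σ a) fun x hx => haS x hx)
  -- the two orbit subspaces meet trivially
  have hψine : ∃ z, ψi z ≠ 1 := by
    obtain ⟨z, hz⟩ := hψne
    exact ⟨z⁻¹, by simpa [ψi] using hz⟩
  have hdisj : ∀ i j : ℕ, orb ψ₀ i ≠ orb ψi j := by
    intro i j heq
    -- then some translate inverts `ψ₀`
    obtain ⟨m, hm⟩ : ∃ m : ℕ, ∀ z, ψ₀ (cj m z) = ψ₀ z⁻¹ := by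
      refine ⟨i + (r - j % r), fun z => ?_⟩
      have h1 := congrFun heq (cj (r - j % r) z)
      simp only [orb, ψi] at h1
      have e1 : cj i (cj (r - j % r) z) = cj (i + (r - j % r)) z := Subtype.ext (by
        simp only [cj]
        rw [show i + (r - j % r) = (r - j % r) + i by omega, pow_add]
        group)
      have e2 : cj j (cj (r - j % r) z) = z := Subtype.ext (by
        simp only [cj]
        rw [show (a ^ j)⁻¹ * ((a ^ (r - j % r))⁻¹ * (z : G) * a ^ (r - j % r)) * a ^ j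
          = (a ^ (r - j % r) * a ^ j)⁻¹ * z * (a ^ (r - j % r) * a ^ j) by group, ← pow_add,
          harmod (r - j % r + j), show (r - j % r + j) % r = 0 from Nat.dvd_iff_mod_eq_zero.1 (by
            refine ⟨1 + j / r, ?_⟩
            have := Nat.mod_lt j hr.pos
            have := Nat.div_add_mod j r
            rw [Nat.mul_add, Nat.mul_one]
            omega)]
        simp)
      rwa [e1, e2] at h1
    have hinv2 : ∀ z, ψ₀ (cj (2 * m) z) = ψ₀ z := fun z => by
      have e : cj (2 * m) z = cj m (cj m z) := Subtype.ext (by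
        simp only [cj]; rw [two_mul, pow_add]; group)
      rw [e, hm, show (cj m z)⁻¹ = cj m z⁻¹ from Subtype.ext (by simp [cj, mul_assoc]), hm, inv_inv]
    have hiter : ∀ k z, ψ₀ (cj (k * (2 * m)) z) = ψ₀ z := by
      intro k
      induction k with
      | zero => intro z; congr 1; exact Subtype.ext (by simp [cj])
      | succ k ih =>
        intro z
        have e : cj ((k + 1) * (2 * m)) z = cj (k * (2 * m)) (cj (2 * m) z) := Subtype.ext (by
          simp only [cj]; rw [Nat.succ_mul, add_comm, pow_add]; group)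
        rw [e, ih, hinv2]
    obtain ⟨k, hk⟩ := hr.odd_of_ne_two hr2
    have hsame : ∀ z, ψ₀ z = ψ₀ z⁻¹ := fun z => by
      rw [← hm z, ← hiter (k + 1) (z : Z)]
      have e : (k + 1) * (2 * m) = m + r * m := by rw [hk]; ring
      rw [e]
      congr 1
      refine Subtype.ext ?_
      simp only [cj]
      rw [pow_add, pow_mul, ha, one_pow, mul_one]
    obtain ⟨z, hz⟩ := hψne
    refine hz ?_
    have h2 : ψ₀ z ^ 2 = 1 := by
      rw [pow_two]
      nth_rewrite 2 [hsame z]
      rw [← eig_mul σ hv hv0, mul_inv_cancel, eig_one σ hv hv0]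
    have h3 := pow_gcd_eq_one.2 ⟨h2, hψs z⟩
    rwa [(Nat.coprime_primes Nat.prime_two hs).2 hs2.symm, pow_one] at h3
  let Ofs : (Z → Kbar) → Finset (Z → Kbar) := fun ψ =>
    Finset.image (fun i : Fin r => orb ψ i) Finset.univ
  have hmemO : ∀ ψ φ, φ ∈ Ofs ψ ↔ φ ∈ O ψ := fun ψ φ => by simp [Ofs, O]
  have hVdisj : VO ψ₀ ⊓ VO ψi = ⊥ := by
    rw [eq_bot_iff]
    rintro x ⟨hx1, hx2⟩
    rw [Submodule.mem_bot]
    -- the projector onto the first orbit
    have hne0 : ∀ φ ∈ O ψ₀, ∃ y, y ∈ eig σ Z φ ∧ y ≠ 0 := by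
      rintro _ ⟨i, rfl⟩
      exact ⟨_, horb ψ₀ i v hv, horb0 i⟩
    set P : Module.End Kbar (Kbar ⊗[ZMod 2] W) := ∑ φ ∈ Ofs ψ₀, eOp σ Z φ
    have h1 : P x = (Nat.card Z : Kbar) • x := by
      clear hx2
      induction hx1 using Submodule.span_induction with
      | mem y hy =>
        obtain ⟨φ, hφ, hyφ⟩ := hy
        rw [LinearMap.sum_apply, Finset.sum_eq_single φ (fun φ' hφ' hne => ?_)
          (fun h => absurd ((hmemO _ _).2 hφ) h), eOp_apply_self σ hyφ]
        obtain ⟨w, hw, hw0⟩ := hne0 φ' ((hmemO _ _).1 hφ')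
        exact eOp_apply_ne σ hw hw0 hyφ hne.symm
      | zero => simp
      | add y y' _ _ h h' => rw [map_add, h, h', smul_add]
      | smul c y _ h => rw [map_smul, h, smul_comm]
    have h2 : P x = 0 := by
      clear hx1 h1
      induction hx2 using Submodule.span_induction with
      | mem y hy =>
        obtain ⟨_, ⟨j, rfl⟩, hyφ⟩ := hy
        rw [LinearMap.sum_apply]
        refine Finset.sum_eq_zero fun φ' hφ' => ?_
        obtain ⟨w, hw, hw0⟩ := hne0 φ' ((hmemO _ _).1 hφ')
        obtain ⟨i, rfl⟩ := (hmemO _ _).1 hφ'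
        exact eOp_apply_ne σ hw hw0 hyφ fun e => hdisj i j e.symm
      | zero => simp
      | add y y' _ _ h h' => rw [map_add, h, h', add_zero]
      | smul c y _ h => rw [map_smul, h, smul_zero]
    rw [h2, eq_comm, smul_eq_zero] at h1
    exact h1.resolve_left hcardZ
  have hr1 := hrank ψ₀ v hv hv0 hψne
  have hr2 := hrank ψi v' hv' hv'0 hψine
  have h1 : (VO ψ₀).map (σ a - 1) ⊓ (VO ψi).map (σ a - 1) = ⊥ := by
    have key : ∀ ψ, (VO ψ).map (σ a - 1) ≤ VO ψ := by
      rintro ψ _ ⟨y, hy, rfl⟩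
      exact sub_mem ((hVOstab ψ).1 y hy) hy
    exact eq_bot_iff.2 ((inf_le_inf (key ψ₀) (key ψi)).trans hVdisj.le)
  have h2 := Submodule.finrank_sup_add_finrank_inf_eq ((VO ψ₀).map (σ a - 1))
    ((VO ψi).map (σ a - 1))
  rw [h1, finrank_bot, add_zero] at h2
  have h3 : finrank Kbar ↥((VO ψ₀).map (σ a - 1) ⊔ (VO ψi).map (σ a - 1))
      ≤ finrank Kbar (LinearMap.range (σ a - 1)) :=
    Submodule.finrank_mono (sup_le LinearMap.map_le_range LinearMap.map_le_range)
  have h4 : finrank Kbar (LinearMap.range (σ a - 1))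
      ≤ finrank (ZMod 2) (LinearMap.range (ρ a - 1)) := by
    have e : σ a - 1 = (ρ a - 1).baseChange Kbar := by
      rw [LinearMap.baseChange_sub, Module.End.one_eq_id, Module.End.one_eq_id,
        LinearMap.baseChange_id]
      rfl
    rw [e]
    exact finrank_range_baseChange_le _
  omega

end RankBound

end CfsgLib.CoprimeHeight
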