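import Cfsg.Agent.Lib.CoprimeHeight.WeakTower
import Cfsg.Agent.Lib.FixedFree.Weights
import Mathlib.LinearAlgebra.Dual.Lemmas

/-!
# Fixed points, commutator parts and Frobenius-type spanning
-/

set_option autoImplicit false

namespace CfsgLib.CoprimeHeight

open Subgroup CfsgLib.FixedFree
open scoped commutatorElement

universe u v w

variable {K : Type u} [Field K] {V : Type v} [AddCommGroup V] [Module K V] {Γ : Type w} [Group Γ]
  (ρ : Representation K Γ V)

/-- The vectors fixed by `A`. -/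
def fixSub (A : Subgroup Γ) : Submodule K V where
  carrier := {x | ∀ g ∈ A, ρ g x = x}
  zero_mem' _ _ := map_zero _
  add_mem' {x y} hx hy g hg := by rw [map_add, hx g hg, hy g hg]
  smul_mem' c x hx g hg := by rw [map_smul, hx g hg]

/-- The span of the `ρ g x - x`, `g ∈ A`. -/
def commPart (A : Subgroup Γ) : Submodule K V :=
  Submodule.span K {y | ∃ g ∈ A, ∃ x, y = ρ g x - x}

theorem mem_fixSub {A : Subgroup Γ} {x : V} : x ∈ fixSub ρ A ↔ ∀ g ∈ A, ρ g x = x := Iff.rfl

theorem sub_mem_commPart {A : Subgroup Γ} {g : Γ} (hg : g ∈ A) (x : V) :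
    ρ g x - x ∈ commPart ρ A := Submodule.subset_span ⟨g, hg, x, rfl⟩

theorem fixSub_anti {A B : Subgroup Γ} (h : A ≤ B) : fixSub ρ B ≤ fixSub ρ A :=
  fun _ hx g hg => hx g (h hg)

theorem commPart_mono {A B : Subgroup Γ} (h : A ≤ B) : commPart ρ A ≤ commPart ρ B :=
  Submodule.span_mono fun _ ⟨g, hg, x, e⟩ => ⟨g, h hg, x, e⟩

theorem map_mem_fixSub {A : Subgroup Γ} {g : Γ} (hg : g ∈ normalizer (A : Set Γ)) {x : V}
    (hx : x ∈ fixSub ρ A) : ρ g x ∈ fixSub ρ A := by
  intro b hb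
  rw [← rep_self_mul_apply, show b * g = g * (g⁻¹ * b * g) by group, rep_self_mul_apply,
    hx _ (inv_conj_mem hg hb)]

theorem map_mem_commPart {A : Subgroup Γ} {g : Γ} (hg : g ∈ normalizer (A : Set Γ)) {x : V}
    (hx : x ∈ commPart ρ A) : ρ g x ∈ commPart ρ A := by
  induction hx using Submodule.span_induction with
  | mem y hy =>
    obtain ⟨b, hb, z, rfl⟩ := hy
    rw [map_sub, ← rep_self_mul_apply, show g * b = (g * b * g⁻¹) * g by group, rep_self_mul_apply]
    exact sub_mem_commPart ρ (conj_mem hg hb) _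
  | zero => rw [map_zero]; exact zero_mem _
  | add y z _ _ hy hz => rw [map_add]; exact add_mem hy hz
  | smul c y _ hy => rw [map_smul]; exact Submodule.smul_mem _ _ hy

variable [Finite Γ]

/-- The elements stabilising a submodule. -/
def stabSub (W : Submodule K V) : Subgroup Γ where
  carrier := {g | ∀ x ∈ W, ρ g x ∈ W}
  one_mem' x hx := by simpa using hx
  mul_mem' {a b} ha hb x hx := by rw [rep_self_mul_apply]; exact ha _ (hb x hx)
  inv_mem' {a} ha x hx := by
    rw [show a⁻¹ = a ^ (orderOf a - 1) from inv_eq_of_mul_eq_one_right (by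
      rw [← pow_succ', Nat.sub_add_cancel (orderOf_pos a), pow_orderOf_eq_one])]
    generalize orderOf a - 1 = k
    induction k with
    | zero => simpa using hx
    | succ k ih => rw [pow_succ', rep_self_mul_apply]; exact ha _ ih

theorem mem_stabSub {W : Submodule K V} {g : Γ} : g ∈ stabSub ρ W ↔ ∀ x ∈ W, ρ g x ∈ W := Iff.rfl

/-- Averaging over `A`. -/
noncomputable def avg (A : Subgroup Γ) : V →ₗ[K] V :=
  haveI := Fintype.ofFinite A
  (Nat.card A : K)⁻¹ • ∑ c : A, ρ (c : Γ)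

theorem avg_apply (A : Subgroup Γ) [Fintype A] (x : V) :
    avg ρ A x = (Nat.card A : K)⁻¹ • ∑ c : A, ρ (c : Γ) x := by
  rw [avg, Subsingleton.elim (Fintype.ofFinite A) ‹Fintype A›]
  simp [LinearMap.sum_apply]

variable {A : Subgroup Γ}

theorem avg_mem_fixSub (x : V) : avg ρ A x ∈ fixSub ρ A := by
  have := Fintype.ofFinite A
  intro g hg
  rw [avg_apply, map_smul, map_sum]
  congr 1
  conv_rhs => rw [← Equiv.sum_comp (Equiv.mulLeft (⟨g, hg⟩ : A))]
  exact Finset.sum_congr rfl fun c _ => (rep_self_mul_apply ρ g c x).symm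

theorem avg_eq_self (hA : (Nat.card A : K) ≠ 0) {x : V} (hx : x ∈ fixSub ρ A) : avg ρ A x = x := by
  have := Fintype.ofFinite A
  rw [avg_apply, Finset.sum_congr rfl (fun (c : A) _ => hx (c : Γ) c.2), Finset.sum_const, Finset.card_univ,
    ← Nat.card_eq_fintype_card, ← Nat.cast_smul_eq_nsmul K, smul_smul, inv_mul_cancel₀ hA, one_smul]

theorem avg_rep {g : Γ} (hg : g ∈ A) (x : V) : avg ρ A (ρ g x) = avg ρ A x := by
  have := Fintype.ofFinite A
  rw [avg_apply, avg_apply]
  congr 1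
  conv_rhs => rw [← Equiv.sum_comp (Equiv.mulRight (⟨g, hg⟩ : A))]
  exact Finset.sum_congr rfl fun c _ => (rep_self_mul_apply ρ c g x).symm

theorem avg_eq_zero {x : V} (hx : x ∈ commPart ρ A) : avg ρ A x = 0 := by
  induction hx using Submodule.span_induction with
  | mem y hy =>
    obtain ⟨b, hb, z, rfl⟩ := hy
    rw [map_sub, avg_rep ρ hb, sub_self]
  | zero => rw [map_zero]
  | add y z _ _ hy hz => rw [map_add, hy, hz, add_zero]
  | smul c y _ hy => rw [map_smul, hy, smul_zero]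

theorem avg_mem {W : Submodule K V} (hW : ∀ g ∈ A, ∀ x ∈ W, ρ g x ∈ W) {x : V} (hx : x ∈ W) :
    avg ρ A x ∈ W := by
  have := Fintype.ofFinite A
  rw [avg_apply]
  exact W.smul_mem _ (W.sum_mem fun c _ => hW _ c.2 x hx)

/-- The difference to the average is a combination of commutators inside an invariant subspace. -/
theorem sub_avg_mem_span (hA : (Nat.card A : K) ≠ 0) {W : Submodule K V} {x : V} (hx : x ∈ W) :
    x - avg ρ A x ∈ Submodule.span K {y | ∃ g ∈ A, ∃ z ∈ W, y = ρ g z - z} := by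
  have := Fintype.ofFinite A
  have hx1 : (Nat.card A : K)⁻¹ • ∑ _c : A, x = x := by
    rw [Finset.sum_const, Finset.card_univ, ← Nat.card_eq_fintype_card, ← Nat.cast_smul_eq_nsmul K,
      smul_smul, inv_mul_cancel₀ hA, one_smul]
  rw [show x - avg ρ A x = (Nat.card A : K)⁻¹ • ∑ c : A, (x - ρ (c : Γ) x) by
    rw [Finset.sum_sub_distrib, smul_sub, hx1, avg_apply]]
  refine Submodule.smul_mem _ _ (Submodule.sum_mem _ fun c _ => ?_)
  rw [← neg_sub]
  exact Submodule.neg_mem _ (Submodule.subset_span ⟨c, c.2, x, hx, rfl⟩)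

theorem sub_avg_mem (hA : (Nat.card A : K) ≠ 0) (x : V) : x - avg ρ A x ∈ commPart ρ A :=
  (Submodule.span_le.2 fun y hy => by
      obtain ⟨g, hg, z, -, rfl⟩ := hy
      exact sub_mem_commPart ρ hg z : Submodule.span K _ ≤ commPart ρ A)
    (sub_avg_mem_span ρ hA (W := ⊤) (Submodule.mem_top (x := x)))

theorem eq_zero_of_fix_of_comm (hA : (Nat.card A : K) ≠ 0) {x : V} (h1 : x ∈ fixSub ρ A)
    (h2 : x ∈ commPart ρ A) : x = 0 := by
  rw [← avg_eq_self ρ hA h1, avg_eq_zero ρ h2]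

/-- A subspace without fixed vectors lies in the commutator part. -/
theorem le_commPart (hA : (Nat.card A : K) ≠ 0) {W : Submodule K V}
    (hW : ∀ g ∈ A, ∀ x ∈ W, ρ g x ∈ W) (h0 : ∀ x ∈ W, x ∈ fixSub ρ A → x = 0) :
    W ≤ commPart ρ A := fun x hx => by
  have h1 := sub_avg_mem ρ hA x
  rwa [h0 _ (avg_mem ρ hW hx) (avg_mem_fixSub ρ x), sub_zero] at h1

/-- The part of an invariant subspace inside the commutator part comes from itself. -/
theorem mem_span_of_mem_commPart (hA : (Nat.card A : K) ≠ 0) {W : Submodule K V} {x : V}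
    (hx : x ∈ W) (hc : x ∈ commPart ρ A) :
    x ∈ Submodule.span K {y | ∃ g ∈ A, ∃ z ∈ W, y = ρ g z - z} := by
  have h1 := sub_avg_mem_span ρ hA (A := A) hx
  rwa [avg_eq_zero ρ hc, sub_zero] at h1

omit [Finite Γ] in
/-- `[A, ⟨a⟩]` is generated by the commutators with `a`. -/
theorem commutator_zpowers_le {A H : Subgroup Γ} {a : Γ} [Finite Γ]
    (ha : a ∈ normalizer (A : Set Γ)) (h : ∀ u ∈ A, ⁅u, a⁆ ∈ H) : ⁅A, zpowers a⁆ ≤ H := by
  refine commutator_le.2 fun u hu b hb => ?_
  obtain ⟨i, rfl⟩ : ∃ i : ℕ, a ^ i = b := mem_powers_iff_mem_zpowers.2 hb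
  induction i with
  | zero => simp only [pow_zero, commutatorElement_one_right]; exact one_mem H
  | succ i ih =>
    show ⁅u, a ^ (i + 1)⁆ ∈ H
    rw [show ⁅u, a ^ (i + 1)⁆ = ⁅u, a ^ i⁆ * ⁅a ^ i * u * (a ^ i)⁻¹, a⁆ by
      simp only [commutatorElement_def, pow_succ]; group]
    exact mul_mem (ih (pow_mem (mem_zpowers a) i)) (h _ (conj_mem (pow_mem ha i) hu))

/-- **Frobenius lemma**: let `A = [A, a]` act commutatively on `W`, `a` of prime order. If `U` is an
invariant subspace containing every vector of `W` fixed by `a`, then `A` is trivial on `W / U`. -/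
theorem frob {a : Γ} {r : ℕ} (hr : r.Prime) (ha : a ^ r = 1) (haA : a ∈ normalizer (A : Set Γ))
    {W U : Submodule K V} (hWA : ∀ z ∈ A, ∀ x ∈ W, ρ z x ∈ W) (hWa : ∀ x ∈ W, ρ a x ∈ W)
    (hUA : ∀ z ∈ A, ∀ x ∈ U, ρ z x ∈ U)
    (hfix : ∀ x ∈ W, ρ a x = x → x ∈ U)
    (hcomm : ∀ y ∈ A, ∀ z ∈ A, ∀ x ∈ W, ρ (y * z) x = ρ (z * y) x)
    (hgen : A ≤ ⁅A, zpowers a⁆) (hA : (Nat.card A : K) ≠ 0) :
    ∀ z ∈ A, ∀ x ∈ W, ρ z x - x ∈ U := by
  have := Fintype.ofFinite A
  let H : Subgroup Γ :=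
    { carrier := {z | z ∈ A ∧ ∀ x ∈ W, ρ z x - x ∈ U}
      one_mem' := ⟨one_mem A, fun x _ => by simp⟩
      mul_mem' := fun {y z} hy hz => ⟨mul_mem hy.1 hz.1, fun x hx => by
        rw [rep_self_mul_apply, ← sub_add_sub_cancel (ρ y (ρ z x)) (ρ y x) x, ← map_sub]
        exact add_mem (hUA y hy.1 _ (hz.2 x hx)) (hy.2 x hx)⟩
      inv_mem' := fun {z} hz => ⟨inv_mem hz.1, fun x hx => by
        have h1 := U.neg_mem (hUA _ (inv_mem hz.1) _ (hz.2 x hx))
        rwa [map_sub, CfsgLib.HallHigman.rep_inv_apply_self, neg_sub] at h1⟩ }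
  refine fun z hz => ((hgen.trans (commutator_zpowers_le haA (H := H) fun u hu => ?_)) hz).2
  have hδA : ∀ i : ℕ, ∀ w ∈ A, w * a ^ i * w⁻¹ * (a ^ i)⁻¹ ∈ A := fun i w hw => by
    rw [show w * a ^ i * w⁻¹ * (a ^ i)⁻¹ = w * (a ^ i * w⁻¹ * (a ^ i)⁻¹) by group]
    exact mul_mem hw (conj_mem (pow_mem haA i) (inv_mem hw))
  refine ⟨by simpa [commutatorElement_def] using hδA 1 u hu, fun x hx => ?_⟩
  have hWi : ∀ (i : ℕ) {y : V}, y ∈ W → ρ (a ^ i) y ∈ W := fun i y hy =>
    (pow_mem (show a ∈ stabSub ρ W from hWa) i) y hy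
  -- the average over all conjugates of `⟨a⟩`
  have hsum : ∀ y ∈ W, ∑ i ∈ Finset.range r, ρ (a ^ i) y ∈ U := fun y hy => by
    refine hfix _ (W.sum_mem fun i _ => hWi i hy) ?_
    rw [map_sum]
    have h1 : ∀ i, ρ a (ρ (a ^ i) y) = ρ (a ^ (i + 1)) y := fun i => by
      rw [← rep_self_mul_apply, ← pow_succ']
    simp only [h1]
    have h2 := Finset.sum_range_succ' (fun i => ρ (a ^ i) y) r
    rw [Finset.sum_range_succ (fun i => ρ (a ^ i) y) r, ha, pow_zero] at h2
    exact (add_right_cancel h2).symm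
  set δ : ℕ → Γ → Γ := fun i w => w * a ^ i * w⁻¹ * (a ^ i)⁻¹ with hδ
  set S : ℕ → V := fun i => ∑ c : A, ρ (δ i c) (ρ (a ^ i) x)
  have htot : ∑ i ∈ Finset.range r, S i ∈ U := by
    rw [Finset.sum_comm]
    refine U.sum_mem fun c _ => ?_
    have h1 := hUA _ c.2 _ (hsum _ (hWA _ (inv_mem c.2) x hx))
    rw [map_sum] at h1
    convert h1 using 1
    refine Finset.sum_congr rfl fun i _ => ?_
    rw [← rep_self_mul_apply, ← rep_self_mul_apply, ← rep_self_mul_apply]
    congr 2
    simp only [hδ]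
    group
  -- every `⁅u, a⁆` fixes the summands with `0 < i`
  have hSfix : ∀ i, 0 < i → i < r → ρ ⁅u, a⁆ (S i) = S i := by
    intro i hi hir
    have hstep : ∀ w ∈ A, ρ (δ i w) (S i) = S i := fun w hw => by
      rw [map_sum]
      conv_rhs => rw [show S i = ∑ c : A, ρ (δ i ((⟨w, hw⟩ * c : A) : Γ)) (ρ (a ^ i) x) from
        (Equiv.sum_comp (Equiv.mulLeft (⟨w, hw⟩ : A)) fun c : A => ρ (δ i c) (ρ (a ^ i) x)).symm]
      refine Finset.sum_congr rfl fun c _ => ?_
      have hm : a ^ i * w⁻¹ * (a ^ i)⁻¹ ∈ A := conj_mem (pow_mem haA i) (inv_mem hw)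
      have e : δ i ((⟨w, hw⟩ * c : A) : Γ) = w * (δ i c * (a ^ i * w⁻¹ * (a ^ i)⁻¹)) := by
        simp only [hδ, Subgroup.coe_mul]; group
      rw [e, rep_self_mul_apply ρ w, hcomm _ (hδA i c c.2) _ hm _ (hWi i hx)]
      simp only [← rep_self_mul_apply]
      refine congrArg (fun g => ρ g x) ?_
      simp only [hδ]
      group
    have hiter : ∀ m : ℕ, ∀ w ∈ A, ρ (w * (a ^ i) ^ m * w⁻¹ * ((a ^ i) ^ m)⁻¹) (S i) = S i := by
      intro m
      induction m with
      | zero => intro w _; simp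
      | succ m ihm =>
        intro w hw
        rw [show w * (a ^ i) ^ (m + 1) * w⁻¹ * ((a ^ i) ^ (m + 1))⁻¹
          = (w * (a ^ i) ^ m * w⁻¹ * ((a ^ i) ^ m)⁻¹) * δ i ((a ^ i) ^ m * w * ((a ^ i) ^ m)⁻¹) by
            simp only [hδ, pow_succ]; group,
          rep_self_mul_apply, hstep _ (conj_mem (pow_mem (pow_mem haA i) m) hw), ihm w hw]
    obtain ⟨m, hm⟩ : ∃ m : ℕ, (a ^ i) ^ m = a := exists_pow_eq_self_of_coprime (by
      refine Nat.Coprime.coprime_dvd_right (orderOf_dvd_of_pow_eq_one ha) ?_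
      exact ((hr.coprime_iff_not_dvd).2 fun h => absurd (Nat.le_of_dvd hi h) (by omega)).symm)
    have := hiter m u hu
    rwa [hm, ← commutatorElement_def] at this
  have hd : ⁅u, a⁆ ∈ A := by simpa [commutatorElement_def] using hδA 1 u hu
  have h1 : ρ ⁅u, a⁆ (∑ i ∈ Finset.range r, S i) - ∑ i ∈ Finset.range r, S i
      = (Nat.card A : K) • (ρ ⁅u, a⁆ x - x) := by
    rw [map_sum, ← Finset.sum_sub_distrib, Finset.sum_eq_single 0]
    · have hS0 : S 0 = (Nat.card A : K) • x := by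
        simp [S, hδ, Nat.card_eq_fintype_card, Nat.cast_smul_eq_nsmul]
      rw [hS0, map_smul, smul_sub]
    · intro i hi hi0
      rw [hSfix i (Nat.pos_of_ne_zero hi0) (Finset.mem_range.1 hi), sub_self]
    · intro h; exact absurd (Finset.mem_range.2 hr.pos) h
  have h2 : (Nat.card A : K) • (ρ ⁅u, a⁆ x - x) ∈ U := h1 ▸ sub_mem (hUA _ hd _ htot) htot
  exact (U.smul_mem_iff hA).1 h2

/-- In the situation of the Frobenius lemma, what commutes with `A` and `a` and fixes the vectors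
fixed by `a` is trivial on the commutator part. -/
theorem frob_fix {a x : Γ} {r : ℕ} (hr : r.Prime) (ha : a ^ r = 1)
    (haA : a ∈ normalizer (A : Set Γ)) {W : Submodule K V}
    (hWA : ∀ z ∈ A, ∀ y ∈ W, ρ z y ∈ W) (hWa : ∀ y ∈ W, ρ a y ∈ W) (hWc : W ≤ commPart ρ A)
    (hcomm : ∀ y ∈ A, ∀ z ∈ A, ∀ w ∈ W, ρ (y * z) w = ρ (z * y) w)
    (hgen : A ≤ ⁅A, zpowers a⁆) (hA : (Nat.card A : K) ≠ 0)
    (hxA : ∀ z ∈ A, ∀ w ∈ W, ρ (x * z) w = ρ (z * x) w)
    (hxfix : ∀ w ∈ W, ρ a w = w → ρ x w = w) : ∀ w ∈ W, ρ x w = w := by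
  let U : Submodule K V := W ⊓ LinearMap.ker (ρ x - 1)
  have hU : ∀ {w}, w ∈ U ↔ w ∈ W ∧ ρ x w = w := fun {w} => by
    simp [U, LinearMap.mem_ker, sub_eq_zero]
  intro w hw
  refine (hU.1 (Submodule.span_le.2 ?_ (mem_span_of_mem_commPart ρ hA hw (hWc hw)))).2
  rintro _ ⟨z, hz, y, hy, rfl⟩
  exact frob ρ hr ha haA hWA hWa
    (fun z hz w hw => hU.2 ⟨hWA z hz w (hU.1 hw).1, by
      rw [← rep_self_mul_apply, hxA z hz w (hU.1 hw).1, rep_self_mul_apply, (hU.1 hw).2]⟩)
    (fun w hw e => hU.2 ⟨hw, hxfix w hw e⟩) hcomm hgen hA z hz y hy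

end CfsgLib.CoprimeHeight

namespace CfsgLib.CoprimeHeight

section Hyperplanes

universe u' v' w'

variable {K : Type u'} [Field K] {V : Type v'} [AddCommGroup V] [Module K V]
  {q : ℕ} [Fact q.Prime] {M : Type w'} [AddCommGroup M] [Module (ZMod q) M] [Finite M]

/-- An elementary abelian group in coprime characteristic: a module is spanned by the fixed vectors
of the hyperplanes (and of the whole group). -/
theorem mem_span_hyperplane (π : M → Module.End K V) (h0 : π 0 = 1)
    (hadd : ∀ x y, π (x + y) = π x * π y) (hq : (q : K) ≠ 0) {W : Submodule K V}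
    (hW : ∀ m, ∀ x ∈ W, π m x ∈ W) {v : V} (hv : v ∈ W) :
    v ∈ Submodule.span K
      {x | x ∈ W ∧ ∃ f : Module.Dual (ZMod q) M, ∀ m, f m = 0 → π m x = x} := by
  classical
  set S := Submodule.span K {x | x ∈ W ∧ ∃ f : Module.Dual (ZMod q) M, ∀ m, f m = 0 → π m x = x}
  -- the fixer of a vector
  let fixer : V → Submodule (ZMod q) M := fun x =>
    { carrier := {m | π m x = x}
      zero_mem' := by simp [h0]
      add_mem' := fun {m m'} hm hm' => by
        show π (m + m') x = x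
        rw [hadd, Module.End.mul_apply, show π m' x = x from hm', show π m x = x from hm]
      smul_mem' := fun c m hm => by
        obtain ⟨k, rfl⟩ := ZMod.natCast_zmod_surjective c
        show π ((k : ZMod q) • m) x = x
        rw [Nat.cast_smul_eq_nsmul]
        induction k with
        | zero => simp [h0]
        | succ k ih =>
          rw [succ_nsmul, hadd, Module.End.mul_apply, show π m x = x from hm, ih] }
  suffices h : ∀ d (L : Submodule (ZMod q) M), Module.finrank (ZMod q) M - Module.finrank (ZMod q) L = d →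
      ∀ x ∈ W, L ≤ fixer x → x ∈ S from h _ ⊥ rfl v hv bot_le
  intro d
  induction d using Nat.strong_induction_on with
  | _ d ih =>
  intro L hd x hx hL
  have hfin : Module.Finite (ZMod q) M := Module.Finite.of_finite
  by_cases hbig : ∃ m₁ m₂ : M, m₁ ∉ L ∧ m₂ ∉ L ⊔ Submodule.span (ZMod q) {m₁}
  · obtain ⟨m₁, m₂, h1, h2⟩ := hbig
    -- sums over the lines of the plane
    let T : M → V := fun n => ∑ j : ZMod q, π (j • n) x
    let all : V := ∑ j : ZMod q, ∑ l : ZMod q, π (j • m₁ + l • m₂) x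
    have hcomm : ∀ m n, π m * π n = π n * π m := fun m n => by rw [← hadd, ← hadd, add_comm]
    have hlt : ∀ {n : M}, n ∉ L → ∀ y ∈ W, L ≤ fixer y → π n y = y → y ∈ S := by
      intro n hn y hy hLy hny
      refine ih _ ?_ (L ⊔ Submodule.span (ZMod q) {n}) rfl y hy (sup_le hLy ?_)
      · have hlt : L < L ⊔ Submodule.span (ZMod q) {n} := lt_of_le_of_ne le_sup_left fun e =>
          hn (e ▸ Submodule.mem_sup_right (Submodule.mem_span_singleton_self n))
        have := Submodule.finrank_lt_finrank_of_lt hlt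
        have := (L ⊔ Submodule.span (ZMod q) {n}).finrank_le
        omega
      · rw [Submodule.span_le, Set.singleton_subset_iff]; exact hny
    have hTS : ∀ n, n ∉ L → T n ∈ S := fun n hn => by
      refine hlt hn _ (W.sum_mem fun j _ => hW _ x hx) (fun l hl => ?_) ?_
      · show π l (T n) = T n
        rw [map_sum]
        refine Finset.sum_congr rfl fun j _ => ?_
        rw [← Module.End.mul_apply, hcomm, Module.End.mul_apply, show π l x = x from hL hl]
      · rw [map_sum]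
        conv_rhs => rw [show T n = ∑ j : ZMod q, π ((1 + j) • n) x from
          (Equiv.sum_comp (Equiv.addLeft (1 : ZMod q)) fun j => π (j • n) x).symm]
        refine Finset.sum_congr rfl fun j _ => ?_
        rw [← Module.End.mul_apply, ← hadd, add_smul, one_smul]
    have hallS : all ∈ S := by
      refine hlt h1 _ (W.sum_mem fun j _ => W.sum_mem fun l _ => hW _ x hx) (fun l hl => ?_) ?_
      · show π l all = all
        simp only [all, map_sum]
        refine Finset.sum_congr rfl fun j _ => Finset.sum_congr rfl fun l' _ => ?_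
        rw [← Module.End.mul_apply, hcomm, Module.End.mul_apply, show π l x = x from hL hl]
      · conv_rhs => rw [show all = ∑ j : ZMod q, ∑ l : ZMod q, π ((1 + j) • m₁ + l • m₂) x from
          (Equiv.sum_comp (Equiv.addLeft (1 : ZMod q))
            fun j => ∑ l : ZMod q, π (j • m₁ + l • m₂) x).symm]
        simp only [all, map_sum]
        refine Finset.sum_congr rfl fun j _ => Finset.sum_congr rfl fun l _ => ?_
        rw [← Module.End.mul_apply, ← hadd, add_smul, one_smul, add_assoc]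
    have hne : ∀ i : ZMod q, m₁ + i • m₂ ∉ L := by
      intro i hi
      by_cases hi0 : i = 0
      · subst hi0; simp at hi; exact h1 hi
      · refine h2 ?_
        have : i⁻¹ • ((m₁ + i • m₂) - m₁) = m₂ := by
          rw [add_sub_cancel_left, smul_smul, inv_mul_cancel₀ hi0, one_smul]
        rw [← this]
        exact Submodule.smul_mem _ _ (sub_mem (Submodule.mem_sup_left hi)
          (Submodule.mem_sup_right (Submodule.mem_span_singleton_self m₁)))
    have hm2 : m₂ ∉ L := fun h => h2 (Submodule.mem_sup_left h)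
    have key : (q : K) • x = (∑ i : ZMod q, T (m₁ + i • m₂)) + T m₂ - all := by
      simp only [T, all]
      rw [Finset.sum_comm, ← Finset.sum_add_sum_compl {(0 : ZMod q)},
        ← Finset.sum_add_sum_compl {(0 : ZMod q)}
          (fun j => ∑ l : ZMod q, π (j • m₁ + l • m₂) x), Finset.sum_singleton, Finset.sum_singleton]
      have e : ∀ j ∈ ({(0 : ZMod q)}ᶜ : Finset (ZMod q)),
          ∑ i : ZMod q, π (j • (m₁ + i • m₂)) x = ∑ l : ZMod q, π (j • m₁ + l • m₂) x := by
        intro j hj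
        have hj0 : j ≠ 0 := by simpa using hj
        refine Fintype.sum_equiv (Equiv.mulLeft₀ j hj0) _ _ fun i => ?_
        rw [smul_add, smul_smul]; rfl
      rw [Finset.sum_congr rfl e]
      simp [h0, Finset.card_univ, ZMod.card, Nat.cast_smul_eq_nsmul]
      abel
    refine (S.smul_mem_iff hq).1 (key ▸ sub_mem (add_mem (sum_mem fun i _ => hTS _ (hne i))
      (hTS _ hm2)) hallS)
  · push Not at hbig
    by_cases hLtop : L = ⊤
    · exact Submodule.subset_span ⟨hx, 0, fun m _ => hL (hLtop ▸ Submodule.mem_top)⟩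
    · obtain ⟨f, hf0, hfL⟩ := Submodule.exists_le_ker_of_lt_top L (lt_top_iff_ne_top.2 hLtop)
      obtain ⟨m₁, hm1⟩ : ∃ m₁, m₁ ∉ L := by
        by_contra h
        push Not at h
        exact hLtop (eq_top_iff.2 fun m _ => h m)
      refine Submodule.subset_span ⟨hx, f, fun m hm => hL ?_⟩
      obtain ⟨l, hl, y, hy, rfl⟩ := Submodule.mem_sup.1 (hbig m₁ m hm1)
      obtain ⟨c, rfl⟩ := Submodule.mem_span_singleton.1 hy
      rw [map_add, LinearMap.mem_ker.1 (hfL hl), zero_add, map_smul] at hm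
      rcases smul_eq_zero.1 hm with hc | hc
      · rw [hc, zero_smul, add_zero]; exact hl
      · refine absurd (LinearMap.ext fun n => ?_) hf0
        obtain ⟨l', hl', y', hy', rfl⟩ := Submodule.mem_sup.1 (hbig m₁ n hm1)
        obtain ⟨c', rfl⟩ := Submodule.mem_span_singleton.1 hy'
        simp [LinearMap.mem_ker.1 (hfL hl'), hc]

end Hyperplanes

end CfsgLib.CoprimeHeight
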