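import Cfsg.Agent.Lib.CoprimeHeight.Layer

/-!
# The centraliser lemma for a layer

With `E' = [E', a]` no section is free; consequently an element of `C_Q(a)` fixing the fixed points
of `a` in `[V, E]` centralises `[V, Φ]`.
-/

set_option autoImplicit false

namespace CfsgLib.CoprimeHeight

open Subgroup CfsgLib.FixedFree CfsgLib.HallHigman
open scoped commutatorElement

universe u v w

variable {K : Type u} [Field K] {V : Type v} [AddCommGroup V] [Module K V] [FiniteDimensional K V]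
  {Γ : Type w} [Group Γ] [Finite Γ] {ρ : Representation K Γ V} {a : Γ} {r q s : ℕ}
  {Q Φ E' : Subgroup Γ}

omit [FiniteDimensional K V] in
theorem orderOf_coprime_of_isPGroup {p : ℕ} (hp : p.Prime) {t : ℕ} (ht : t.Prime) (hpt : p ≠ t)
    {S : Subgroup Γ} (hS : IsPGroup p S) {y : Γ} (hy : y ∈ S) : (orderOf y).Coprime t := by
  have := Fact.mk hp
  obtain ⟨i, hi⟩ := IsPGroup.iff_orderOf.1 hS ⟨y, hy⟩
  rw [Subgroup.orderOf_mk] at hi
  rw [hi]
  exact ((Nat.coprime_primes hp ht).2 hpt).pow_left i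

omit [FiniteDimensional K V] in
theorem Layer.phi_fix_of_rad (L : Layer ρ a r q s Q Φ E') {N : Subgroup Γ} (hFD : FormData Q Φ N)
    (hEN : E' ≤ normalizer (N : Set Γ)) (hfix : ∀ e ∈ E', ∀ z ∈ Φ, ⁅e, z⁆ ∈ N)
    (h : ∀ e ∈ E', ∀ u ∈ Q, ⁅e, u⁆ ∈ radMod Q N) : Φ ≤ N := by
  have hle : Q ≤ radMod Q N := L.genQ.trans (commutator_le.2 fun u hu e he => by
    rw [← commutatorElement_inv]; exact inv_mem (h e he u hu))
  exact L.phi_le_of_abelian hFD.norm hEN (fun u hu v hv => ((mem_radMod hFD.norm).1 (hle hu)).2 v hv)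
    hfix

omit [FiniteDimensional K V] in
/-- Powers with exponents `m` and `n` give the power with exponent their gcd. -/
theorem pow_gcd_mem (x : Γ) {S : Subgroup Γ} {m n : ℕ} (hm : x ^ m ∈ S) (hn : x ^ n ∈ S) :
    x ^ Nat.gcd m n ∈ S := by
  rw [← zpow_natCast, Nat.gcd_eq_gcd_ab, zpow_add, zpow_mul, zpow_mul, zpow_natCast, zpow_natCast]
  exact mul_mem (zpow_mem hm _) (zpow_mem hn _)

omit [FiniteDimensional K V] in
/-- The prime of a nontrivial pairing is two. -/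
theorem Layer.two_eq_q (L : Layer ρ a r q s Q Φ E') {N : Subgroup Γ} (hFD : FormData Q Φ N) (hnle : ¬ Φ ≤ N)
    (hEN : E' ≤ normalizer (N : Set Γ)) (hEfix : ∀ e ∈ E', ∀ z ∈ Φ, ⁅e, z⁆ ∈ N) : 2 = q := by
  by_contra hq
  refine hnle (L.phi_fix_of_rad hFD hEN hEfix fun e he u hu => ?_)
  have h2 : Q ≤ radMod Q N := by
    intro x hx
    have h := L.powQ x hx
    have hxq : x ^ q ∈ radMod Q N := hFD.le_rad h
    have hx2 : x ^ 2 ∈ radMod Q N := hFD.le_rad (hFD.sq x hx)
    have hco : Nat.Coprime 2 q := (Nat.coprime_primes Nat.prime_two L.qPrime).2 hq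
    have h3 := pow_gcd_mem x hx2 hxq
    rwa [hco, pow_one] at h3
  exact h2 (commutator_mem_of_normalizes (L.E'Q he) hu)

/-- With `E' = [E', a]` no section is free. -/
theorem Layer.le_of_free (L : Layer ρ a r q s Q Φ E') (hgen : E' ≤ ⁅E', zpowers a⁆)
    {W U : Submodule K V} (hWQ : Q ≤ stabSub ρ W) (hUQ : Q ≤ stabSub ρ U)
    (hWa : a ∈ stabSub ρ W) (hUa : a ∈ stabSub ρ U)
    (hfa : ∀ x ∈ W, ρ a x - x ∈ U → x ∈ U)
    (hfE : ∀ x ∈ W, (∀ e ∈ ⁅Q, zpowers a⁆, ρ e x - x ∈ U) → x ∈ U) : W ≤ U := by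
  by_contra hne
  obtain ⟨N, b, hb, hrb, hFD, haN, hEN, hEfix, hnle, -, hidx⟩ :=
    L.exists_section_kernel hWQ hUQ hWa hUa hne hfa hfE
  have hs2 : s ≠ 2 := by
    rintro rfl
    -- `q = 2` here, being the exponent of the pairing
    exact L.sq (L.two_eq_q hFD hnle hEN hEfix)
  exact hnle (L.phi_fix_of_rad hFD hEN hEfix (hFD.commutator_mem_rad L.prime hrb hb L.pow_a L.aQ haN
    L.sPrime hs2 L.sr L.sP L.aE' hgen L.E'Q hEN L.commA_le (fun u hu => L.delta_mem hu) hidx.le))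

/-- `[V, E] = V` and no fixed points of `a`: impossible. -/
theorem Layer.exists_fixed (L : Layer ρ a r q s Q Φ E') (hgen : E' ≤ ⁅E', zpowers a⁆)
    (hE : commPart ρ ⁅Q, zpowers a⁆ = ⊤) [Nontrivial V] : ∃ x : V, x ≠ 0 ∧ ρ a x = x := by
  by_contra hno
  push Not at hno
  have h := L.le_of_free hgen (W := ⊤) (U := ⊥) (fun _ _ _ _ => Submodule.mem_top)
    (fun g _ x hx => by rw [(Submodule.mem_bot K).1 hx, map_zero]; exact zero_mem _)
    (fun _ _ => Submodule.mem_top)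
    (fun x hx => by rw [(Submodule.mem_bot K).1 hx, map_zero]; exact zero_mem _)
    (fun x _ hx => by
      rw [Submodule.mem_bot, sub_eq_zero] at hx
      rw [Submodule.mem_bot]
      by_contra h0
      exact hno x h0 hx)
    (fun x _ hx => (Submodule.mem_bot K).2 (eq_zero_of_fix_of_comm ρ (L.card_ne_zero L.commA_le)
      (fun e he => sub_eq_zero.1 ((Submodule.mem_bot K).1 (hx e he))) (hE ▸ Submodule.mem_top)))
  obtain ⟨x, hx⟩ := exists_ne (0 : V)
  exact hx ((Submodule.mem_bot K).1 (h (Submodule.mem_top (x := x))))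

set_option maxHeartbeats 1000000 in
/-- **The centraliser lemma.** -/
theorem Layer.fix_commPart (L : Layer ρ a r q s Q Φ E') (hgen : E' ≤ ⁅E', zpowers a⁆) {x : Γ}
    (hx : x ∈ Q) (hxa : x * a = a * x)
    (hxfix : ∀ v ∈ commPart ρ ⁅Q, zpowers a⁆, ρ a v = v → ρ x v = v) :
    ∀ v ∈ commPart ρ Φ, ρ x v = v := by
  set E := ⁅Q, zpowers a⁆
  set Z := ⁅Φ, zpowers a⁆
  have hZE : Z ≤ E := commutator_mono L.ΦQ le_rfl
  have hZΦ : Z ≤ Φ := L.commPhi_le
  have haZ : a ∈ normalizer (Z : Set Γ) := mem_normalizer_commutator L.aΦ (le_normalizer (mem_zpowers a))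
  have hZQ : ∀ u ∈ Q, ∀ z ∈ Z, ∀ v : V, ρ z (ρ u v) = ρ u (ρ z v) := fun u hu z hz v => by
    rw [← rep_self_mul_apply, L.cent z (hZΦ hz) u hu, rep_self_mul_apply]
  -- `x` fixes `[V, Z]`
  have hpartA : ∀ v ∈ commPart ρ Z, ρ x v = v := frob_fix ρ L.prime L.pow_a haZ
    (fun z hz y hy => map_mem_commPart ρ (le_normalizer hz) hy)
    (fun y hy => map_mem_commPart ρ haZ hy) le_rfl
    (fun y hy z hz w _ => by rw [L.cent y (hZΦ hy) z (L.ΦQ (hZΦ hz))]) L.genPhi
    (L.card_ne_zero (hZΦ.trans L.ΦQ))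
    (fun z hz w _ => by rw [L.cent z (hZΦ hz) x hx])
    (fun w hw hwa => hxfix w (commPart_mono ρ hZE hw) hwa)
  -- the rest
  set Vb := commPart ρ Φ ⊓ fixSub ρ Z with hVb
  suffices hb : ∀ v ∈ Vb, ρ x v = v by
    intro v hv
    have hcard : (Nat.card Z : K) ≠ 0 := L.card_ne_zero (hZΦ.trans L.ΦQ)
    have h1 := hpartA _ (sub_avg_mem ρ hcard v)
    have h2 := hb _ ⟨avg_mem ρ (fun z hz y hy => map_mem_commPart ρ (le_normalizer (hZΦ hz)) hy) hv,
      avg_mem_fixSub ρ v⟩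
    rw [map_sub, h2, sub_left_inj] at h1
    exact h1
  have hVbQ : Q ≤ stabSub ρ Vb := fun u hu y hy =>
    ⟨map_mem_commPart ρ (L.QΦ hu) hy.1, fun z hz => by rw [hZQ u hu z hz, hy.2 z hz]⟩
  have hVba : a ∈ stabSub ρ Vb := fun y hy =>
    ⟨map_mem_commPart ρ L.aΦ hy.1, map_mem_fixSub ρ haZ hy.2⟩
  have hcardΦ : (Nat.card Φ : K) ≠ 0 := L.card_ne_zero L.ΦQ
  have hcardE : (Nat.card E : K) ≠ 0 := L.card_ne_zero L.commA_le
  -- (b1) `E` fixes nothing in `Vb`
  have hb1 : ∀ v ∈ Vb, v ∈ fixSub ρ E → v = 0 := by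
    set U := Vb ⊓ fixSub ρ E
    have hUQ : Q ≤ stabSub ρ U := fun u hu y hy => ⟨hVbQ hu y hy.1, map_mem_fixSub ρ (L.QE hu) hy.2⟩
    let N : Subgroup Γ :=
      { carrier := {z | z ∈ Φ ∧ ∀ y ∈ U, ρ z y = y}
        one_mem' := ⟨one_mem _, fun y _ => by simp⟩
        mul_mem' := fun {g h} hg hh => ⟨mul_mem hg.1 hh.1, fun y hy => by
          rw [rep_self_mul_apply, hh.2 y hy, hg.2 y hy]⟩
        inv_mem' := fun {g} hg => ⟨inv_mem hg.1, fun y hy => by
          conv_lhs => rw [← hg.2 y hy]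
          exact rep_inv_apply_self ρ g y⟩ }
    have hnorm : ∀ g : Γ, g ∈ normalizer (Φ : Set Γ) →
        (∀ z ∈ Φ, ∀ y ∈ U, ρ (g * z * g⁻¹) y = ρ z y) → g ∈ normalizer (N : Set Γ) := by
      refine fun g hg hfix => mem_normalizer_of_conj (fun z hz =>
        ⟨conj_mem hg hz.1, fun y hy => by rw [hfix z hz.1 y hy]; exact hz.2 y hy⟩) fun z hz =>
        ⟨inv_conj_mem hg hz.1, fun y hy => ?_⟩
      have h1 := hfix _ (inv_conj_mem hg hz.1) y hy
      rw [show g * (g⁻¹ * z * g) * g⁻¹ = z by group] at h1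
      rw [← h1]; exact hz.2 y hy
    have hQN : Q ≤ normalizer (N : Set Γ) := fun u hu =>
      hnorm u (L.QΦ hu) fun z hz y _ => by rw [L.conj_rep hz hu]
    have hEN : E' ≤ normalizer (N : Set Γ) := fun e he =>
      hnorm e (L.E'Φ he) fun z hz y _ => by rw [L.E'cent e he z hz]
    have hUΦ : ∀ z ∈ Φ, ∀ y ∈ U, ρ z y ∈ U := fun z hz => hUQ (L.ΦQ hz)
    have haN : a ∈ normalizer (N : Set Γ) := hnorm a L.aΦ fun z hz y hy => by
      rw [show a * z * a⁻¹ = ⁅a, z⁆ * z by simp [commutatorElement_def, mul_assoc],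
        rep_self_mul_apply]
      refine (hUΦ z hz y hy).1.2 _ ?_
      rw [← commutatorElement_inv]
      exact inv_mem (commutator_mem_commutator hz (mem_zpowers a))
    set R := radMod Q N
    have hER : E ≤ R := fun u hu => (mem_radMod hQN).2 ⟨L.commA_le hu, fun v hv =>
      ⟨L.der u (L.commA_le hu) v hv, fun y hy => hy.2 _ (by
        rw [commutatorElement_def, show u * v * u⁻¹ * v⁻¹ = u * (v * u⁻¹ * v⁻¹) by group]
        exact mul_mem hu (conj_mem (L.QE hv) (inv_mem hu)))⟩⟩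
    have hle : E' ≤ centMod Q R := by
      have haC : a ∈ centMod Q R :=
        ⟨mem_normalizer_radMod L.aQ haN, fun u hu => hER (L.delta_mem hu)⟩
      refine hgen.trans (commutator_zpowers_le L.aE' fun e he => ?_)
      rw [commutatorElement_def]
      exact mul_mem (conj_mem (mem_normalizer_centMod (L.E'Q he)
        (mem_normalizer_radMod (L.E'Q he) (hEN he))) haC) (inv_mem haC)
    have hQR : Q ≤ R := L.genQ.trans (commutator_le.2 fun u hu e he => by
      rw [← commutatorElement_inv]; exact inv_mem ((hle he).2 u hu))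
    have hfin := L.phi_le_of_abelian hQN hEN (fun u hu v hv => ((mem_radMod hQN).1 (hQR hu)).2 v hv)
      fun e he z hz => ⟨mul_mem (conj_mem (L.E'Φ he) hz) (inv_mem hz), fun y _ => by
        rw [commutatorElement_def, map_mul, L.E'cent e he z hz, ← map_mul, mul_inv_cancel, map_one]
        rfl⟩
    exact fun v hv hvE => eq_zero_of_fix_of_comm ρ hcardΦ
      (fun z hz => (hfin hz).2 v ⟨hv, hvE⟩) hv.1
  have hVbE : Vb ≤ commPart ρ E :=
    le_commPart ρ hcardE (fun g hg => hVbQ (L.commA_le hg)) hb1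
  -- `x` commutes with `E` on `Vb`
  have hxE : ∀ e ∈ E, ∀ y ∈ Vb, ρ (x * e) y = ρ (e * x) y := by
    let H : Subgroup Γ :=
      { carrier := {e | e ∈ Q ∧ ∀ y ∈ Vb, ρ (x * e) y = ρ (e * x) y}
        one_mem' := ⟨one_mem _, fun y _ => by simp⟩
        mul_mem' := fun {g h} hg hh => ⟨mul_mem hg.1 hh.1, fun y hy => by
          have h1 := hg.2 _ (hVbQ hh.1 y hy)
          have h2 := hh.2 y hy
          simp only [rep_self_mul_apply] at h1 h2 ⊢
          rw [h1, h2]⟩
        inv_mem' := fun {g} hg => ⟨inv_mem hg.1, fun y hy => by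
          have h1 := hg.2 _ (hVbQ (inv_mem hg.1) y hy)
          simp only [rep_self_mul_apply] at h1 ⊢
          rw [rep_self_apply_inv] at h1
          conv_rhs => rw [h1, rep_inv_apply_self]⟩ }
    refine fun e he => ((commutator_zpowers_le L.aQ (H := H) fun v hv => ⟨?_, fun y hy => ?_⟩) he).2
    · exact L.commA_le (commutator_mem_commutator hv (mem_zpowers a))
    · have hd : ⁅v, a⁆ ∈ Q := L.commA_le (commutator_mem_commutator hv (mem_zpowers a))
      have hxv : ⁅x, v⁆ ∈ Φ := L.der x hx v hv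
      have hyQ : ρ (⁅v, a⁆ * x) y ∈ Vb := hVbQ (mul_mem hd hx) y hy
      rw [show x * ⁅v, a⁆ = ⁅x, ⁅v, a⁆⁆ * (⁅v, a⁆ * x) by
        simp [commutatorElement_def, mul_assoc], rep_self_mul_apply,
        commutator_commutator_eq_conj hxa, rep_self_mul_apply,
        L.conj_rep (conj_mem L.aΦ (inv_mem hxv)) hd, ← rep_self_mul_apply,
        show ⁅x, v⁆ * (a * ⁅x, v⁆⁻¹ * a⁻¹) = ⁅⁅x, v⁆, a⁆ by
          simp only [commutatorElement_def]; group]
      exact hyQ.2 _ (commutator_mem_commutator hxv (mem_zpowers a))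
  -- the span of the `E`-translates of the fixed points
  set Us := Submodule.span K {y | ∃ e ∈ E, ∃ c ∈ Vb, ρ a c = c ∧ y = ρ e c}
  have hUsVb : Us ≤ Vb := Submodule.span_le.2 fun y ⟨e, he, c, hc, _, hy⟩ =>
    hy ▸ hVbQ (L.commA_le he) c hc
  have hstab : ∀ g : Γ, g ∈ stabSub ρ Vb → g ∈ normalizer (E : Set Γ) → a * g = g * a →
      g ∈ stabSub ρ Us := by
    intro g hgV hgE hga y hy
    induction hy using Submodule.span_induction with
    | mem y hy =>
      obtain ⟨e, he, c, hc, hca, rfl⟩ := hy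
      refine Submodule.subset_span ⟨g * e * g⁻¹, conj_mem hgE he, ρ g c, hgV c hc, ?_, ?_⟩
      · rw [← rep_self_mul_apply, hga, rep_self_mul_apply, hca]
      · rw [← rep_self_mul_apply, ← rep_self_mul_apply, inv_mul_cancel_right]
    | zero => rw [map_zero]; exact zero_mem _
    | add y z _ _ h1 h2 => rw [map_add]; exact add_mem h1 h2
    | smul c y _ h1 => rw [map_smul]; exact Submodule.smul_mem _ _ h1
  have hEUs : E ≤ stabSub ρ Us := by
    intro g hg y hy
    induction hy using Submodule.span_induction with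
    | mem y hy =>
      obtain ⟨e, he, c, hc, hca, rfl⟩ := hy
      exact Submodule.subset_span ⟨g * e, mul_mem hg he, c, hc, hca, (rep_self_mul_apply ρ g e c).symm⟩
    | zero => rw [map_zero]; exact zero_mem _
    | add y z _ _ h1 h2 => rw [map_add]; exact add_mem h1 h2
    | smul c y _ h1 => rw [map_smul]; exact Submodule.smul_mem _ _ h1
  have hUsQ : Q ≤ stabSub ρ Us := by
    intro u hu
    obtain ⟨e, he, c, hc, rfl⟩ := Coprime.exists_mul_eq' (zpowers_le.2 L.aQ) (L.coprime_a le_rfl)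
      (Or.inr (L.solvable le_rfl)) hu
    exact mul_mem (hEUs he) (hstab c (hVbQ hc.1) (L.QE hc.1)
      (mem_centralizer_iff.1 hc.2 a (mem_zpowers a)))
  have hUsa : a ∈ stabSub ρ Us := hstab a hVba L.aE rfl
  have hxUs : ∀ y ∈ Us, ρ x y = y := by
    intro y hy
    induction hy using Submodule.span_induction with
    | mem y hy =>
      obtain ⟨e, he, c, hc, hca, rfl⟩ := hy
      rw [← rep_self_mul_apply, hxE e he c hc, rep_self_mul_apply, hxfix c (hVbE hc) hca]
    | zero => rw [map_zero]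
    | add y z _ _ h1 h2 => rw [map_add, h1, h2]
    | smul c y _ h1 => rw [map_smul, h1]
  suffices hfinal : Vb ≤ Us from fun v hv => hxUs v (hfinal hv)
  refine L.le_of_free hgen hVbQ hUsQ hVba hUsa (fun y hy hya => ?_) fun y hy hye => ?_
  · have hA : ∀ g ∈ zpowers a, ρ g y - y ∈ Us := by
      intro g hg
      obtain ⟨i, rfl⟩ : ∃ i : ℕ, a ^ i = g := mem_powers_iff_mem_zpowers.2 hg
      induction i with
      | zero => simp
      | succ i ih =>
        rw [pow_succ, rep_self_mul_apply, ← sub_add_sub_cancel _ (ρ (a ^ i) y) y, ← map_sub]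
        exact add_mem ((pow_mem hUsa i) _ hya) (ih (pow_mem (mem_zpowers a) i))
    have h1 := sub_avg_mem_of_fixed ρ L.cardA_ne_zero hA
    have h2 : avg ρ (zpowers a) y ∈ Us := by
      refine Submodule.subset_span ⟨1, one_mem E, _, avg_mem ρ (fun g hg => ?_) hy,
        avg_mem_fixSub ρ y a (mem_zpowers a), by simp⟩
      exact (zpowers_le.2 hVba : zpowers a ≤ stabSub ρ Vb) hg
    have h3 := add_mem h1 h2
    rwa [sub_add_cancel] at h3
  · have h1 := sub_avg_mem_of_fixed ρ hcardE hye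
    have h2 := hb1 _ (avg_mem ρ (fun g hg => hVbQ (L.commA_le hg)) hy) (avg_mem_fixSub ρ y)
    rwa [h2, sub_zero] at h1

/-- At the top moved layer: if `Y` commutes with `a` and `Q = [Q, a]` then no section is free. -/
theorem Layer.le_of_free_top (L : Layer ρ a r q s Q Φ E') (hY : ∀ y ∈ E', y * a = a * y)
    (hQa : Q ≤ ⁅Q, zpowers a⁆) {W U : Submodule K V} (hWQ : Q ≤ stabSub ρ W) (hUQ : Q ≤ stabSub ρ U)
    (hWa : a ∈ stabSub ρ W) (hUa : a ∈ stabSub ρ U)
    (hfa : ∀ x ∈ W, ρ a x - x ∈ U → x ∈ U)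
    (hfQ : ∀ x ∈ W, (∀ e ∈ Q, ρ e x - x ∈ U) → x ∈ U) : W ≤ U := by
  by_contra hne
  have hEQ : ⁅Q, zpowers a⁆ = Q := le_antisymm L.commA_le hQa
  obtain ⟨N, b, hb, hrb, hFD, haN, hEN, hEfix, hnle, -, hidx⟩ :=
    L.exists_section_kernel hWQ hUQ hWa hUa hne hfa (fun x hx h => hfQ x hx (hEQ ▸ h))
  rw [hEQ] at hidx
  refine hnle (L.phi_fix_of_rad hFD hEN hEfix fun y hy u hu => ?_)
  refine hFD.commuting_mem_rad L.prime hrb L.pow_a L.aQ haN (fun w hw hwa => ?_) hidx (L.E'Q hy)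
    (hEN hy) (hY y hy) (orderOf_coprime_of_isPGroup L.sPrime L.prime L.sr L.sP hy) u hu
  have haR : a ∈ normalizer (radMod Q N : Set Γ) := mem_normalizer_radMod L.aQ haN
  refine mem_of_fixed_mod (Y := zpowers a) L.isP
    (fun v hv => mem_normalizer_radMod (le_normalizer hv) (hFD.norm hv)) (zpowers_le.2 L.aQ)
    (zpowers_le.2 haR) (fun v hv v' hv' => hFD.le_rad (L.der v hv v' hv')) (hQa.trans le_sup_left)
    (((Nat.coprime_primes L.prime L.qPrime).2 L.qr.symm).coprime_dvd_left L.card_a) hw fun g hg => ?_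
  obtain ⟨i, rfl⟩ : ∃ i : ℕ, a ^ i = g := mem_powers_iff_mem_zpowers.2 hg
  induction i with
  | zero => simp
  | succ i ih =>
    rw [show ⁅a ^ (i + 1), w⁆ = a ^ i * ⁅a, w⁆ * (a ^ i)⁻¹ * ⁅a ^ i, w⁆ by
      simp only [commutatorElement_def, pow_succ]; group]
    exact mul_mem (conj_mem (pow_mem haR i) hwa) (ih (pow_mem (mem_zpowers a) i))

end CfsgLib.CoprimeHeight
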