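import Cfsg.Agent.Lib.CoprimeHeight.Lift
import Cfsg.Agent.Lib.FixedFree.Frattini
import Cfsg.Agent.Lib.HallHigman.MinMoved
import Cfsg.Agent.Lib.ClassK.Core

/-!
# Minimal towers

In a tower of least total order every proper invariant subgroup of a term dies in the next link.
-/

set_option autoImplicit false

namespace CfsgLib.CoprimeHeight

open Subgroup CfsgLib.FixedFree
open scoped commutatorElement

universe u

variable {X : Type u} [Group X]

theorem mem_normalizer_sup {S T : Subgroup X} {g : X} (hS : g ∈ normalizer (S : Set X))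
    (hT : g ∈ normalizer (T : Set X)) : g ∈ normalizer ((S ⊔ T : Subgroup X) : Set X) := by
  rw [Coprime.mem_normalizer_iff_map_conj, Subgroup.map_sup,
    Coprime.map_conj_of_mem_normalizer hS, Coprime.map_conj_of_mem_normalizer hT]

theorem mem_normalizer_commutator {S T : Subgroup X} {g : X} (hS : g ∈ normalizer (S : Set X))
    (hT : g ∈ normalizer (T : Set X)) : g ∈ normalizer ((⁅S, T⁆ : Subgroup X) : Set X) := by
  rw [Coprime.mem_normalizer_iff_map_conj, map_commutator,
    Coprime.map_conj_of_mem_normalizer hS, Coprime.map_conj_of_mem_normalizer hT]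

variable [Finite X]

/-- A coprime group of operators on an abelian section that it generates by commutators fixes
nothing there. -/
theorem mem_of_fixed_mod {A M Y : Subgroup X} {p : ℕ} (hA : IsPGroup p A)
    (hAM : A ≤ normalizer (M : Set X)) (hYA : Y ≤ normalizer (A : Set X))
    (hYM : Y ≤ normalizer (M : Set X)) (hcomm : ∀ u ∈ A, ∀ v ∈ A, ⁅u, v⁆ ∈ M)
    (hgen : A ≤ ⁅A, Y⁆ ⊔ M ⊓ A) (hcop : (Nat.card Y).Coprime p) {u : X} (hu : u ∈ A)
    (hfix : ∀ x ∈ Y, ⁅x, u⁆ ∈ M) : u ∈ M := by
  classical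
  have : Fintype Y := Fintype.ofFinite Y
  have hN : (M.subgroupOf A).Normal := normal_subgroupOf_of_le_normalizer hAM
  letI : CommGroup (A ⧸ M.subgroupOf A) :=
    { (inferInstance : Group (A ⧸ M.subgroupOf A)) with
      mul_comm := fun x y => by
        induction x using QuotientGroup.induction_on with
        | _ x =>
          induction y using QuotientGroup.induction_on with
          | _ y =>
            refine commutatorElement_eq_one_iff_mul_comm.1 ?_
            exact (QuotientGroup.eq_one_iff ⁅x, y⁆).2 (hcomm x x.2 y y.2) }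
  let π : A →* A ⧸ M.subgroupOf A := QuotientGroup.mk' _
  let c : Y → A → A := fun x v => ⟨x * v * (x : X)⁻¹, conj_mem (hYA x.2) v.2⟩
  let T : A →* A ⧸ M.subgroupOf A :=
    { toFun := fun v => ∏ x : Y, π (c x v)
      map_one' := Finset.prod_eq_one fun x _ => by
        rw [show c x 1 = 1 from Subtype.ext (by simp [c]), map_one]
      map_mul' := fun v w => by
        rw [← Finset.prod_mul_distrib]
        refine Finset.prod_congr rfl fun x _ => ?_
        rw [← map_mul, show c x (v * w) = c x v * c x w from Subtype.ext (by simp [c, mul_assoc])] }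
  have hle : A ≤ T.ker.map A.subtype := by
    refine hgen.trans (sup_le (commutator_le.2 fun v hv y hy => ?_) fun z hz => ?_)
    · refine ⟨⟨v, hv⟩ * (c ⟨y, hy⟩ ⟨v, hv⟩)⁻¹, ?_, by simp [c, commutatorElement_def, mul_assoc]⟩
      rw [SetLike.mem_coe, MonoidHom.mem_ker, map_mul, map_inv, mul_inv_eq_one]
      show ∏ x : Y, π (c x ⟨v, hv⟩) = ∏ x : Y, π (c x (c ⟨y, hy⟩ ⟨v, hv⟩))
      rw [← Equiv.prod_comp (Equiv.mulRight (⟨y, hy⟩ : Y)) fun x => π (c x ⟨v, hv⟩)]
      refine Finset.prod_congr rfl fun x _ => ?_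
      congr 1
      exact Subtype.ext (by simp [c, mul_assoc])
    · refine ⟨⟨z, hz.2⟩, MonoidHom.mem_ker.2 (Finset.prod_eq_one fun x _ => ?_), rfl⟩
      exact (QuotientGroup.eq_one_iff _).2 (conj_mem (hYM x.2) hz.1)
  obtain ⟨u', hu', hue⟩ := hle hu
  obtain rfl : u' = ⟨u, hu⟩ := Subtype.ext hue
  have hpow : π ⟨u, hu⟩ ^ Nat.card Y = 1 := by
    have h1 : T ⟨u, hu⟩ = π ⟨u, hu⟩ ^ Nat.card Y := by
      show ∏ x : Y, π (c x ⟨u, hu⟩) = _
      rw [Nat.card_eq_fintype_card, ← Finset.card_univ, ← Finset.prod_const]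
      refine Finset.prod_congr rfl fun x _ => mul_inv_eq_one.1 ?_
      rw [← map_inv, ← map_mul]
      exact (QuotientGroup.eq_one_iff _).2 (hfix x x.2)
    rw [← h1]
    exact MonoidHom.mem_ker.1 hu'
  obtain ⟨j, hj⟩ := hA ⟨u, hu⟩
  have h2 : π ⟨u, hu⟩ ^ p ^ j = 1 := by rw [← map_pow, hj, map_one]
  have h3 := pow_gcd_eq_one.2 ⟨hpow, h2⟩
  rw [hcop.pow_right j, pow_one] at h3
  exact mem_subgroupOf.1 ((QuotientGroup.eq_one_iff _).1 h3)

/-- A tower of least total order. -/
def IsMinimal (a : X) (G : Subgroup X) (p : ℕ → ℕ) (P : ℕ → Subgroup X) (n : ℕ) : Prop :=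
  ∀ P' : ℕ → Subgroup X, IsTower a G p P' n →
    ∑ k ∈ Finset.range (n + 1), Nat.card (P k) ≤ ∑ k ∈ Finset.range (n + 1), Nat.card (P' k)

theorem exists_minimal {a : X} {G : Subgroup X} {p : ℕ → ℕ} {P : ℕ → Subgroup X} {n : ℕ}
    (h : IsTower a G p P n) : ∃ P', IsTower a G p P' n ∧ IsMinimal a G p P' n := by
  classical
  have hex : ∃ m, ∃ P', IsTower a G p P' n ∧ ∑ k ∈ Finset.range (n + 1), Nat.card (P' k) = m :=
    ⟨_, P, h, rfl⟩
  obtain ⟨P', hP', hm⟩ := Nat.find_spec hex
  exact ⟨P', hP', fun P'' h'' => hm ▸ Nat.find_min' hex ⟨P'', h'', rfl⟩⟩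

/-- `Φ(P k)` times the kernel of the link into `P k`. -/
def tfr (P : ℕ → Subgroup X) (k : ℕ) : Subgroup X := frattiniIn (P k) ⊔ linkKer P k

/-- `Q` is normalised by `a` and by all terms above `k`. -/
def InvAbove (a : X) (P : ℕ → Subgroup X) (n k : ℕ) (Q : Subgroup X) : Prop :=
  a ∈ normalizer (Q : Set X) ∧ ∀ l, k < l → l ≤ n → P l ≤ normalizer (Q : Set X)

omit [Finite X] in
theorem InvAbove.sup {a : X} {P : ℕ → Subgroup X} {n k : ℕ} {Q R : Subgroup X}
    (h : InvAbove a P n k Q) (h' : InvAbove a P n k R) : InvAbove a P n k (Q ⊔ R) :=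
  ⟨mem_normalizer_sup h.1 h'.1, fun l hl hn _ hx =>
    mem_normalizer_sup (h.2 l hl hn hx) (h'.2 l hl hn hx)⟩

theorem mem_normalizer_frattiniIn {S : Subgroup X} {g : X} (h : g ∈ normalizer (S : Set X)) :
    g ∈ normalizer (frattiniIn S : Set X) := ClassK.normalizer_le_normalizer_map S (frattini S) h

theorem tfr_le (P : ℕ → Subgroup X) (k : ℕ) : tfr P k ≤ P k :=
  sup_le (frattiniIn_le _) (linkKer_le P k)

theorem mem_normalizer_tfr {P : ℕ → Subgroup X} {k : ℕ} {g : X}
    (h : ∀ i ≤ k, g ∈ normalizer (P i : Set X)) : g ∈ normalizer (tfr P k : Set X) :=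
  mem_normalizer_sup (mem_normalizer_frattiniIn (h k le_rfl)) (mem_normalizer_linkKer h)

section Tower

variable {a : X} {G : Subgroup X} {p : ℕ → ℕ} {P : ℕ → Subgroup X} {n : ℕ}

theorem IsTower.le_normalizer_linkKer (h : IsTower a G p P n) {k l : ℕ} (hkl : k ≤ l) (hl : l ≤ n) :
    P l ≤ normalizer (linkKer P k : Set X) := fun _ hx =>
  mem_normalizer_linkKer fun i hi => h.norm i l (hi.trans hkl) hl hx

theorem IsTower.conj_linkKer (h : IsTower a G p P n) {k : ℕ} (hk : k ≤ n) :
    a ∈ normalizer (linkKer P k : Set X) :=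
  mem_normalizer_linkKer fun i hi => h.conj i (hi.trans hk)

theorem IsTower.le_normalizer_tfr (h : IsTower a G p P n) {k l : ℕ} (hkl : k ≤ l) (hl : l ≤ n) :
    P l ≤ normalizer (tfr P k : Set X) := fun _ hx =>
  mem_normalizer_tfr fun i hi => h.norm i l (hi.trans hkl) hl hx

theorem IsTower.conj_tfr (h : IsTower a G p P n) {k : ℕ} (hk : k ≤ n) :
    a ∈ normalizer (tfr P k : Set X) :=
  mem_normalizer_tfr fun i hi => h.conj i (hi.trans hk)

theorem IsTower.invAbove_linkKer (h : IsTower a G p P n) {k : ℕ} (hk : k ≤ n) :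
    InvAbove a P n k (linkKer P k) :=
  ⟨h.conj_linkKer hk, fun _ hl hn => h.le_normalizer_linkKer hl.le hn⟩

theorem IsTower.invAbove_tfr (h : IsTower a G p P n) {k : ℕ} (hk : k ≤ n) :
    InvAbove a P n k (tfr P k) :=
  ⟨h.conj_tfr hk, fun _ hl hn => h.le_normalizer_tfr hl.le hn⟩

theorem IsTower.invAbove_self (h : IsTower a G p P n) {k : ℕ} (hk : k ≤ n) :
    InvAbove a P n k (P k) :=
  ⟨h.conj k hk, fun l hl hn => h.norm k l hl.le hn⟩

/-- A step of the tower: commutators stay below. -/
theorem IsTower.step (h : IsTower a G p P n) {k : ℕ} (hk : k < n) {x y : X} (hx : x ∈ P (k + 1))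
    (hy : y ∈ P k) (hxy : ⁅x, ⁅x, y⁆⁆ ∈ linkKer P k) : ⁅x, y⁆ ∈ linkKer P k :=
  step_mem (h.prime k hk.le) (h.prime (k + 1) hk) (h.ne k hk) (h.isP k hk.le) (h.isP (k + 1) hk)
    (h.le_normalizer_linkKer le_rfl hk.le) hx (h.norm k (k + 1) (by omega) hk hx)
    (h.le_normalizer_linkKer (Nat.le_succ k) hk hx) hy hxy

/-- No term of a tower dies. -/
theorem IsTower.not_le_linkKer (h : IsTower a G p P n) {k : ℕ} (hk : k ≤ n) :
    ¬ P k ≤ linkKer P k := by
  intro hle
  have key : ∀ d, k + d ≤ n → P (k + d) ≤ linkKer P (k + d) := by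
    intro d
    induction d with
    | zero => exact fun _ => hle
    | succ d ih =>
      intro hd x hx
      rw [← Nat.add_assoc, linkKer_succ]
      exact ⟨hx, h.le_normalizer_linkKer (by omega) hd hx, fun y hy => ih (by omega)
        (commutator_mem_of_normalizes (h.norm _ _ (by omega) hd hx) hy)⟩
  exact h.top (by have := key (n - k) (by omega); rwa [Nat.add_sub_cancel' hk] at this)

theorem IsTower.tfr_ne (h : IsTower a G p P n) {k : ℕ} (hk : k ≤ n) : tfr P k ≠ P k := by
  intro e
  have h1 : (linkKer P k).subgroupOf (P k) ⊔ frattini (P k) = ⊤ := by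
    refine Subgroup.map_injective (P k).subtype_injective ?_
    rw [Subgroup.map_sup, subgroupOf_map_subtype, inf_eq_left.2 (linkKer_le P k),
      ← MonoidHom.range_eq_map, Subgroup.range_subtype, sup_comm]
    exact e
  have h2 := frattini_nongenerating h1
  rw [subgroupOf_eq_top] at h2
  exact h.not_le_linkKer hk h2

theorem IsTower.commutator_mem_tfr (h : IsTower a G p P n) {k : ℕ} (hk : k ≤ n) {u v : X}
    (hu : u ∈ P k) (hv : v ∈ P k) : ⁅u, v⁆ ∈ tfr P k := by
  have := Fact.mk (h.prime k hk)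
  exact mem_sup_left ⟨_, StructC.comm_mem_frattini (h.isP k hk) (⟨u, hu⟩⁻¹ : P k) (⟨v, hv⟩⁻¹ : P k),
    by simp [commutatorElement_def]⟩

theorem IsTower.pow_mem_tfr (h : IsTower a G p P n) {k : ℕ} (hk : k ≤ n) {u : X}
    (hu : u ∈ P k) : u ^ p k ∈ tfr P k := by
  have := Fact.mk (h.prime k hk)
  exact mem_sup_left ⟨_, StructC.pow_mem_frattini (h.isP k hk) (⟨u, hu⟩ : P k), by simp⟩

theorem IsTower.coprime_card (h : IsTower a G p P n) {k : ℕ} (hk : k < n) :
    (Nat.card (P (k + 1))).Coprime (p k) := by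
  have := Fact.mk (h.prime _ hk)
  obtain ⟨i, hi⟩ := IsPGroup.iff_card.1 (h.isP _ hk)
  rw [hi]
  exact ((Nat.coprime_primes (h.prime _ hk) (h.prime k hk.le)).2 (h.ne k hk).symm).pow_left i

end Tower

section Minimal

variable {a : X} {G : Subgroup X} {p : ℕ → ℕ} {P : ℕ → Subgroup X} {n : ℕ}

/-- In a minimal tower a proper invariant subgroup is centralised by the next term modulo the
kernel, or lies in the kernel if it is at the top. -/
theorem IsMinimal.dies (hm : IsMinimal a G p P n) (h : IsTower a G p P n) :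
    ∀ (d k : ℕ), k ≤ n → n - k = d → ∀ Q : Subgroup X, Q ≤ P k → Q ≠ P k → InvAbove a P n k Q →
      (k = n → Q ≤ linkKer P n) ∧
      (k < n → ∀ x ∈ P (k + 1), ∀ y ∈ Q, ⁅x, y⁆ ∈ linkKer P k) := by
  intro d
  induction d using Nat.strong_induction_on with
  | _ d ih =>
  intro k hk hd Q hQP hQne hQ
  classical
  set P' := Function.update P k Q
  have hP'le : ∀ i, P' i ≤ P i := fun i => by
    by_cases hi : i = k
    · subst hi; simpa [P'] using hQP
    · simp [P', hi]
  have hP'k : P' k = Q := Function.update_self _ _ _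
  have hP'ne : ∀ i, i ≠ k → P' i = P i := fun i hi => Function.update_of_ne hi _ _
  have hnorm : ∀ i l, i ≤ l → l ≤ n → P' l ≤ normalizer (P' i : Set X) := by
    intro i l hil hl
    by_cases hi : i = k
    · subst hi
      rw [hP'k]
      rcases eq_or_lt_of_le hil with rfl | hlt
      · rw [hP'k]; exact le_normalizer
      · exact (hP'le l).trans (hQ.2 l hlt hl)
    · rw [hP'ne i hi]; exact (hP'le l).trans (h.norm i l hil hl)
  have hconj : ∀ i ≤ n, a ∈ normalizer (P' i : Set X) := fun i hi => by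
    by_cases he : i = k
    · subst he; rw [hP'k]; exact hQ.1
    · rw [hP'ne i he]; exact h.conj i hi
  have htop : P' n ≤ linkKer P' n := by
    by_contra htop
    have hT : IsTower a G p P' n :=
      ⟨fun i hi => (hP'le i).trans (h.le i hi), h.prime,
        fun i hi => (h.isP i hi).to_le (hP'le i), hconj, hnorm, h.ne, htop⟩
    have hlt : ∑ i ∈ Finset.range (n + 1), Nat.card (P' i) <
        ∑ i ∈ Finset.range (n + 1), Nat.card (P i) := by
      refine Finset.sum_lt_sum (fun i _ => card_le_of_le (hP'le i)) ⟨k, by simp; omega, ?_⟩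
      rw [hP'k]
      exact lt_of_le_of_ne (card_le_of_le hQP) fun e => hQne (eq_of_le_of_card_ge hQP e.ge)
    exact absurd (hm P' hT) (not_le.2 hlt)
  have hker : linkKer P' k ≤ linkKer P k := by
    rcases k with _ | k
    · exact le_rfl
    · rw [linkKer_succ, linkKer_succ, hP'ne k (by omega),
        linkKer_congr (P := P') (P' := P) fun i hi => hP'ne i (by omega), hP'k]
      exact inf_le_inf_right _ hQP
  refine ⟨fun e => ?_, fun hkn x hx y hy => ?_⟩
  · subst e
    rw [hP'k] at htop
    exact htop.trans hker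
  · by_contra hbad
    -- the shrunken term makes every higher kernel proper
    have hinv : ∀ j, k < j → j ≤ n → InvAbove a P n j (linkKer P' j) := fun j hkj hj =>
      ⟨mem_normalizer_linkKer fun i hi => hconj i (hi.trans hj), fun l hl hln z hz =>
        mem_normalizer_linkKer fun i hi => hnorm i l (by omega) hln (by
          rw [hP'ne l (by omega)]; exact hz)⟩
    have key : ∀ j, k < j → j ≤ n → linkKer P' j ≠ P j := by
      intro j hj
      induction j, hj using Nat.le_induction with
      | base =>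
        intro _ e
        have hx' : x ∈ linkKer P' (k + 1) := e.symm ▸ hx
        rw [linkKer_succ, hP'k] at hx'
        exact hbad (hker (hx'.2.2 y hy))
      | succ j hj ihj =>
        intro hjn e
        have hne := ihj (by omega)
        have hle : linkKer P' j ≤ P j := (linkKer_le P' j).trans (hP'le j)
        have hc := (ih (n - j) (by omega) j (by omega) rfl _ hle hne (hinv j (by omega) (by omega))).2
          (by omega)
        refine h.not_le_linkKer (k := j + 1) hjn fun z hz => ?_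
        have hz' : z ∈ linkKer P' (j + 1) := e.symm ▸ hz
        rw [linkKer_succ, hP'ne j (by omega)] at hz'
        rw [linkKer_succ]
        exact ⟨hz, h.le_normalizer_linkKer (by omega) hjn hz,
          fun w hw => h.step (by omega) hz hw (hc z hz _ (hz'.2.2 w hw))⟩
    refine key n hkn le_rfl (le_antisymm ((linkKer_le P' n).trans (hP'le n)) ?_)
    rw [← hP'ne n (by omega)]
    exact htop

theorem IsMinimal.top_le (hm : IsMinimal a G p P n) (h : IsTower a G p P n) {Q : Subgroup X}
    (hQP : Q ≤ P n) (hQne : Q ≠ P n) (hQ : InvAbove a P n n Q) : Q ≤ linkKer P n :=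
  (hm.dies h _ n le_rfl rfl Q hQP hQne hQ).1 rfl

theorem IsMinimal.centralize (hm : IsMinimal a G p P n) (h : IsTower a G p P n) {k : ℕ} (hk : k < n)
    {Q : Subgroup X} (hQP : Q ≤ P k) (hQne : Q ≠ P k) (hQ : InvAbove a P n k Q) {x y : X}
    (hx : x ∈ P (k + 1)) (hy : y ∈ Q) : ⁅x, y⁆ ∈ linkKer P k :=
  (hm.dies h _ k hk.le rfl Q hQP hQne hQ).2 hk x hx y hy

theorem IsMinimal.centralize_tfr (hm : IsMinimal a G p P n) (h : IsTower a G p P n) {k : ℕ}
    (hk : k < n) {x y : X} (hx : x ∈ P (k + 1)) (hy : y ∈ tfr P k) : ⁅x, y⁆ ∈ linkKer P k :=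
  hm.centralize h hk (tfr_le P k) (h.tfr_ne hk.le) (h.invAbove_tfr hk.le) hx hy

/-- An invariant subgroup that covers `P k` modulo `tfr P k` is all of it. -/
theorem IsMinimal.eq_of_cover (hm : IsMinimal a G p P n) (h : IsTower a G p P n) {k : ℕ}
    (hk : k ≤ n) {Q : Subgroup X} (hQP : Q ≤ P k) (hQ : InvAbove a P n k Q)
    (hcov : P k ≤ Q ⊔ tfr P k) : Q = P k := by
  by_contra hne
  rcases eq_or_lt_of_le hk with rfl | hk'
  · exact h.tfr_ne le_rfl (le_antisymm (tfr_le P k) (hcov.trans (sup_le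
      ((hm.top_le h hQP hne hQ).trans le_sup_right) le_rfl)))
  · have hflip : ∀ R : Subgroup X, R ≤ P k → R ≠ P k → InvAbove a P n k R →
        R ≤ centMod (P (k + 1)) (linkKer P k) := fun R hRP hRne hR y hy =>
      ⟨h.le_normalizer_linkKer le_rfl hk (hRP hy), fun x hx => by
        rw [← commutatorElement_inv]; exact inv_mem (hm.centralize h hk' hRP hRne hR hx hy)⟩
    have hall := hcov.trans (sup_le (hflip Q hQP hne hQ)
      (hflip _ (tfr_le P k) (h.tfr_ne hk) (h.invAbove_tfr hk)))
    refine h.not_le_linkKer (k := k + 1) hk' fun x hx => ?_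
    rw [linkKer_succ]
    exact ⟨hx, h.le_normalizer_linkKer (Nat.le_succ k) hk' hx, fun y hy => by
      rw [← commutatorElement_inv]; exact inv_mem ((hall hy).2 x hx)⟩

/-- `[P k, P (k + 1)] = P k`. -/
theorem IsMinimal.commutator_eq (hm : IsMinimal a G p P n) (h : IsTower a G p P n) {k : ℕ}
    (hk : k < n) : ⁅P k, P (k + 1)⁆ = P k := by
  have hle : ⁅P k, P (k + 1)⁆ ≤ P k :=
    le_normalizer_iff_commutator_le_left.1 (h.norm k (k + 1) (by omega) hk)
  by_contra hne
  refine h.not_le_linkKer (k := k + 1) hk fun x hx => ?_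
  have hinv : InvAbove a P n k ⁅P k, P (k + 1)⁆ := by
    refine ⟨mem_normalizer_commutator (h.conj k hk.le) (h.conj _ hk), fun l hl hln g hg =>
      mem_normalizer_commutator (h.norm k l hl.le hln hg) (h.norm (k + 1) l hl hln hg)⟩
  rw [linkKer_succ]
  refine ⟨hx, h.le_normalizer_linkKer (Nat.le_succ k) hk hx, fun y hy => h.step hk hx hy
    (hm.centralize h hk hle hne hinv hx ?_)⟩
  rw [← commutatorElement_inv]
  exact inv_mem (commutator_mem_commutator hy hx)

/-- A proper invariant subgroup lies in `tfr P k`. -/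
theorem IsMinimal.le_tfr (hm : IsMinimal a G p P n) (h : IsTower a G p P n) {k : ℕ}
    (hk : k ≤ n) {Q : Subgroup X} (hQP : Q ≤ P k) (hQne : Q ≠ P k) (hQ : InvAbove a P n k Q) :
    Q ≤ tfr P k := by
  rcases eq_or_lt_of_le hk with rfl | hk'
  · exact (hm.top_le h hQP hQne hQ).trans le_sup_right
  · intro y hy
    refine mem_of_fixed_mod (h.isP k hk) (h.le_normalizer_tfr le_rfl hk)
      (h.norm k (k + 1) (by omega) hk') (h.le_normalizer_tfr (Nat.le_succ k) hk')
      (fun u hu v hv => h.commutator_mem_tfr hk hu hv)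
      ((hm.commutator_eq h hk').ge.trans le_sup_left) (h.coprime_card hk') (hQP hy)
      fun x hx => mem_sup_right (hm.centralize h hk' hQP hQne hQ hx hy)

/-- `tfr P k` is central in `P k` modulo the kernel. -/
theorem IsMinimal.commutator_tfr_mem (hm : IsMinimal a G p P n) (h : IsTower a G p P n) {k : ℕ}
    (hk : k ≤ n) {u z : X} (hu : u ∈ P k) (hz : z ∈ tfr P k) : ⁅u, z⁆ ∈ linkKer P k := by
  rcases eq_or_lt_of_le hk with rfl | hk'
  · have hz' := hm.top_le h (tfr_le P k) (h.tfr_ne hk) (h.invAbove_tfr hk) hz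
    rw [commutatorElement_def]
    exact mul_mem (conj_mem (h.le_normalizer_linkKer le_rfl hk hu) hz') (inv_mem hz')
  · have hle : P (k + 1) ≤ centMod (tfr P k) (linkKer P k) := fun x hx =>
      ⟨h.le_normalizer_linkKer (Nat.le_succ k) hk' hx,
        fun y hy => hm.centralize_tfr h hk' hx hy⟩
    have hall : ⁅P k, P (k + 1)⁆ ≤ centMod (tfr P k) (linkKer P k) :=
      commutator_le.2 fun v hv x hx => by
        rw [commutatorElement_def]
        exact mul_mem (conj_mem (mem_normalizer_centMod (h.le_normalizer_tfr le_rfl hk hv)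
          (h.le_normalizer_linkKer le_rfl hk hv)) (hle hx)) (inv_mem (hle hx))
    exact (hall ((hm.commutator_eq h hk').ge hu)).2 z hz

/-- `a` moves the `k`-th layer. -/
def Moved (a : X) (P : ℕ → Subgroup X) (k : ℕ) : Prop := ∃ u ∈ P k, ⁅a, u⁆ ∉ tfr P k

omit [Finite X] in
theorem commute_of_mem_centralizer_zpowers {y : X}
    (h : y ∈ centralizer (zpowers a : Set X)) : a * y = y * a :=
  mem_centralizer_iff.1 h a (mem_zpowers a)

omit [Finite X] in
theorem mem_normalizer_centralizer_of_commute {y : X}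
    (h : y ∈ centralizer (zpowers a : Set X)) :
    y ∈ normalizer (centralizer (zpowers a : Set X) : Set X) :=
  le_normalizer h

theorem isSolvable_of_isPGroup {q : ℕ} (hq : q.Prime) {S : Subgroup X} (h : IsPGroup q S) :
    Group.IsSolvable S := by
  have := Fact.mk hq
  have := h.isNilpotent
  infer_instance

theorem IsTower.coprime_zpowers (h : IsTower a G p P n)
    (hcop : (Nat.card (zpowers a)).Coprime (Nat.card G)) {k : ℕ} (hk : k ≤ n) :
    (Nat.card (zpowers a)).Coprime (Nat.card (P k)) :=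
  hcop.coprime_dvd_right (card_dvd_of_le (h.le k hk))

/-- Above the last moved layer everything is centralised by `a`. -/
theorem IsMinimal.le_centralizer_of_unmoved (hm : IsMinimal a G p P n) (h : IsTower a G p P n)
    (hcop : (Nat.card (zpowers a)).Coprime (Nat.card G)) {j : ℕ}
    (hj : ∀ i, j ≤ i → i ≤ n → ¬ Moved a P i) :
    ∀ k, j ≤ k → k ≤ n → P k ≤ centralizer (zpowers a : Set X) := by
  suffices hd : ∀ d k, j ≤ k → k ≤ n → n - k = d → P k ≤ centralizer (zpowers a : Set X) from
    fun k hjk hk => hd _ k hjk hk rfl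
  intro d
  induction d using Nat.strong_induction_on with
  | _ d ih =>
  intro k hjk hk hd
  set A := zpowers a
  have hA : A ≤ normalizer (P k : Set X) := zpowers_le.2 (h.conj k hk)
  have hQ : InvAbove a P n k (P k ⊓ centralizer (A : Set X)) :=
    ⟨mem_normalizer_inf (h.conj k hk) (le_normalizer (mem_centralizer_iff.2 fun b hb => by
      obtain ⟨i, rfl⟩ := mem_zpowers_iff.1 hb
      exact (Commute.zpow_self a i).eq)), fun l hl hln y hy =>
      mem_normalizer_inf (h.norm k l hl.le hln hy) (le_normalizer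
        (ih (n - l) (by omega) l (by omega) hln rfl hy))⟩
  refine (hm.eq_of_cover h hk inf_le_left hQ fun u hu => ?_).ge.trans inf_le_right
  have hfix : A ≤ centMod (P k) (tfr P k) := zpowers_le.2 ⟨h.conj_tfr hk, fun v hv => by
    by_contra hv'
    exact hj k hjk hk ⟨v, hv, hv'⟩⟩
  obtain ⟨z, hz, hc⟩ := Coprime.exists_mem_centralizer_of_coset hA (zpowers_le.2 (h.conj_tfr hk))
    (tfr_le P k) (h.coprime_zpowers hcop hk)
    (Or.inr (isSolvable_of_isPGroup (h.prime k hk) ((h.isP k hk).to_le (tfr_le P k)))) hu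
    fun b hb => by
      have h1 := (hfix hb).2 u hu
      have h2 := inv_conj_mem (h.le_normalizer_tfr le_rfl hk hu) h1
      simpa [commutatorElement_def, mul_assoc] using h2
  have h3 : u * z ∈ P k ⊓ centralizer (A : Set X) := ⟨mul_mem hu (tfr_le P k hz), hc⟩
  have h4 := mul_mem (mem_sup_left (T := tfr P k) h3)
    (inv_mem (mem_sup_right (S := P k ⊓ centralizer (A : Set X)) hz))
  rwa [mul_inv_cancel_right] at h4

/-- Where `a` moves a layer whose later ones it centralises, it fixes nothing modulo `tfr`. -/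
theorem IsMinimal.mem_tfr_of_fixed (hm : IsMinimal a G p P n) (h : IsTower a G p P n) {j : ℕ}
    (hj : j ≤ n) (hmov : Moved a P j)
    (hup : ∀ l, j < l → l ≤ n → P l ≤ centralizer (zpowers a : Set X)) {u : X} (hu : u ∈ P j)
    (hua : ⁅a, u⁆ ∈ tfr P j) : u ∈ tfr P j := by
  set A := zpowers a
  -- the elements of `P j` fixed modulo `tfr`
  set Q := P j ⊓ centMod A (tfr P j)
  have hmem : ∀ {v : X}, v ∈ P j → ⁅a, v⁆ ∈ tfr P j → v ∈ Q := fun {v} hv hva => by
    refine ⟨hv, h.le_normalizer_tfr le_rfl hj hv, fun b hb => ?_⟩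
    have h1 : A ≤ centMod (zpowers v) (tfr P j) := zpowers_le.2 ⟨h.conj_tfr hj, fun w hw => by
      obtain ⟨i, rfl⟩ := mem_zpowers_iff.1 hw
      let C : Subgroup X :=
        { carrier := {w | w ∈ normalizer (tfr P j : Set X) ∧ ⁅a, w⁆ ∈ tfr P j}
          one_mem' := ⟨one_mem _, by rw [commutatorElement_one_right]; exact one_mem _⟩
          mul_mem' := fun {x z} hx hz => ⟨mul_mem hx.1 hz.1, by
            rw [show ⁅a, x * z⁆ = ⁅a, x⁆ * (x * ⁅a, z⁆ * x⁻¹) by
              simp only [commutatorElement_def]; group]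
            exact mul_mem hx.2 (conj_mem hx.1 hz.2)⟩
          inv_mem' := fun {x} hx => ⟨inv_mem hx.1, by
            rw [show ⁅a, x⁻¹⁆ = x⁻¹ * ⁅a, x⁆⁻¹ * x by simp only [commutatorElement_def]; group]
            exact inv_conj_mem hx.1 (inv_mem hx.2)⟩ }
      exact (zpow_mem (show v ∈ C from ⟨h.le_normalizer_tfr le_rfl hj hv, hva⟩) i).2⟩
    rw [← commutatorElement_inv]
    exact inv_mem ((h1 hb).2 v (mem_zpowers v))
  have hQ : InvAbove a P n j Q :=
    ⟨mem_normalizer_inf (h.conj j hj)
      (mem_normalizer_centMod (le_normalizer (mem_zpowers a)) (h.conj_tfr hj)),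
    fun l hl hln y hy => mem_normalizer_inf (h.norm j l hl.le hln hy)
      (mem_normalizer_centMod (centralizer_le_normalizer _ (hup l hl hln hy))
        (h.le_normalizer_tfr hl.le hln hy))⟩
  have hne : Q ≠ P j := fun e => by
    obtain ⟨v, hv, hva⟩ := hmov
    refine hva ?_
    have h1 : v ∈ Q := e.symm ▸ hv
    rw [← commutatorElement_inv]
    exact inv_mem (h1.2.2 a (mem_zpowers a))
  exact hm.le_tfr h hj inf_le_left hne hQ (hmem hu hua)

/-- `[P j, a] = P j` at the last moved layer. -/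
theorem IsMinimal.commutator_zpowers_eq (hm : IsMinimal a G p P n) (h : IsTower a G p P n)
    (hcop : (Nat.card (zpowers a)).Coprime (Nat.card G)) {j : ℕ} (hj : j ≤ n) (hmov : Moved a P j)
    (hup : ∀ l, j < l → l ≤ n → P l ≤ centralizer (zpowers a : Set X)) :
    ⁅P j, zpowers a⁆ = P j := by
  set A := zpowers a
  have hA : A ≤ normalizer (P j : Set X) := zpowers_le.2 (h.conj j hj)
  refine hm.eq_of_cover h hj (le_normalizer_iff_commutator_le_left.1 hA)
    ⟨mem_normalizer_commutator (h.conj j hj) (le_normalizer (mem_zpowers a)),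
      fun l hl hln y hy => mem_normalizer_commutator (h.norm j l hl.le hln hy)
        (centralizer_le_normalizer _ (hup l hl hln hy))⟩ ?_
  refine (Coprime.commutator_sup_centralizer hA (h.coprime_zpowers hcop hj)
    (Or.inr (isSolvable_of_isPGroup (h.prime j hj) (h.isP j hj)))).ge.trans
      (sup_le le_sup_left fun u hu => mem_sup_right (hm.mem_tfr_of_fixed h hj hmov hup hu.1 ?_))
  rw [commutatorElement_eq_one_iff_mul_comm.2 (commute_of_mem_centralizer_zpowers hu.2)]
  exact one_mem _

end Minimal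

end CfsgLib.CoprimeHeight
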