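import Cfsg.Agent.Lib.CoprimeHeight.Pairing
import Cfsg.Agent.Lib.CoprimeHeight.Minimal
import Cfsg.Agent.Lib.CoprimeHeight.Engine

/-!
# A layer of the tower acting on the layer below

`Q` acts on `V` with `Φ` central, `E = [Q, a]`, and an operator group `E'` centralises `Φ` there and
satisfies `Q = [Q, E']`. Sections where neither `a` nor `E` fixes anything have an extraspecial
constituent; when also `E' = [E', a]` there are none, whence the centraliser lemma.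
-/

set_option autoImplicit false

namespace CfsgLib.CoprimeHeight

open Subgroup CfsgLib.FixedFree CfsgLib.HallHigman Polynomial
open scoped commutatorElement TensorProduct

universe u v w

variable {K : Type u} [Field K] {V : Type v} [AddCommGroup V] [Module K V] {Γ : Type w} [Group Γ]

/-- The exact identity behind "`x` commutes with `[v, a]` up to `[Φ, a]`". -/
theorem commutator_commutator_eq_conj {a x v : Γ} (hxa : x * a = a * x) :
    ⁅x, ⁅v, a⁆⁆ = ⁅x, v⁆ * (⁅v, a⁆ * (a * ⁅x, v⁆⁻¹ * a⁻¹) * ⁅v, a⁆⁻¹) := by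
  calc ⁅x, ⁅v, a⁆⁆
      = x * v * a * v⁻¹ * a⁻¹ * x⁻¹ * a * v * a⁻¹ * v⁻¹ := by
        simp only [commutatorElement_def]; group
    _ = x * v * a * v⁻¹ * (x⁻¹ * a⁻¹) * a * v * a⁻¹ * v⁻¹ := by
        rw [show x⁻¹ * a⁻¹ = a⁻¹ * x⁻¹ from (Commute.inv_inv (show Commute x a from hxa)).eq]
        simp only [mul_assoc]
    _ = x * v * a * v⁻¹ * x⁻¹ * v * a⁻¹ * v⁻¹ := by group
    _ = x * v * (x⁻¹ * a * x) * v⁻¹ * x⁻¹ * v * a⁻¹ * v⁻¹ := by
        rw [show x⁻¹ * a * x = a by rw [mul_assoc, ← hxa, inv_mul_cancel_left]]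
    _ = ⁅x, v⁆ * (⁅v, a⁆ * (a * ⁅x, v⁆⁻¹ * a⁻¹) * ⁅v, a⁆⁻¹) := by
        simp only [commutatorElement_def]; group

variable [Finite Γ] (ρ : Representation K Γ V)

/-- The elements stabilising both ends of a section. -/
abbrev secGrp (W U : Submodule K V) : Subgroup Γ := stabSub ρ W ⊓ stabSub ρ U

/-- The representation on the section `W / U`. -/
noncomputable def secQuot (W U : Submodule K V) :
    Representation K (secGrp ρ W U) (W ⧸ U.comap W.subtype) :=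
  (restrictRep ρ (secGrp ρ W U) W fun _ hg => hg.1).quotient (U.comap W.subtype)
    fun g x hx => g.2.2 _ hx

theorem secQuot_mk {W U : Submodule K V} (g : secGrp ρ W U) (x : W) :
    secQuot ρ W U g (Submodule.Quotient.mk x) =
      Submodule.Quotient.mk (⟨ρ (g : Γ) x, g.2.1 x x.2⟩ : W) := rfl

theorem secQuot_congr {W U : Submodule K V} {g h : secGrp ρ W U}
    (e : ρ (g : Γ) = ρ (h : Γ)) : secQuot ρ W U g = secQuot ρ W U h := by
  refine LinearMap.ext fun y => ?_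
  obtain ⟨x, rfl⟩ := Submodule.Quotient.mk_surjective _ y
  rw [secQuot_mk, secQuot_mk]
  congr 1
  exact Subtype.ext (congrArg (fun f : Module.End K V => f (x : V)) e)

/-- If every element of `A` fixes `x` modulo the invariant `U`, so is `x` its average. -/
theorem sub_avg_mem_of_fixed {A : Subgroup Γ} (hA : (Nat.card A : K) ≠ 0) {U : Submodule K V}
    {x : V} (hx : ∀ g ∈ A, ρ g x - x ∈ U) : x - avg ρ A x ∈ U := by
  have := Fintype.ofFinite A
  have h1 : (Nat.card A : K) • (x - avg ρ A x) = ∑ c : A, (x - ρ (c : Γ) x) := by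
    rw [avg_apply, smul_sub, smul_smul, mul_inv_cancel₀ hA, one_smul, Finset.sum_sub_distrib,
      Finset.sum_const, Finset.card_univ, ← Nat.card_eq_fintype_card, Nat.cast_smul_eq_nsmul]
  refine (U.smul_mem_iff hA).1 (h1 ▸ U.sum_mem fun c _ => ?_)
  rw [← neg_sub]
  exact U.neg_mem (hx c c.2)

theorem natCast_card_ne_zero {q : ℕ} (hq : q.Prime) (hqK : (q : K) ≠ 0) {A : Subgroup Γ}
    (hA : IsPGroup q A) : (Nat.card A : K) ≠ 0 := by
  have := Fact.mk hq
  obtain ⟨k, hk⟩ := IsPGroup.iff_card.1 hA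
  rw [hk, Nat.cast_pow]
  exact pow_ne_zero _ hqK

/-- One layer acting on the one below. -/
structure Layer (a : Γ) (r q s : ℕ) (Q Φ E' : Subgroup Γ) : Prop where
  prime : r.Prime
  pow_a : a ^ r = 1
  qPrime : q.Prime
  isP : IsPGroup q Q
  qK : (q : K) ≠ 0
  rK : (r : K) ≠ 0
  qr : q ≠ r
  aQ : a ∈ normalizer (Q : Set Γ)
  aΦ : a ∈ normalizer (Φ : Set Γ)
  ΦQ : Φ ≤ Q
  QΦ : Q ≤ normalizer (Φ : Set Γ)
  der : ∀ u ∈ Q, ∀ v ∈ Q, ⁅u, v⁆ ∈ Φ
  powQ : ∀ u ∈ Q, u ^ q ∈ Φ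
  cent : ∀ z ∈ Φ, ∀ u ∈ Q, ρ (z * u) = ρ (u * z)
  sPrime : s.Prime
  sP : IsPGroup s E'
  sq : s ≠ q
  sr : s ≠ r
  aE' : a ∈ normalizer (E' : Set Γ)
  E'Q : E' ≤ normalizer (Q : Set Γ)
  E'Φ : E' ≤ normalizer (Φ : Set Γ)
  E'cent : ∀ e ∈ E', ∀ z ∈ Φ, ρ (e * z * e⁻¹) = ρ z
  genQ : Q ≤ ⁅Q, E'⁆

namespace Layer

variable {ρ} {a : Γ} {r q s : ℕ} {Q Φ E' : Subgroup Γ}

theorem card_a (L : Layer ρ a r q s Q Φ E') : Nat.card (zpowers a) ∣ r := by
  rw [Nat.card_zpowers]; exact orderOf_dvd_of_pow_eq_one L.pow_a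

theorem cardA_ne_zero (L : Layer ρ a r q s Q Φ E') : (Nat.card (zpowers a) : K) ≠ 0 := by
  obtain ⟨c, hc⟩ := L.card_a
  intro h
  exact L.rK (by rw [hc, Nat.cast_mul, h, zero_mul])

theorem coprime_a (L : Layer ρ a r q s Q Φ E') {S : Subgroup Γ} (hS : S ≤ Q) :
    (Nat.card (zpowers a)).Coprime (Nat.card S) := by
  have := Fact.mk L.qPrime
  obtain ⟨k, hk⟩ := IsPGroup.iff_card.1 (L.isP.to_le hS)
  rw [hk]
  exact ((((Nat.coprime_primes L.prime L.qPrime).2 L.qr.symm).coprime_dvd_left L.card_a)).pow_right k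

theorem solvable (L : Layer ρ a r q s Q Φ E') {S : Subgroup Γ} (hS : S ≤ Q) :
    Group.IsSolvable S := isSolvable_of_isPGroup L.qPrime (L.isP.to_le hS)

theorem card_ne_zero (L : Layer ρ a r q s Q Φ E') {S : Subgroup Γ} (hS : S ≤ Q) :
    (Nat.card S : K) ≠ 0 := natCast_card_ne_zero L.qPrime L.qK (L.isP.to_le hS)

theorem commA_le (L : Layer ρ a r q s Q Φ E') : ⁅Q, zpowers a⁆ ≤ Q :=
  le_normalizer_iff_commutator_le_left.1 (zpowers_le.2 L.aQ)

theorem aE (L : Layer ρ a r q s Q Φ E') : a ∈ normalizer ((⁅Q, zpowers a⁆ : Subgroup Γ) : Set Γ) :=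
  mem_normalizer_commutator L.aQ (le_normalizer (mem_zpowers a))

theorem QE (_L : Layer ρ a r q s Q Φ E') : Q ≤ normalizer ((⁅Q, zpowers a⁆ : Subgroup Γ) : Set Γ) :=
  normalizer_commutator_ge_left Q (zpowers a)

theorem genE (L : Layer ρ a r q s Q Φ E') :
    ⁅Q, zpowers a⁆ ≤ ⁅⁅Q, zpowers a⁆, zpowers a⁆ :=
  (Coprime.commutator_commutator_eq (zpowers_le.2 L.aQ) (L.coprime_a le_rfl)
    (Or.inr (L.solvable le_rfl))).ge

theorem delta_mem (_L : Layer ρ a r q s Q Φ E') {u : Γ} (hu : u ∈ Q) :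
    ⁅a, u⁆ ∈ ⁅Q, zpowers a⁆ := by
  rw [← commutatorElement_inv]
  exact inv_mem (commutator_mem_commutator hu (mem_zpowers a))

theorem commPhi_le (L : Layer ρ a r q s Q Φ E') : ⁅Φ, zpowers a⁆ ≤ Φ :=
  le_normalizer_iff_commutator_le_left.1 (zpowers_le.2 L.aΦ)

theorem genPhi (L : Layer ρ a r q s Q Φ E') :
    ⁅Φ, zpowers a⁆ ≤ ⁅⁅Φ, zpowers a⁆, zpowers a⁆ :=
  (Coprime.commutator_commutator_eq (zpowers_le.2 L.aΦ) (L.coprime_a L.ΦQ)
    (Or.inr (L.solvable L.ΦQ))).ge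

/-- The fixed points of `a` in `E` lie in `Φ`. -/
theorem mem_phi_of_commute (L : Layer ρ a r q s Q Φ E') {u : Γ} (hu : u ∈ ⁅Q, zpowers a⁆)
    (hua : a * u = u * a) : u ∈ Φ := by
  have := Fact.mk L.qPrime
  refine mem_of_fixed_mod (Y := zpowers a) (L.isP.to_le L.commA_le) (L.commA_le.trans L.QΦ)
    (zpowers_le.2 L.aE) (zpowers_le.2 L.aΦ)
    (fun x hx y hy => L.der x (L.commA_le hx) y (L.commA_le hy)) (L.genE.trans le_sup_left)
    (((Nat.coprime_primes L.prime L.qPrime).2 L.qr.symm).coprime_dvd_left L.card_a) hu fun x hx => ?_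
  have h1 : Commute x u := by
    obtain ⟨i, rfl⟩ := mem_zpowers_iff.1 hx
    exact (show Commute a u from hua).zpow_left i
  rw [commutatorElement_eq_one_iff_mul_comm.2 h1.eq]
  exact one_mem Φ

/-- `a` is semiregular on `E Φ / Φ`. -/
theorem semiregular (L : Layer ρ a r q s Q Φ E') {u : Γ} (hu : u ∈ ⁅Q, zpowers a⁆) {i : ℕ}
    (hi0 : 0 < i) (hir : i < r) (h : ⁅a ^ i, u⁆ ∈ Φ) : u ∈ Φ := by
  refine (mem_of_commutator_pow_mem (F := ⁅Q, zpowers a⁆ ⊓ Φ) L.prime L.pow_a L.aE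
    (mem_normalizer_inf L.aE L.aΦ) inf_le_left ?_ (L.solvable L.commA_le)
    (fun c hc hca => ⟨hc, L.mem_phi_of_commute hc hca⟩) hu hi0 hir (mem_inf.2 ⟨?_, ?_⟩)).2
  · have := Fact.mk L.qPrime
    obtain ⟨k, hk⟩ := IsPGroup.iff_card.1 (L.isP.to_le L.commA_le)
    rw [hk]
    exact ((Nat.coprime_primes L.qPrime L.prime).2 L.qr).pow_left k
  · rw [commutatorElement_def, show u * a ^ i * u⁻¹ * (a ^ i)⁻¹
      = u * (a ^ i * u⁻¹ * (a ^ i)⁻¹) by group]
    exact mul_mem hu (conj_mem (pow_mem L.aE i) (inv_mem hu))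
  · rw [← commutatorElement_inv]; exact inv_mem h

theorem conj_rep (L : Layer ρ a r q s Q Φ E') {z u : Γ} (hz : z ∈ Φ) (hu : u ∈ Q) :
    ρ (u * z * u⁻¹) = ρ z := by
  rw [map_mul, ← L.cent z hz u hu, ← map_mul, mul_assoc, mul_inv_cancel, mul_one]

/-- When `Q` is commutative modulo `N`, the central `Φ` lies in `N`. -/
theorem phi_le_of_abelian (L : Layer ρ a r q s Q Φ E') {N : Subgroup Γ}
    (hQN : Q ≤ normalizer (N : Set Γ)) (hEN : E' ≤ normalizer (N : Set Γ))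
    (hab : ∀ u ∈ Q, ∀ v ∈ Q, ⁅u, v⁆ ∈ N) (hfix : ∀ e ∈ E', ∀ z ∈ Φ, ⁅e, z⁆ ∈ N) : Φ ≤ N := by
  have := Fact.mk L.sPrime
  obtain ⟨k, hk⟩ := IsPGroup.iff_card.1 L.sP
  exact fun z hz => mem_of_fixed_mod (Y := E') L.isP hQN L.E'Q hEN hab (L.genQ.trans le_sup_left)
    (hk ▸ ((Nat.coprime_primes L.sPrime L.qPrime).2 L.sq).pow_left k) (L.ΦQ hz)
    fun e he => hfix e he z hz

set_option maxHeartbeats 1000000 in
/-- **A section where neither `a` nor `[Q, a]` fixes anything has an extraspecial constituent.** -/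
theorem exists_section_kernel [FiniteDimensional K V] (L : Layer ρ a r q s Q Φ E')
    {W U : Submodule K V} (hWQ : Q ≤ stabSub ρ W) (hUQ : Q ≤ stabSub ρ U)
    (hWa : a ∈ stabSub ρ W) (hUa : a ∈ stabSub ρ U) (hne : ¬ W ≤ U)
    (hfa : ∀ x ∈ W, ρ a x - x ∈ U → x ∈ U)
    (hfE : ∀ x ∈ W, (∀ e ∈ ⁅Q, zpowers a⁆, ρ e x - x ∈ U) → x ∈ U) :
    ∃ (N : Subgroup Γ) (b : ℕ), 1 ≤ b ∧ r = 2 ^ b + 1 ∧ FormData Q Φ N ∧
      a ∈ normalizer (N : Set Γ) ∧ E' ≤ normalizer (N : Set Γ) ∧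
      (∀ e ∈ E', ∀ z ∈ Φ, ⁅e, z⁆ ∈ N) ∧ ¬ Φ ≤ N ∧
      (∀ u ∈ ⁅Q, zpowers a⁆, ∀ c ∈ Q, a * c = c * a → ⁅u, c⁆ ∈ N) ∧
      (radMod Q N).relIndex ⁅Q, zpowers a⁆ = 2 ^ b * 2 ^ b := by
  have := Fact.mk L.qPrime
  set E := ⁅Q, zpowers a⁆
  set S := secGrp ρ W U
  have hQS : Q ≤ S := le_inf hWQ hUQ
  have haS : a ∈ S := ⟨hWa, hUa⟩
  set σ := secQuot ρ W U
  have hmk : ∀ (g : S) (x : W), σ g (Submodule.Quotient.mk x) =
      Submodule.Quotient.mk (⟨ρ (g : Γ) x, g.2.1 x x.2⟩ : W) := fun g x => rfl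
  have hcongr : ∀ {g h : S}, ρ (g : Γ) = ρ (h : Γ) → σ g = σ h := fun {g h} e =>
    secQuot_congr ρ e
  set a' : S := ⟨a, haS⟩
  have : Nontrivial (W ⧸ U.comap W.subtype) := by
    rw [Submodule.Quotient.nontrivial_iff]
    intro e
    exact hne fun x hx => (e.ge (Submodule.mem_top (x := (⟨x, hx⟩ : W))) : _)
  have hσa : ∀ y, σ a' y = y → y = 0 := by
    intro y hy
    obtain ⟨⟨x, hx⟩, rfl⟩ := Submodule.Quotient.mk_surjective _ y
    rw [hmk, Submodule.Quotient.eq] at hy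
    exact (Submodule.Quotient.mk_eq_zero _).2 (hfa x hx hy)
  have hσE : ∀ y, (∀ e ∈ E.subgroupOf S, σ e y = y) → y = 0 := by
    intro y hy
    obtain ⟨⟨x, hx⟩, rfl⟩ := Submodule.Quotient.mk_surjective _ y
    refine (Submodule.Quotient.mk_eq_zero _).2 (hfE x hx fun e he => ?_)
    have h1 := hy ⟨e, hQS (L.commA_le he)⟩ he
    rw [hmk, Submodule.Quotient.eq] at h1
    exact h1
  have hcardS : ∀ {H : Subgroup Γ}, H ≤ Q → (Nat.card (H.subgroupOf S) : K) ≠ 0 := by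
    intro H hH
    rw [Coprime.card_subgroupOf (hH.trans hQS)]
    exact L.card_ne_zero hH
  have haSn : ∀ {H : Subgroup Γ}, a ∈ normalizer (H : Set Γ) →
      a' ∈ normalizer (H.subgroupOf S : Set S) := fun {H} h =>
    mem_normalizer_of_conj (fun x hx => show a * (x : Γ) * a⁻¹ ∈ H from conj_mem h hx)
      fun x hx => show a⁻¹ * (x : Γ) * a ∈ H from inv_conj_mem h hx
  -- `[Φ, a]` is trivial on the section
  have hZ : ∀ z ∈ Φ, ∀ hm : ⁅z, a⁆ ∈ S, σ ⟨⁅z, a⁆, hm⟩ = 1 := by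
    intro z hz hm
    have hZΦ := L.commPhi_le
    have h1 := frob σ (A := (⁅Φ, zpowers a⁆).subgroupOf S) L.prime (Subtype.ext L.pow_a)
      (haSn (mem_normalizer_commutator L.aΦ (le_normalizer (mem_zpowers a))))
      (W := ⊤) (U := ⊥) (fun _ _ _ _ => Submodule.mem_top) (fun _ _ => Submodule.mem_top)
      (fun z _ x hx => by rw [(Submodule.mem_bot K).1 hx, map_zero]; exact zero_mem _)
      (fun y _ hy => (Submodule.mem_bot K).2 (hσa y hy))
      (fun y hy w hw x _ => by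
        rw [hcongr (g := y * w) (h := w * y)
          (L.cent _ (hZΦ hy) _ (L.ΦQ (hZΦ hw)))])
      (subgroupOf_le_commutator ((hZΦ.trans L.ΦQ).trans hQS) haS L.genPhi)
      (hcardS (hZΦ.trans L.ΦQ))
    refine LinearMap.ext fun y => sub_eq_zero.1 ((Submodule.mem_bot K).1 (h1 _ ?_ y trivial))
    exact commutator_mem_commutator hz (mem_zpowers a)
  have hΦa : ∀ z : S, (z : Γ) ∈ Φ → σ (z * a') = σ (a' * z) := by
    intro z hz
    have hm : ⁅(z : Γ), a⁆ ∈ S :=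
      mul_mem (mul_mem (mul_mem z.2 haS) (inv_mem z.2)) (inv_mem haS)
    have h1 := hZ (z : Γ) hz hm
    rw [show z * a' = ⟨⁅(z : Γ), a⁆, hm⟩ * (a' * z) from
      Subtype.ext (by simp [a', commutatorElement_def, mul_assoc]), map_mul, h1, one_mul]
  -- `Φ` fixes nothing in the section
  set Φ' := Φ.subgroupOf S
  have hσΦ : ∀ y, y ∈ fixSub σ Φ' → y = 0 := by
    intro y hy
    refine hσE y fun e he => sub_eq_zero.1 ((Submodule.mem_bot K).1 ?_)
    have hinv : ∀ g : S, (g : Γ) ∈ normalizer (Φ : Set Γ) → ∀ x ∈ fixSub σ Φ', σ g x ∈ fixSub σ Φ' :=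
      fun g hg x hx => map_mem_fixSub σ
        (mem_normalizer_of_conj (fun w hw => show (g : Γ) * w * (g : Γ)⁻¹ ∈ Φ from conj_mem hg hw)
          fun w hw => show (g : Γ)⁻¹ * w * g ∈ Φ from inv_conj_mem hg hw) hx
    exact frob σ (A := E.subgroupOf S) L.prime (Subtype.ext L.pow_a) (haSn L.aE)
      (W := fixSub σ Φ') (U := ⊥) (fun e he x hx => hinv e (L.QΦ (L.commA_le he)) x hx)
      (fun x hx => hinv a' L.aΦ x hx)
      (fun z _ x hx => by rw [(Submodule.mem_bot K).1 hx, map_zero]; exact zero_mem _)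
      (fun y _ hy => (Submodule.mem_bot K).2 (hσa y hy))
      (fun u hu w hw x hx => by
        have hd : ((u * w * u⁻¹ * w⁻¹ : S) : Γ) ∈ Φ := L.der _ (L.commA_le hu) _ (L.commA_le hw)
        have hwu : (((w * u : S)) : Γ) ∈ normalizer (Φ : Set Γ) :=
          mul_mem (L.QΦ (L.commA_le hw)) (L.QΦ (L.commA_le hu))
        rw [show u * w = (u * w * u⁻¹ * w⁻¹) * (w * u) by group, rep_self_mul_apply]
        exact hinv _ hwu x hx _ hd)
      (subgroupOf_le_commutator (L.commA_le.trans hQS) haS L.genE) (hcardS L.commA_le) e he y hy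
  -- extend the scalars and find the constituent
  set Kb := AlgebraicClosure K
  set τ := extend Kb σ
  have hτ : ∀ g h : S, σ g = σ h → τ g = τ h := fun g h e => (extend_eq_iff Kb σ g h).2 e
  have : Nontrivial (Kb ⊗[K] (W ⧸ U.comap W.subtype)) := by
    obtain ⟨y, hy⟩ := exists_ne (0 : W ⧸ U.comap W.subtype)
    exact ⟨⟨(1 : Kb) ⊗ₜ y, 0, fun e => hy (one_tmul_injective (k := K) Kb (by simpa using e))⟩⟩
  have hnoE : NoFixed τ (E.subgroupOf S) := NoFixed.extend (fun y hy => hσE y hy) (by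
    rw [← map_natCast (algebraMap K Kb), _root_.map_ne_zero]
    exact hcardS L.commA_le)
  have hnoΦ : NoFixed τ Φ' := NoFixed.extend (fun y hy => hσΦ y hy) (by
    rw [← map_natCast (algebraMap K Kb), _root_.map_ne_zero]
    exact hcardS L.ΦQ)
  have hsum0 : ∀ y, ∑ i ∈ Finset.range r, σ (a' ^ i) y = 0 := fun y => by
    refine hσa _ ?_
    rw [map_sum]
    have h1 : ∀ i, σ a' (σ (a' ^ i) y) = σ (a' ^ (i + 1)) y := fun i => by
      rw [← rep_self_mul_apply, ← pow_succ']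
    simp only [h1]
    have h2 := Finset.sum_range_succ' (fun i => σ (a' ^ i) y) r
    rw [Finset.sum_range_succ (fun i => σ (a' ^ i) y) r,
      show a' ^ r = 1 from Subtype.ext L.pow_a, pow_zero] at h2
    exact (add_right_cancel h2).symm
  set f : Kb[X] := ∑ i ∈ Finset.range r, X ^ i
  have hf0 : f ≠ 0 := fun e => by
    have h2 : f.coeff 0 = 1 := by
      simp [f, Polynomial.coeff_X_pow, L.prime.pos]
    rw [e, coeff_zero] at h2
    exact zero_ne_one h2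
  have hfdeg : f.natDegree ≤ r - 1 := natDegree_sum_le_of_forall_le _ _ fun i hi => by
    rw [natDegree_X_pow]
    have := Finset.mem_range.1 hi
    omega
  have hfdeg' : f.natDegree < r := by have := L.prime.pos; omega
  have hfa0 : aeval (τ a') f = 0 := by
    refine LinearMap.ext fun y => ?_
    simp only [f, map_sum, map_pow, aeval_X, LinearMap.sum_apply, LinearMap.zero_apply]
    induction y using TensorProduct.induction_on with
    | zero => simp
    | add y₁ y₂ h1 h2 => simp only [map_add, Finset.sum_add_distrib, h1, h2, add_zero]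
    | tmul c y =>
      simp only [← map_pow, τ, extend_tmul, ← TensorProduct.tmul_sum, hsum0, TensorProduct.tmul_zero]
  obtain ⟨N', hN', b, hb, hrb, -, hidx⟩ := exists_constituent (q := q) τ (Q := E.subgroupOf S)
    (Φ := Φ') (g := a') (n := r) ((L.isP.to_le L.commA_le).of_equiv
      (subgroupOfEquivOfLe (L.commA_le.trans hQS)).symm) (haSn L.aE) (haSn L.aΦ)
    (fun x hx => mem_normalizer_of_conj
      (fun z hz => show (x : Γ) * z * (x : Γ)⁻¹ ∈ Φ from conj_mem (L.QΦ (L.commA_le hx)) hz)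
      fun z hz => show (x : Γ)⁻¹ * z * x ∈ Φ from inv_conj_mem (L.QΦ (L.commA_le hx)) hz)
    L.prime.one_lt (by rw [show a' ^ r = 1 from Subtype.ext L.pow_a, map_one])
    (fun z hz u hu => hτ _ _ (hcongr (g := z * u) (h := u * z)
      (L.cent _ hz _ (L.commA_le hu))))
    (fun z hz => hτ _ _ (hΦa z hz))
    (fun z hz y hy => hτ _ _ (hcongr (g := z * y) (h := y * z) (L.cent _ hz _ (L.ΦQ hy))))
    (fun u hu v hv => L.der _ (L.commA_le hu) _ (L.commA_le hv))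
    (fun u hu i hi hir h => L.semiregular hu hi hir h)
    (subgroupOf_le_commutator (L.commA_le.trans hQS) haS L.genE) hnoE f hf0 hfdeg' hfa0
  -- the prime is `2`
  have hq2 : q = 2 := by
    by_contra hq
    have hodd : Odd (q ^ b) := (L.qPrime.odd_of_ne_two hq).pow
    have hr2 : r = 2 := by
      rcases L.prime.eq_two_or_odd' with h | h
      · exact h
      · rw [hrb] at h
        exact absurd hodd.add_one (Nat.not_even_iff_odd.2 h)
    have := Nat.one_lt_pow (Nat.one_le_iff_ne_zero.1 hb) L.qPrime.one_lt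
    omega
  subst hq2
  -- the kernel in `Γ`
  set N := N'.map S.subtype
  have hN'Φ := hN'.le
  have hmemN : ∀ {z : Γ} (hz : z ∈ S), z ∈ N ↔ (⟨z, hz⟩ : S) ∈ N' := fun {z} hz =>
    ⟨fun h => by
      obtain ⟨w, hw, e⟩ := h
      exact (Subtype.ext e : w = ⟨z, hz⟩) ▸ hw, fun h => ⟨_, h, rfl⟩⟩
  have hNΦ : N ≤ Φ := by rintro _ ⟨z, hz, rfl⟩; exact hN'Φ hz
  have htriv : ∀ {z : Γ} (hz : z ∈ Φ), σ ⟨z, hQS (L.ΦQ hz)⟩ = 1 → z ∈ N := fun {z} hz h =>
    (hmemN _).2 (hN'.mem_of_rep_eq_one hz (by rw [← map_one τ]; exact hτ _ _ (by rw [h, map_one])))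
  have hnormN : ∀ g : Γ, g ∈ normalizer (Φ : Set Γ) → (∀ z ∈ Φ, ρ (g * z * g⁻¹) = ρ z) →
      g ∈ normalizer (N : Set Γ) := by
    intro g hg hfix
    obtain ⟨v, -, -, hv⟩ := hN'
    have key : ∀ (y z : Γ) (hy : y ∈ Φ) (hz : z ∈ Φ), ρ y = ρ z → z ∈ N → y ∈ N := by
      intro y z hy hz e hzN
      rw [hmemN (hQS (L.ΦQ hy)), hv]
      rw [hmemN (hQS (L.ΦQ hz)), hv] at hzN
      exact ⟨hy, by rw [hτ _ _ (hcongr (g := (⟨y, hQS (L.ΦQ hy)⟩ : S))
        (h := ⟨z, hQS (L.ΦQ hz)⟩) e)]; exact hzN.2⟩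
    refine mem_normalizer_of_conj (fun z hz => key _ z (conj_mem hg (hNΦ hz)) (hNΦ hz)
      (hfix z (hNΦ hz)) hz) fun z hz => ?_
    refine key _ z (inv_conj_mem hg (hNΦ hz)) (hNΦ hz) ?_ hz
    have h1 := hfix _ (inv_conj_mem hg (hNΦ hz))
    rwa [show g * (g⁻¹ * z * g) * g⁻¹ = z by group, eq_comm] at h1
  have hQN : Q ≤ normalizer (N : Set Γ) := fun u hu =>
    hnormN u (L.QΦ hu) fun z hz => L.conj_rep hz hu
  have hEN : E' ≤ normalizer (N : Set Γ) := fun e he =>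
    hnormN e (L.E'Φ he) fun z hz => L.E'cent e he z hz
  have hEfix : ∀ e ∈ E', ∀ z ∈ Φ, ⁅e, z⁆ ∈ N := fun e he z hz => by
    have h1 : ρ ⁅e, z⁆ = 1 := by
      rw [commutatorElement_def, map_mul, L.E'cent e he z hz, ← map_mul, mul_inv_cancel, map_one]
    refine htriv (mul_mem (conj_mem (L.E'Φ he) hz) (inv_mem hz)) ?_
    rw [hcongr (h := (1 : S)) (by rw [h1]; simp), map_one]
  have hcyc : ∀ z ∈ Φ, ∀ w ∈ Φ, z ^ 2 ∈ N → w ^ 2 ∈ N → z ∉ N → w ∉ N → z⁻¹ * w ∈ N := by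
    intro z hz w hw hz2 hw2 hzN hwN
    have hzS := hQS (L.ΦQ hz)
    have hwS := hQS (L.ΦQ hw)
    rw [hmemN (pow_mem hzS 2)] at hz2
    rw [hmemN (pow_mem hwS 2)] at hw2
    rw [hmemN hzS] at hzN
    rw [hmemN hwS] at hwN
    rw [hmemN (mul_mem (inv_mem hzS) hwS)]
    exact hN'.inv_mul_mem (z := (⟨z, hzS⟩ : S)) (w := ⟨w, hwS⟩) hz hw hz2 hw2 hzN hwN
  have hFD : FormData Q Φ N := ⟨L.ΦQ, hNΦ, hQN, fun z hz u hu => by
    refine htriv (mul_mem (conj_mem (L.QΦ hu) hz) (inv_mem hz)) ?_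
    rw [hcongr (h := (1 : S)) (by
      show ρ ⁅u, z⁆ = ρ ((1 : S) : Γ)
      rw [commutatorElement_def, map_mul, L.conj_rep hz hu, ← map_mul, mul_inv_cancel]
      rfl), map_one], L.der, fun u hu => L.powQ u hu, hcyc⟩
  have haN : a ∈ normalizer (N : Set Γ) := by
    have haN' : a' ∈ normalizer (N' : Set S) := hN'.mem_normalizer (haSn L.aΦ) fun z hz => by
      rw [map_mul, ← hτ _ _ (hΦa z hz), ← map_mul, mul_assoc, mul_inv_cancel, mul_one]
    refine mem_normalizer_of_conj ?_ ?_ <;> rintro _ ⟨z, hz, rfl⟩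
    · exact ⟨_, conj_mem haN' hz, rfl⟩
    · exact ⟨_, inv_conj_mem haN' hz, rfl⟩
  have hperp : ∀ u ∈ E, ∀ c ∈ Q, a * c = c * a → ⁅u, c⁆ ∈ N := by
    intro u hu c hc hca
    let H : Subgroup Γ :=
      { carrier := {u | u ∈ Q ∧ FormData.bit N ⁅u, c⁆ = 0}
        one_mem' := ⟨one_mem _, FormData.bit_eq_zero_iff.2 (by simp)⟩
        mul_mem' := fun {x y} hx hy => ⟨mul_mem hx.1 hy.1, by
          rw [hFD.bit_mul_left hx.1 hy.1 hc, hx.2, hy.2, add_zero]⟩
        inv_mem' := fun {x} hx => ⟨inv_mem hx.1, by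
          have h1 := hFD.bit_mul_left (inv_mem hx.1) hx.1 hc
          rw [inv_mul_cancel, commutatorElement_one_left, FormData.bit_eq_zero_iff.2 (one_mem N),
            hx.2, add_zero] at h1
          exact h1.symm⟩ }
    refine FormData.bit_eq_zero_iff.1 ((commutator_zpowers_le L.aQ (H := H) fun v hv => ?_) hu).2
    have hv' : a * v⁻¹ * a⁻¹ ∈ Q := conj_mem L.aQ (inv_mem hv)
    have e : ⁅v, a⁆ = v * (a * v⁻¹ * a⁻¹) := by rw [commutatorElement_def]; group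
    refine ⟨e ▸ mul_mem hv hv', ?_⟩
    rw [e, hFD.bit_mul_left hv hv' hc]
    have hac : a * c * a⁻¹ = c := by rw [hca, mul_assoc, mul_inv_cancel, mul_one]
    have h2 : FormData.bit N ⁅a * v⁻¹ * a⁻¹, c⁆ = FormData.bit N ⁅v⁻¹, c⁆ := by
      refine FormData.bit_congr ?_
      rw [show ⁅a * v⁻¹ * a⁻¹, c⁆ = a * ⁅v⁻¹, c⁆ * a⁻¹ by
        conv_lhs => rw [← hac]
        simp only [commutatorElement_def]; group]
      exact (mem_normalizer_iff.1 haN _).symm
    rw [h2, ← hFD.bit_mul_left hv (inv_mem hv) hc, mul_inv_cancel, commutatorElement_one_left]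
    exact FormData.bit_eq_zero_iff.2 (one_mem N)
  refine ⟨N, b, hb, hrb, hFD, haN, hEN, hEfix, fun hle => ?_, hperp, ?_⟩
  · -- otherwise the eigenvector would be fixed by all of `Φ`
    obtain ⟨v, hv0, -, hv⟩ := hN'
    exact hv0 (hnoΦ v fun z hz => ((hv z).1 ((hmemN z.2).1 (hle hz))).2)
  · rw [← hidx]
    have hES : E ≤ S := L.commA_le.trans hQS
    have hN'E : E.subgroupOf S ≤ normalizer (N' : Set S) := fun x hx => by
      refine hN'.mem_normalizer (mem_normalizer_of_conj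
        (fun z hz => show (x : Γ) * z * (x : Γ)⁻¹ ∈ Φ from conj_mem (L.QΦ (L.commA_le hx)) hz)
        fun z hz => show (x : Γ)⁻¹ * z * x ∈ Φ from inv_conj_mem (L.QΦ (L.commA_le hx)) hz)
        fun z hz => hτ _ _ (hcongr (g := x * z * x⁻¹) (h := z)
          (L.conj_rep hz (L.commA_le hx)))
    have hE : radMod Q N ⊓ E = (radMod (E.subgroupOf S) N').map S.subtype := by
      ext u
      constructor
      · rintro ⟨hu, huE⟩
        refine ⟨⟨u, hES huE⟩, (mem_radMod hN'E).2 ⟨huE, fun w hw => ?_⟩, rfl⟩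
        exact (hmemN _).1 (((mem_radMod hFD.norm).1 hu).2 _ (L.commA_le hw))
      · rintro ⟨u, hu, rfl⟩
        obtain ⟨huE0, hu'⟩ := (mem_radMod hN'E).1 hu
        have huE : (u : Γ) ∈ E := huE0
        refine ⟨(mem_radMod hFD.norm).2 ⟨L.commA_le huE, fun w hw => ?_⟩, huE⟩
        obtain ⟨e, he, c, hc, rfl⟩ := Coprime.exists_mul_eq' (zpowers_le.2 L.aQ) (L.coprime_a le_rfl)
          (Or.inr (L.solvable le_rfl)) hw
        have hue : ⁅(u : Γ), e⁆ ∈ N :=
          (hmemN (mul_mem (mul_mem (mul_mem u.2 (hES he)) (inv_mem u.2)) (inv_mem (hES he)))).2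
            (hu' ⟨e, hES he⟩ he)
        have h1 : FormData.bit N ⁅(u : Γ), e * c⁆ = 0 := by
          rw [hFD.bit_mul_right (L.commA_le huE) (L.commA_le he) hc.1,
            FormData.bit_eq_zero_iff.2 (hperp _ huE c hc.1
              (mem_centralizer_iff.1 hc.2 a (mem_zpowers a))),
            FormData.bit_eq_zero_iff.2 hue, add_zero]
        exact FormData.bit_eq_zero_iff.1 h1
    have key := relIndex_map_map_of_injective (radMod (E.subgroupOf S) N') (E.subgroupOf S)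
      S.subtype_injective
    rw [← hE, subgroupOf_map_subtype, inf_eq_left.2 hES, inf_relIndex_right] at key
    exact key

end Layer

end CfsgLib.CoprimeHeight
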