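import Cfsg.Agent.Lib.CoprimeHeight.WeakTower
import Cfsg.Agent.Lib.FixedFree.Tower
import Cfsg.Agent.Lib.Coprime.Sylow

/-!
# Invariant towers of length equal to the Fitting height

If a solvable group has no nilpotent series of length `n` and `a` acts on it coprimely, then it has
an `a`-invariant tower of `n + 1` prime power subgroups that survives to the top.
-/

set_option autoImplicit false

namespace CfsgLib.CoprimeHeight

open Subgroup CfsgLib.FixedFree
open scoped commutatorElement

universe u

section Basic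

/-- Prepend a term to a sequence. -/
def shift {α : Sort*} (c : α) (f : ℕ → α) : ℕ → α
  | 0 => c
  | k + 1 => f k

variable {X : Type u} [Group X]

/-- The kernels of the links of a tower. -/
def linkKer (P : ℕ → Subgroup X) : ℕ → Subgroup X
  | 0 => ⊥
  | k + 1 => P (k + 1) ⊓ centMod (P k) (linkKer P k)

theorem linkKer_zero (P : ℕ → Subgroup X) : linkKer P 0 = ⊥ := rfl

theorem linkKer_succ (P : ℕ → Subgroup X) (k : ℕ) :
    linkKer P (k + 1) = P (k + 1) ⊓ centMod (P k) (linkKer P k) := rfl

theorem linkKer_le (P : ℕ → Subgroup X) : ∀ k, linkKer P k ≤ P k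
  | 0 => bot_le
  | _ + 1 => inf_le_left

theorem linkKer_congr {P P' : ℕ → Subgroup X} : ∀ {k : ℕ}, (∀ i ≤ k, P i = P' i) →
    linkKer P k = linkKer P' k
  | 0, _ => rfl
  | k + 1, h => by
    rw [linkKer_succ, linkKer_succ, h _ le_rfl, h k (by omega),
      linkKer_congr (k := k) fun i hi => h i (by omega)]

theorem mem_normalizer_linkKer {P : ℕ → Subgroup X} {g : X} : ∀ {k : ℕ},
    (∀ i ≤ k, g ∈ normalizer (P i : Set X)) → g ∈ normalizer (linkKer P k : Set X)
  | 0, _ => mem_normalizer_of_conj (fun x hx => by simp [linkKer_zero] at hx ⊢; simp [hx])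
      fun x hx => by simp [linkKer_zero] at hx ⊢; simp [hx]
  | k + 1, h => mem_normalizer_inf (h _ le_rfl) (mem_normalizer_centMod (h k (by omega))
      (mem_normalizer_linkKer fun i hi => h i (by omega)))

/-- An `a`-invariant tower with `n + 1` terms that survives to the top. -/
structure IsTower (a : X) (G : Subgroup X) (p : ℕ → ℕ) (P : ℕ → Subgroup X) (n : ℕ) : Prop where
  le : ∀ k ≤ n, P k ≤ G
  prime : ∀ k ≤ n, (p k).Prime
  isP : ∀ k ≤ n, IsPGroup (p k) (P k)
  conj : ∀ k ≤ n, a ∈ normalizer (P k : Set X)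
  norm : ∀ k l, k ≤ l → l ≤ n → P l ≤ normalizer (P k : Set X)
  ne : ∀ k < n, p k ≠ p (k + 1)
  top : ¬ P n ≤ linkKer P n

/-- What has to hold for the `k`-th lifted term `S k` of a tower of the quotient by the kernel of
`π`. -/
structure LiftOK {Y : Type u} [Group Y] (π : X →* Y) (a : X) (G : Subgroup X) (p : ℕ → ℕ)
    (Q : ℕ → Subgroup Y) (S : ℕ → Subgroup X) (k : ℕ) : Prop where
  conj : a ∈ normalizer (S k : Set X)
  le : S k ≤ G
  isP : IsPGroup (p k) (S k)
  norm : ∀ i < k, S k ≤ normalizer (S i : Set X)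
  map_eq : (S k).map π = Q k
  frattini : ∀ y ∈ G, (∀ i < k, y ∈ normalizer (S i : Set X)) → π y ∈ normalizer (Q k : Set Y) →
    ∃ f ∈ G ⊓ π.ker, (∀ i < k, f ∈ normalizer (S i : Set X)) ∧ f⁻¹ * y ∈ normalizer (S k : Set X)

theorem LiftOK.congr {Y : Type u} [Group Y] {π : X →* Y} {a : X} {G : Subgroup X} {p : ℕ → ℕ}
    {Q : ℕ → Subgroup Y} {S S' : ℕ → Subgroup X} {k : ℕ} (h : ∀ i ≤ k, S i = S' i)
    (hS : LiftOK π a G p Q S k) : LiftOK π a G p Q S' k := by
  have hk := h k le_rfl
  refine ⟨hk ▸ hS.conj, hk ▸ hS.le, hk ▸ hS.isP, fun i hi => hk ▸ h i hi.le ▸ hS.norm i hi,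
    hk ▸ hS.map_eq, fun y hy hn hπ => ?_⟩
  obtain ⟨f, hf, hfn, hfy⟩ := hS.frattini y hy (fun i hi => (h i hi.le).symm ▸ hn i hi) hπ
  exact ⟨f, hf, fun i hi => h i hi.le ▸ hfn i hi, hk ▸ hfy⟩

end Basic

variable {X : Type u} [Group X] [Finite X]

theorem zpowers_le_normalizer {a : X} {S : Subgroup X} (h : a ∈ normalizer (S : Set X)) :
    zpowers a ≤ normalizer (S : Set X) := zpowers_le.2 h

/-- The lifted terms exist. -/
theorem exists_lift {Y : Type u} [Group Y] [Finite Y] {π : X →* Y} {a : X} {G : Subgroup X}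
    [G.Normal] (hsol : Group.IsSolvable G) (hcop : (Nat.card (zpowers a)).Coprime (Nat.card G))
    {p : ℕ → ℕ} {Q : ℕ → Subgroup Y} {n : ℕ} (hT : IsTower (π a) (G.map π) p Q n) :
    ∀ m ≤ n + 1, ∃ S : ℕ → Subgroup X, ∀ k < m, LiftOK π a G p Q S k := by
  intro m
  induction m with
  | zero => exact fun _ => ⟨fun _ => ⊥, fun k hk => absurd hk (Nat.not_lt_zero k)⟩
  | succ m ih =>
    intro hm
    obtain ⟨S, hS⟩ := ih (by omega)
    have hmn : m ≤ n := by omega
    have := Fact.mk (hT.prime m hmn)
    let U : Subgroup X := G ⊓ (Q m).comap π ⊓ ⨅ i : Fin m, normalizer (S i : Set X)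
    have hU : ∀ {x : X}, x ∈ U ↔ (x ∈ G ∧ π x ∈ Q m) ∧ ∀ i < m, x ∈ normalizer (S i : Set X) := by
      intro x
      simp only [U, mem_inf, mem_comap, mem_iInf, Fin.forall_iff]
    have hUn : ∀ y : X, π y ∈ normalizer (Q m : Set Y) → (∀ i < m, y ∈ normalizer (S i : Set X)) →
        y ∈ normalizer (U : Set X) := by
      have key : ∀ y : X, π y ∈ normalizer (Q m : Set Y) → (∀ i < m, y ∈ normalizer (S i : Set X)) →
          ∀ x ∈ U, y * x * y⁻¹ ∈ U := by
        intro y hy hyS x hx
        obtain ⟨⟨hxG, hxQ⟩, hxS⟩ := hU.1 hx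
        refine hU.2 ⟨⟨Normal.conj_mem inferInstance x hxG y, ?_⟩, fun i hi =>
          mul_mem (mul_mem (hyS i hi) (hxS i hi)) (inv_mem (hyS i hi))⟩
        rw [map_mul, map_mul, map_inv]
        exact conj_mem hy hxQ
      refine fun y hy hyS => mem_normalizer_of_conj (key y hy hyS) fun x hx => ?_
      have := key y⁻¹ (by rw [map_inv]; exact inv_mem hy) (fun i hi => inv_mem (hyS i hi)) x hx
      rwa [inv_inv] at this
    have hUG : U ≤ G := fun x hx => (hU.1 hx).1.1
    have hsolU : Group.IsSolvable U := Coprime.isSolvable_of_le hsol hUG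
    have haU : a ∈ normalizer (U : Set X) := hUn a (hT.conj m hmn) fun i hi => (hS i hi).conj
    -- the image of `U`
    have hmapU : U.map π = Q m := by
      refine le_antisymm ?_ fun q hq => ?_
      · rintro _ ⟨x, hx, rfl⟩
        exact (hU.1 hx).1.2
      · suffices h : ∀ j ≤ m, ∃ y ∈ G, π y = q ∧ ∀ i < j, y ∈ normalizer (S i : Set X) by
          obtain ⟨y, hyG, hyq, hy⟩ := h m le_rfl
          exact ⟨y, hU.2 ⟨⟨hyG, hyq ▸ hq⟩, hy⟩, hyq⟩
        intro j
        induction j with
        | zero =>
          obtain ⟨y, hy, hyq⟩ := hT.le m hmn hq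
          exact fun _ => ⟨y, hy, hyq, fun i hi => absurd hi (Nat.not_lt_zero i)⟩
        | succ j ihj =>
          intro hj
          obtain ⟨y, hyG, hyq, hy⟩ := ihj (by omega)
          obtain ⟨f, hf, hfn, hfy⟩ := (hS j (by omega)).frattini y hyG hy
            (hyq.symm ▸ hT.norm j m (by omega) hmn hq)
          refine ⟨f⁻¹ * y, mul_mem (inv_mem hf.1) hyG, ?_, fun i hi => ?_⟩
          · rw [map_mul, map_inv, MonoidHom.mem_ker.1 hf.2, inv_one, one_mul, hyq]
          · rcases eq_or_lt_of_le (Nat.lt_succ_iff.1 hi) with rfl | hi'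
            · exact hfy
            · exact mul_mem (inv_mem (hfn i hi')) (hy i hi')
    -- the invariant Sylow subgroup of `U`
    obtain ⟨P, hP⟩ := Coprime.exists_invariant_sylow (A := zpowers a) (G := U)
      (zpowers_le_normalizer haU) (hcop.coprime_dvd_right (card_dvd_of_le hUG)) (Or.inr hsolU) (p m)
    set T := (P : Subgroup U).map U.subtype with hTdef
    have hTU : T ≤ U := map_subtype_le _
    have hker : U ⊓ π.ker ≤ U := inf_le_left
    have hnker : U ≤ normalizer ((U ⊓ π.ker : Subgroup X) : Set X) := fun x hx =>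
      mem_normalizer_inf (le_normalizer hx) (normalizer_eq_top (H := π.ker) ▸ mem_top x)
    have hsup : T ⊔ (U ⊓ π.ker) = U := sylow_sup_eq hker hnker (fun t ht => by
      obtain ⟨k, hk⟩ := hT.isP m hmn ⟨π t, (hU.1 ht).1.2⟩
      exact ⟨k, pow_mem ht _, MonoidHom.mem_ker.2 (by rw [map_pow]; exact congrArg Subtype.val hk)⟩) P
    have hTmap : T.map π = Q m := by
      rw [← hmapU, ← hsup, Subgroup.map_sup, show (U ⊓ π.ker).map π = ⊥ from
        (Subgroup.map_eq_bot_iff _).2 inf_le_right, sup_bot_eq]
    classical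
    refine ⟨Function.update S m T, fun k hk => ?_⟩
    have hupd : ∀ i < m, Function.update S m T i = S i := fun i hi =>
      Function.update_of_ne (Nat.ne_of_lt hi) _ _
    rcases eq_or_lt_of_le (Nat.lt_succ_iff.1 hk) with rfl | hk'
    swap
    · exact (hS k hk').congr fun i hi => (hupd i (lt_of_le_of_lt hi hk')).symm
    have hsame : Function.update S k T k = T := Function.update_self _ _ _
    refine ⟨?_, hsame.symm ▸ hTU.trans hUG, hsame.symm ▸ P.isPGroup'.map _, fun i hi => ?_,
      hsame.symm ▸ hTmap, fun y hyG hy hπ => ?_⟩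
    · rw [hsame]; exact hP (mem_zpowers a)
    · rw [hsame, hupd i hi]; exact fun x hx => (hU.1 (hTU hx)).2 i hi
    have hy' : ∀ i < k, y ∈ normalizer (S i : Set X) := fun i hi => hupd i hi ▸ hy i hi
    have hyU := hUn y hπ hy'
    -- the conjugate of `T` by `y` is again a Sylow subgroup of `U`
    have hle : T.map (MulAut.conj y).toMonoidHom ≤ U :=
      (map_mono hTU).trans (Coprime.map_conj_of_mem_normalizer hyU).le
    have hcard : Nat.card ((T.map (MulAut.conj y).toMonoidHom).subgroupOf U)
        = p k ^ (Nat.card U).factorization (p k) := by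
      rw [Coprime.card_subgroupOf hle, Coprime.card_map_conj, hTdef,
        card_map_of_injective U.subtype_injective]
      exact P.card_eq_multiplicity
    obtain ⟨g, hg⟩ := MulAction.exists_smul_eq U P (Sylow.ofCard _ hcard)
    have h1 : (P : Subgroup U).map (MulAut.conj g).toMonoidHom
        = (T.map (MulAut.conj y).toMonoidHom).subgroupOf U :=
      congrArg (fun S : Sylow (p k) U => (S : Subgroup U)) hg
    replace h1 := congrArg (Subgroup.map U.subtype) h1
    rw [Coprime.map_conj_subtype, subgroupOf_map_subtype, inf_eq_left.mpr hle, ← hTdef] at h1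
    have hTn : T ≤ normalizer ((U ⊓ π.ker : Subgroup X) : Set X) := hTU.trans hnker
    have hgm : (g : X) ∈ (U ⊓ π.ker) ⊔ T := by
      rw [sup_comm, hsup]
      exact g.2
    obtain ⟨f, hf, s, hs, hfs⟩ := (Coprime.mem_sup_of_le_normalizer hTn).1 hgm
    refine ⟨f, ⟨hUG hf.1, hf.2⟩, fun i hi => hupd i hi ▸ (hU.1 hf.1).2 i hi, ?_⟩
    rw [hsame, Coprime.mem_normalizer_iff_map_conj, ← Coprime.map_conj_conj, ← h1, ← hfs,
      Coprime.map_conj_conj, inv_mul_cancel_left]
    exact Coprime.map_conj_of_mem_normalizer (le_normalizer hs)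

/-- **Towers**: without a nilpotent series of length `n` there is a tower with `n + 1` terms. -/
theorem exists_tower : ∀ (n : ℕ) {X : Type u} [Group X] [Finite X] (a : X) (G : Subgroup X)
    [G.Normal], Group.IsSolvable G → (Nat.card (zpowers a)).Coprime (Nat.card G) →
    ¬ HasNilpotentSeries G n →
    ∃ (p : ℕ → ℕ) (P : ℕ → Subgroup X), IsTower a G p P n ∧ P 0 ≤ pCoreIn (p 0) G := by
  intro n
  induction n with
  | zero =>
    intro X _ _ a G _ hsol _ hser
    have : Nontrivial G := by
      by_contra h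
      rw [not_nontrivial_iff_subsingleton] at h
      exact hser (hasNilpotentSeries_zero G)
    obtain ⟨q, hq⟩ : ∃ q : Nat.Primes, Cfsg.pCore (q : ℕ) G ≠ ⊥ := by
      by_contra hall
      push Not at hall
      refine Solvable.fittingSubgroup_ne_bot (G := G) ?_
      rw [Solvable.fittingSubgroup_eq_iSup_pCore]
      exact iSup_eq_bot.2 hall
    refine ⟨fun _ => q, fun _ => pCoreIn (q : ℕ) G, ⟨fun _ _ => pCoreIn_le _ _, fun _ _ => q.2,
      fun _ _ => pCoreIn_isPGroup _ _, fun _ _ => ?_, fun _ _ _ _ => ?_,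
      fun k hk => absurd hk (Nat.not_lt_zero k), fun h => hq ?_⟩, le_rfl⟩
    · rw [normalizer_eq_top]; exact mem_top _
    · rw [normalizer_eq_top]; exact le_top
    · rw [linkKer_zero, le_bot_iff] at h
      exact (Subgroup.map_eq_bot_iff_of_injective _ G.subtype_injective).1 h
  | succ n ih =>
    intro X _ _ a G _ hsol hcop hser
    set F := fittingIn G
    set π := QuotientGroup.mk' F
    have hkerF : π.ker = F := QuotientGroup.ker_mk' F
    have : (G.map π).Normal := Subgroup.Normal.map inferInstance _ (QuotientGroup.mk'_surjective _)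
    have hcop' : (Nat.card (zpowers (π a))).Coprime (Nat.card (G.map π)) := by
      refine (hcop.coprime_dvd_left ?_).coprime_dvd_right (card_map_dvd G π)
      rw [Nat.card_zpowers, Nat.card_zpowers]
      exact orderOf_map_dvd π a
    have hser' : ¬ HasNilpotentSeries (G.map π) n := by
      intro h
      refine hser ?_
      set f := π.subgroupMap G
      have hf : Function.Surjective f := π.subgroupMap_surjective G
      refine HasNilpotentSeries.succ (N := f.ker) ?_ (FittingHeight.hasNilpotentSeries_of_surjective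
        (QuotientGroup.quotientKerEquivOfSurjective f hf).symm.toMonoidHom
        (MulEquiv.surjective _) h)
      refine Solvable.isNilpotent_of_le_fittingSubgroup fun x hx => ?_
      have h1 : π x = 1 := congrArg Subtype.val hx
      obtain ⟨z, hz, hzx⟩ := (QuotientGroup.eq_one_iff (x : X)).1 h1
      rwa [← Subtype.ext hzx]
    obtain ⟨p, Q, hT, hQ0⟩ := ih (π a) (G.map π) (Coprime.isSolvable_map π hsol) hcop' hser'
    obtain ⟨S, hS⟩ := exists_lift hsol hcop hT (n + 1) le_rfl
    -- a new bottom term, for each prime `q`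
    let P' : ℕ → ℕ → Subgroup X := fun q => shift (pCoreIn q G) S
    have key : ∀ k ≤ n, ∀ x ∈ S k, (∀ q : ℕ, q.Prime → q ≠ p 0 → x ∈ linkKer (P' q) (k + 1)) →
        π x ∈ linkKer Q k := by
      intro k
      induction k with
      | zero =>
        intro hk x hx hall
        have := Fact.mk (hT.prime 0 hk)
        set T := G ⊓ (pCoreIn (p 0) (G.map π)).comap π
        have hTn : T.Normal := inferInstance
        rw [linkKer_zero, mem_bot]
        refine (QuotientGroup.eq_one_iff x).2 (mem_fittingIn_of_centralizes (q := p 0) (T := T)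
          inf_le_left (fun t ht => ?_) ⟨(hS 0 (by omega)).le hx, hQ0 ((hS 0 (by omega)).map_eq ▸
            mem_map_of_mem π hx)⟩ fun q hq hqp u hu => ?_)
        · obtain ⟨j, hj⟩ := pCoreIn_isPGroup (p 0) (G.map π) ⟨π t, ht.2⟩
          exact ⟨j, (QuotientGroup.eq_one_iff _).1 (show π (t ^ p 0 ^ j) = 1 by
            rw [map_pow]; exact congrArg Subtype.val hj)⟩
        · have h1 := hall q hq hqp
          rw [linkKer_succ, linkKer_zero] at h1
          exact commutatorElement_eq_one_iff_mul_comm.1 (mem_bot.1 (h1.2.2 u hu))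
      | succ k ihk =>
        intro hk x hx hall
        have hxQ : π x ∈ Q (k + 1) := (hS (k + 1) (by omega)).map_eq ▸ mem_map_of_mem π hx
        rw [linkKer_succ]
        refine ⟨hxQ, mem_normalizer_linkKer fun i hi => hT.norm i (k + 1) (by omega) hk hxQ,
          fun y hy => ?_⟩
        rw [← (hS k (by omega)).map_eq] at hy
        obtain ⟨y, hy, rfl⟩ := hy
        rw [← map_commutatorElement]
        refine ihk (by omega) _ (commutator_mem_of_normalizes ((hS (k + 1) (by omega)).norm k
          (by omega) hx) hy) fun q hq hqp => ?_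
        have h1 := hall q hq hqp
        rw [linkKer_succ] at h1
        exact h1.2.2 y hy
    obtain ⟨x, hxS, hxK⟩ : ∃ x ∈ S n, π x ∉ linkKer Q n := by
      by_contra hcon
      push Not at hcon
      refine hT.top fun y hy => ?_
      rw [← (hS n (by omega)).map_eq] at hy
      obtain ⟨x, hx, rfl⟩ := hy
      exact hcon x hx
    obtain ⟨q, hq, hqp, hxq⟩ : ∃ q : ℕ, q.Prime ∧ q ≠ p 0 ∧ x ∉ linkKer (P' q) (n + 1) := by
      by_contra hcon
      push Not at hcon
      exact hxK (key n le_rfl x hxS hcon)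
    refine ⟨shift q p, P' q, ⟨?_, ?_, ?_, ?_, ?_, ?_, ?_⟩, le_rfl⟩
    · rintro (_ | k) hk
      · exact pCoreIn_le q G
      · exact (hS k (by omega)).le
    · rintro (_ | k) hk
      · exact hq
      · exact hT.prime k (by omega)
    · rintro (_ | k) hk
      · exact pCoreIn_isPGroup q G
      · exact (hS k (by omega)).isP
    · rintro (_ | k) hk
      · show a ∈ normalizer (pCoreIn q G : Set X)
        rw [normalizer_eq_top]; exact mem_top _
      · exact (hS k (by omega)).conj
    · rintro (_ | k) (_ | l) hkl hl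
      · exact le_normalizer
      · show _ ≤ normalizer (pCoreIn q G : Set X)
        rw [normalizer_eq_top]; exact le_top
      · omega
      · rcases eq_or_lt_of_le (Nat.succ_le_succ_iff.1 hkl) with rfl | hlt
        · exact le_normalizer
        · exact (hS l (by omega)).norm k hlt
    · rintro (_ | k) hk
      · exact hqp
      · exact hT.ne k (by omega)
    · exact fun h => hxq (h hxS)

end CfsgLib.CoprimeHeight
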