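import Cfsg.Agent.Lib.CoprimeHeight.CaseTwo

/-!
# The height of a solvable group over the centraliser of an operator of prime order

Without a nilpotent series of length `n + 2` for `G` the centraliser of `a` contains a weak tower
with `n + 1` terms.
-/

set_option autoImplicit false

namespace CfsgLib.CoprimeHeight

open Subgroup CfsgLib.FixedFree
open scoped commutatorElement

universe u

variable {X : Type u} [Group X]

/-- Glue two sequences. -/
def glueSeq {α : Type*} (m : ℕ) (f g : ℕ → α) : ℕ → α :=
  fun k => if k ≤ m then f k else g (k - (m + 1))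

theorem glueSeq_left {α : Type*} {m k : ℕ} (f g : ℕ → α) (h : k ≤ m) : glueSeq m f g k = f k :=
  if_pos h

theorem glueSeq_right {α : Type*} {m : ℕ} (f g : ℕ → α) (k : ℕ) :
    glueSeq m f g (m + 1 + k) = g k := by
  rw [glueSeq, if_neg (by omega), Nat.add_sub_cancel_left]

theorem exists_add_of_lt {m k : ℕ} (h : ¬ k ≤ m) : ∃ i, k = m + 1 + i :=
  ⟨k - (m + 1), by omega⟩

theorem WeakTower.append {H : Subgroup X} {p p' : ℕ → ℕ} {D KD D' KD' : ℕ → Subgroup X}
    {m m' : ℕ} (h : WeakTower H p D KD m) (h' : WeakTower H p' D' KD' m')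
    (hnorm : ∀ k ≤ m, ∀ l ≤ m',
      D' l ≤ normalizer (D k : Set X) ⊓ normalizer (KD k : Set X))
    (hne : p m ≠ p' 0)
    (hcond : ∀ x ∈ D' 0, (∀ y ∈ D m, ⁅x, y⁆ ∈ KD m) → x ∈ KD' 0) :
    WeakTower H (glueSeq m p p') (glueSeq m D D') (glueSeq m KD KD') (m + 1 + m') := by
  refine ⟨fun k hk => ?_, fun k hk => ?_, fun k hk => ?_, fun k l hkl hl => ?_, fun k hk => ?_,
    fun k hk => ?_, fun k hk => ?_⟩
  · by_cases hkm : k ≤ m
    · rw [glueSeq_left D D' hkm]; exact h.le k hkm
    · obtain ⟨i, rfl⟩ := exists_add_of_lt hkm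
      rw [glueSeq_right D D']; exact h'.le i (by omega)
  · by_cases hkm : k ≤ m
    · rw [glueSeq_left p p' hkm]; exact h.prime k hkm
    · obtain ⟨i, rfl⟩ := exists_add_of_lt hkm
      rw [glueSeq_right p p']; exact h'.prime i (by omega)
  · by_cases hkm : k ≤ m
    · rw [glueSeq_left D D' hkm, glueSeq_left p p' hkm]; exact h.isP k hkm
    · obtain ⟨i, rfl⟩ := exists_add_of_lt hkm
      rw [glueSeq_right D D', glueSeq_right p p']; exact h'.isP i (by omega)
  · by_cases hkm : k ≤ m
    · rw [glueSeq_left D D' hkm, glueSeq_left KD KD' hkm]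
      by_cases hlm : l ≤ m
      · rw [glueSeq_left D D' hlm]; exact h.norm k l hkl hlm
      · obtain ⟨i, rfl⟩ := exists_add_of_lt hlm
        rw [glueSeq_right D D']; exact hnorm k hkm i (by omega)
    · obtain ⟨i, rfl⟩ := exists_add_of_lt hkm
      obtain ⟨i', rfl⟩ := exists_add_of_lt (show ¬ l ≤ m by omega)
      rw [glueSeq_right D D', glueSeq_right KD KD', glueSeq_right D D']
      exact h'.norm i i' (by omega) (by omega)
  · by_cases hkm : k + 1 ≤ m
    · rw [glueSeq_left p p' (by omega : k ≤ m), glueSeq_left p p' hkm]; exact h.ne k hkm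
    · by_cases hk' : k = m
      · subst hk'
        rw [glueSeq_left p p' le_rfl, show k + 1 = k + 1 + 0 from rfl, glueSeq_right p p']
        exact hne
      · obtain ⟨i, rfl⟩ := exists_add_of_lt (show ¬ k ≤ m by omega)
        rw [glueSeq_right p p', show m + 1 + i + 1 = m + 1 + (i + 1) from rfl, glueSeq_right p p']
        exact h'.ne i (by omega)
  · by_cases hkm : k ≤ m
    · rw [glueSeq_left D D' hkm, glueSeq_left KD KD' hkm]; exact h.not_le k hkm
    · obtain ⟨i, rfl⟩ := exists_add_of_lt hkm
      rw [glueSeq_right D D', glueSeq_right KD KD']; exact h'.not_le i (by omega)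
  · by_cases hkm : k + 1 ≤ m
    · rw [glueSeq_left D D' hkm, glueSeq_left D D' (by omega : k ≤ m),
        glueSeq_left KD KD' (by omega : k ≤ m), glueSeq_left KD KD' hkm]
      exact h.cond k hkm
    · by_cases hk' : k = m
      · subst hk'
        rw [glueSeq_left D D' le_rfl, glueSeq_left KD KD' le_rfl, show k + 1 = k + 1 + 0 from rfl,
          glueSeq_right D D', glueSeq_right KD KD']
        exact hcond
      · obtain ⟨i, rfl⟩ := exists_add_of_lt (show ¬ k ≤ m by omega)
        rw [show m + 1 + i + 1 = m + 1 + (i + 1) from rfl]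
        simp only [glueSeq_right]
        exact h'.cond i (by omega)

variable [Finite X]

namespace Setup

variable {a : X} {G : Subgroup X} {r : ℕ} {p : ℕ → ℕ} {P : ℕ → Subgroup X} {n J : ℕ}

/-- The part above the moved layer. -/
theorem upper (h : Setup a G r p P n J) {l : ℕ} (hl : J < l) (hln : l ≤ n) {K₀ : Subgroup X}
    (hle : K₀ ≤ P l) (hne : K₀ ≠ P l) (hself : P l ≤ normalizer (K₀ : Set X))
    (hinv : InvAbove a P n l K₀) :
    WeakTower (G ⊓ centralizer (zpowers a : Set X)) (fun i => p (l + i)) (fun i => P (l + i))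
      (fun i => if i = 0 then K₀ else linkKer P (l + i)) (n - l) := by
  refine ⟨fun k hk => le_inf (h.tower.le _ (by omega)) (h.up _ (by omega) (by omega)),
    fun k hk => h.tower.prime _ (by omega), fun k hk => h.tower.isP _ (by omega),
    fun k k' hkk hk' => le_inf (h.tower.norm _ _ (by omega) (by omega)) ?_,
    fun k hk => h.tower.ne _ (by omega), fun k hk => ?_, fun k hk x hx hxy => ?_⟩
  · split_ifs with h0
    · rcases Nat.eq_zero_or_pos k' with rfl | hpos
      · exact hself
      · exact hinv.2 _ (by omega) (by omega)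
    · exact h.tower.le_normalizer_linkKer (by omega) (by omega)
  · split_ifs with h0
    · subst h0
      exact fun e => hne (le_antisymm hle e)
    · exact h.tower.not_le_linkKer (by omega)
  · rw [if_neg (Nat.succ_ne_zero k)]
    show x ∈ linkKer P (l + k + 1)
    rw [linkKer_succ]
    refine mem_inf.2 ⟨hx, h.tower.le_normalizer_linkKer (Nat.le_succ _) (by omega) hx, fun y hy => ?_⟩
    have h1 := hxy y hy
    by_cases h0 : k = 0
    · subst h0
      rw [if_pos rfl] at h1
      exact h.tower.step (by omega) hx hy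
        (h.min.centralize h.tower (by omega) hle hne hinv hx h1)
    · rwa [if_neg h0] at h1

/-- Proper kernels of a term above `J` given by a lower pair. -/
theorem centMod_inv (h : Setup a G r p P n J) {l : ℕ} (hln : l ≤ n) {A B : Subgroup X}
    (hA : a ∈ normalizer (A : Set X) ∧ a ∈ normalizer (B : Set X))
    (hP : ∀ i, l ≤ i → i ≤ n → P i ≤ normalizer (A : Set X) ⊓ normalizer (B : Set X)) :
    P l ≤ normalizer ((P l ⊓ centMod A B : Subgroup X) : Set X) ∧
      InvAbove a P n l (P l ⊓ centMod A B) :=
  ⟨fun _ hg => mem_normalizer_inf (le_normalizer hg)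
      (mem_normalizer_centMod (hP l le_rfl hln hg).1 (hP l le_rfl hln hg).2),
    mem_normalizer_inf (h.tower.conj l hln) (mem_normalizer_centMod hA.1 hA.2),
    fun i hi hin _ hg => mem_normalizer_inf (h.tower.norm l i hi.le hin hg)
      (mem_normalizer_centMod (hP i hi.le hin hg).1 (hP i hi.le hin hg).2)⟩

variable [∀ k, Fact (p k).Prime]

/-- The fixed points below the moved layer. -/
theorem lower (h : Setup a G r p P n J) {m : ℕ} (hm : m + 1 ≤ J) (hlay : m + 2 ≤ J ∨ J < n) :
    WeakTower (G ⊓ centralizer (zpowers a : Set X)) p (redD a P J) (redKD a P J) m :=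
  ⟨fun k hk => le_inf (inf_le_left.trans ((h.Q_le (by omega)).trans
      (h.tower.le k (by have := h.le; omega)))) inf_le_right,
    fun k _ => Fact.out,
    fun k hk => (h.tower.isP k (by have := h.le; omega)).to_le
      (inf_le_left.trans (h.Q_le (by omega))),
    fun k l hkl hl => h.D_le_normalizer hkl (by omega),
    fun k hk => h.tower.ne k (by have := h.le; omega),
    fun k hk => h.D_not_le_KD (by omega) (by omega),
    fun k hk _ hx hxy => h.mem_KD_succ (by omega) hx hxy⟩

/-- Lower fixed points followed by the terms from `l` on. -/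
theorem exists_join (h : Setup a G r p P n J) {m l : ℕ} (hm : m + 1 ≤ J) (hl : J < l) (hln : l ≤ n)
    (hne : p m ≠ p l) (hK : ¬ P l ≤ centMod (redD a P J m) (redKD a P J m))
    (hlay : m + 2 ≤ J ∨ J < n) :
    ∃ (p' : ℕ → ℕ) (D KD : ℕ → Subgroup X),
      WeakTower (G ⊓ centralizer (zpowers a : Set X)) p' D KD (m + 1 + (n - l)) := by
  obtain ⟨hs, hi⟩ := h.centMod_inv hln (A := redD a P J m) (B := redKD a P J m)
    (h.a_le_normalizer (by omega)) fun i hi hin => h.P_le_normalizer (by omega) (by omega) hin
  refine ⟨_, _, _, (h.lower hm hlay).append (h.upper hl hln inf_le_left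
    (fun e => hK (inf_eq_left.1 e)) hs hi) (fun k hk i hi => h.P_le_normalizer (by omega) (by omega)
      (by omega)) hne fun x hx hxy => ?_⟩
  rw [if_pos rfl]
  exact mem_inf.2 ⟨hx, (h.P_le_normalizer (by omega) (by omega) hln hx).2, hxy⟩

/-- **A weak tower among the fixed points.** -/
theorem exists_weakTower (h : Setup a G r p P n J) {n₀ : ℕ} (hn : n = n₀ + 2) :
    ∃ (p' : ℕ → ℕ) (D KD : ℕ → Subgroup X) (m : ℕ), n₀ ≤ m ∧
      WeakTower (G ⊓ centralizer (zpowers a : Set X)) p' D KD m := by
  have hJ := h.le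
  by_cases hJn : J = n
  · exact ⟨p, _, _, n₀, le_rfl, h.lower (by omega) (Or.inl (by omega))⟩
  by_cases hJ0 : J = 0
  · refine ⟨_, _, _, n - 1, by omega, h.upper (l := 1) (K₀ := linkKer P 1) (by omega) (by omega)
      (linkKer_le P 1) (fun e => h.tower.not_le_linkKer (k := 1) (by omega) e.ge)
      (h.tower.le_normalizer_linkKer le_rfl (by omega)) (h.tower.invAbove_linkKer (by omega))⟩
  obtain ⟨j, hj⟩ : ∃ j, j + 1 = J := ⟨J - 1, by omega⟩
  by_cases hJ1 : J + 1 = n
  · exact ⟨p, _, _, j, by omega, h.lower (by omega) (Or.inr (by omega))⟩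
  have hjn : j + 3 ≤ n := by omega
  by_cases hII : P (j + 2) ≤ centMod (redD a P J j) (redKD a P J j)
  · -- the second case
    have hD : ∀ {k}, k ≤ J → ∀ {z}, z ∈ redD a P J J →
        z ∈ normalizer (redD a P J k : Set X) ∧ z ∈ normalizer (redKD a P J k : Set X) :=
      fun hk _ hz => h.D_le_normalizer hk le_rfl hz
    set C := centMod (redD a P J j) (redKD a P J j)
    have hXD : ∀ {x}, x ∈ P (j + 3) → x ∈ normalizer (redD a P J (j + 1) : Set X) := fun hx =>
      (h.P_le_normalizer (by omega) (by omega) hjn hx).1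
    by_cases hne : p j ≠ p (j + 3)
    · have hK : ¬ P (j + 3) ≤ C := fun hle => by
        refine h.caseTwo_false hj hjn hII fun x hx z hz => ?_
        rw [hj] at hz
        rw [show ⁅x, z⁆ = x * (z * x⁻¹ * z⁻¹) by simp only [commutatorElement_def]; group]
        exact mul_mem (hle hx) (conj_mem
          (mem_normalizer_centMod (hD (by omega) hz).1 (hD (by omega) hz).2) (inv_mem (hle hx)))
      obtain ⟨p', D, KD, ht⟩ := h.exists_join (m := j) (l := j + 3) (by omega) (by omega) hjn hne
        hK (Or.inr (by omega))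
      exact ⟨p', D, KD, _, by omega, ht⟩
    push Not at hne
    set KJ := redD a P J (j + 1) ⊓ C with hKJ
    have hDJ : ∀ {z}, z ∈ redD a P J (j + 1) → z ∈ normalizer (KJ : Set X) := fun {z} hz => by
      have hz' : z ∈ redD a P J J := hj ▸ hz
      exact mem_normalizer_inf (le_normalizer hz)
        (mem_normalizer_centMod (hD (by omega) hz').1 (hD (by omega) hz').2)
    have hXK : ¬ P (j + 3) ≤ centMod (redD a P J (j + 1)) KJ := fun hle =>
      h.caseTwo_false hj hjn hII fun x hx z hz => ((hle hx).2 z hz).2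
    have hDK : ¬ redD a P J (j + 1) ≤ KJ := fun hle => hXK fun x hx => by
      refine ⟨?_, fun z hz => hle (commutator_mem_of_normalizes (hXD hx) hz)⟩
      rw [show KJ = redD a P J (j + 1) from le_antisymm inf_le_left hle]
      exact hXD hx
    have hP : ∀ i, j + 3 ≤ i → i ≤ n → P i ≤
        normalizer (redD a P J (j + 1) : Set X) ⊓ normalizer (KJ : Set X) := fun i hi hin g hg =>
      ⟨(h.P_le_normalizer (by omega) (by omega) hin hg).1, mem_normalizer_inf
        (h.P_le_normalizer (by omega) (by omega) hin hg).1 (mem_normalizer_centMod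
          (h.P_le_normalizer (by omega) (by omega) hin hg).1
          (h.P_le_normalizer (by omega) (by omega) hin hg).2)⟩
    obtain ⟨hs, hi⟩ := h.centMod_inv hjn (A := redD a P J (j + 1)) (B := KJ)
      ⟨(h.a_le_normalizer (by omega)).1, mem_normalizer_inf (h.a_le_normalizer (by omega)).1
        (mem_normalizer_centMod (h.a_le_normalizer (by omega)).1 (h.a_le_normalizer (by omega)).2)⟩ hP
    have mid : WeakTower (G ⊓ centralizer (zpowers a : Set X)) (fun _ => p (j + 1))
        (fun _ => redD a P J (j + 1)) (fun _ => KJ) 0 :=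
      ⟨fun _ _ => le_inf (inf_le_left.trans ((h.Q_le (by omega)).trans (h.tower.le _ (by omega))))
          inf_le_right,
        fun _ _ => Fact.out,
        fun _ _ => (h.tower.isP _ (by omega)).to_le (inf_le_left.trans (h.Q_le (by omega))),
        fun _ _ _ _ z hz => ⟨le_normalizer hz, hDJ hz⟩, fun _ hk => absurd hk (Nat.not_lt_zero _),
        fun _ _ => hDK, fun _ hk => absurd hk (Nat.not_lt_zero _)⟩
    have t1 := mid.append (h.upper (l := j + 3) (by omega) hjn inf_le_left
      (fun e => hXK (inf_eq_left.1 e)) hs hi) (fun k _ i hi => hP (j + 3 + i) (by omega) (by omega))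
      (fun e => h.tower.ne j (by omega) (hne.trans e.symm))
      (fun x hx hxy => by
        rw [if_pos rfl]
        exact mem_inf.2 ⟨hx, (hP _ le_rfl hjn hx).2, hxy⟩)
    have t2 := (h.lower (m := j) (by omega) (Or.inr (by omega))).append t1 (fun k hk l hl => ?_) ?_
      fun x hx hxy => ?_
    · exact ⟨_, _, _, _, by omega, t2⟩
    · by_cases hl0 : l ≤ 0
      · rw [glueSeq_left _ _ hl0, hj]
        exact h.D_le_normalizer (by omega) le_rfl
      · obtain ⟨i, rfl⟩ := exists_add_of_lt hl0
        rw [glueSeq_right]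
        exact h.P_le_normalizer (by omega) (by omega) (by omega)
    · rw [glueSeq_left _ _ le_rfl]
      exact h.tower.ne j (by omega)
    · rw [glueSeq_left _ _ le_rfl] at hx ⊢
      exact mem_inf.2 ⟨hx, (h.D_le_normalizer (k := j) (by omega) (by omega) hx).2, hxy⟩
  · -- the first case
    by_cases hne : p j ≠ p (j + 2)
    · obtain ⟨p', D, KD, ht⟩ := h.exists_join (m := j) (l := j + 2) (by omega) (by omega) (by omega)
        hne hII (Or.inr (by omega))
      exact ⟨p', D, KD, _, by omega, ht⟩
    push Not at hne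
    rcases j with _ | i
    · refine ⟨_, _, _, n - 2, by omega, h.upper (l := 2) (K₀ := linkKer P 2) (by omega) (by omega)
        (linkKer_le P 2) (fun e => h.tower.not_le_linkKer (k := 2) (by omega) e.ge)
        (h.tower.le_normalizer_linkKer le_rfl (by omega)) (h.tower.invAbove_linkKer (by omega))⟩
    have hK : ¬ P (i + 3) ≤ centMod (redD a P J i) (redKD a P J i) := fun hle => hII fun y hy => by
      refine ⟨(h.P_le_normalizer (by omega) (by omega) (by omega) hy).2, fun d hd => ?_⟩
      refine h.mem_KD_succ (by omega)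
        (commutator_mem_of_normalizes (h.P_le_normalizer (by omega) (by omega) (by omega) hy).1 hd)
        fun z hz => ?_
      have hdn := h.D_le_normalizer (k := i) (by omega) (by omega) hd
      have h1 : ⁅y, d⁆ ∈ centMod (redD a P J i) (redKD a P J i) := by
        rw [show ⁅y, d⁆ = y * (d * y⁻¹ * d⁻¹) by simp only [commutatorElement_def]; group]
        exact mul_mem (hle hy)
          (conj_mem (mem_normalizer_centMod hdn.1 hdn.2) (inv_mem (hle hy)))
      exact h1.2 z hz
    obtain ⟨p', D, KD, ht⟩ := h.exists_join (m := i) (l := i + 3) (by omega) (by omega) (by omega)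
      (fun e => h.tower.ne i (by omega) (e.trans hne.symm)) hK (Or.inl (by omega))
    exact ⟨p', D, KD, _, by omega, ht⟩

end Setup

/-- **The height bound**: if the centraliser in `G` of an operator of prime order coprime to `|G|`
has a nilpotent series of length `n` then `G` has one of length `n + 2`. -/
theorem hasNilpotentSeries_of_centralizer {a : X} {G : Subgroup X} [G.Normal]
    (hsol : Group.IsSolvable G) (hr : (orderOf a).Prime)
    (hcop : (Nat.card (zpowers a)).Coprime (Nat.card G)) {n : ℕ}
    (hC : HasNilpotentSeries (↥(G ⊓ centralizer (zpowers a : Set X))) n) :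
    HasNilpotentSeries (↥G) (n + 2) := by
  classical
  by_contra hser
  obtain ⟨p₀, P₀, h₀, -⟩ := exists_tower (n + 2) a G hsol hcop hser
  set p : ℕ → ℕ := fun k => if k ≤ n + 2 then p₀ k else 2
  have hp : ∀ k ≤ n + 2, p k = p₀ k := fun k hk => if_pos hk
  have : ∀ k, Fact (p k).Prime := fun k => ⟨by
    simp only [p]
    split_ifs with hk
    · exact h₀.prime k hk
    · exact Nat.prime_two⟩
  have h₁ : IsTower a G p P₀ (n + 2) :=
    ⟨h₀.le, fun k hk => (hp k hk).symm ▸ h₀.prime k hk, fun k hk => (hp k hk).symm ▸ h₀.isP k hk,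
      h₀.conj, h₀.norm, fun k hk => by rw [hp k hk.le, hp (k + 1) hk]; exact h₀.ne k hk, h₀.top⟩
  obtain ⟨P, hT, hmin⟩ := exists_minimal h₁
  by_cases hmov : ∃ k, k ≤ n + 2 ∧ Moved a P k
  · obtain ⟨k₀, hk₀, hk₀'⟩ := hmov
    set J := Nat.findGreatest (Moved a P) (n + 2)
    have hJ : J ≤ n + 2 := Nat.findGreatest_le _
    have hJm : Moved a P J := Nat.findGreatest_spec hk₀ hk₀'
    have hup : ∀ l, J < l → l ≤ n + 2 → P l ≤ centralizer (zpowers a : Set X) := fun l hl hln =>
      hmin.le_centralizer_of_unmoved hT hcop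
        (fun i hi hin => Nat.findGreatest_is_greatest (lt_of_lt_of_le hl hi) hin) l le_rfl hln
    obtain ⟨p', D, KD, m, hm, ht⟩ :=
      (⟨hT, hmin, hr, rfl, hcop, hJ, hJm, hup⟩ : Setup a G (orderOf a) p P (n + 2) J).exists_weakTower
        rfl
    exact (ht.prefix hm).not_hasNilpotentSeries hC
  · push Not at hmov
    have hall := hmin.le_centralizer_of_unmoved hT hcop (j := 0) fun i _ hin => hmov i hin
    refine WeakTower.not_hasNilpotentSeries (p := p) (D := P) (KD := linkKer P)
      ⟨fun k hk => le_inf (hT.le k (by omega)) (hall k (Nat.zero_le k) (by omega)),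
        fun k _ => Fact.out, fun k hk => hT.isP k (by omega),
        fun k l hkl hl => le_inf (hT.norm k l hkl (by omega))
          (hT.le_normalizer_linkKer hkl (by omega)),
        fun k hk => hT.ne k (by omega), fun k hk => hT.not_le_linkKer (by omega),
        fun k hk x hx hxy => ?_⟩ hC
    rw [linkKer_succ]
    exact mem_inf.2 ⟨hx, hT.le_normalizer_linkKer (Nat.le_succ k) (by omega) hx, hxy⟩

end CfsgLib.CoprimeHeight
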