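import Cfsg.Agent.Lib.CoprimeHeight.KeyLemma

/-!
# The separating family of functionals of a layer

Functionals on `Q / Φ` that vanish on the centraliser of `[V, Φ]`, or whose kernel fixes more of
`C_V(Φ)` than `Q` does.
-/

set_option autoImplicit false

namespace CfsgLib.CoprimeHeight

open Subgroup CfsgLib.FixedFree CfsgLib.HallHigman
open scoped commutatorElement

universe u v w

variable {K : Type u} [Field K] {V : Type v} [AddCommGroup V] [Module K V] [FiniteDimensional K V]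
  {Γ : Type w} [Group Γ] [Finite Γ] {ρ : Representation K Γ V} {a : Γ} {r q s : ℕ}
  {Q Φ E' : Subgroup Γ}

omit [FiniteDimensional K V] in
theorem Layer.sec (L : Layer ρ a r q s Q Φ E') : SecAb q Q Φ := ⟨L.ΦQ, L.QΦ, L.der, L.powQ⟩

/-- The functionals of a layer. -/
def omegaSet {q : ℕ} [Fact q.Prime] (h : SecAb q Q Φ) (ρ : Representation K Γ V) :
    Set (Module.Dual (ZMod q) h.Space) :=
  {f | (∀ u, ∀ hu : u ∈ Q, (∀ v ∈ commPart ρ Φ, ρ u v = v) → f (h.vec u hu) = 0) ∨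
    ∃ v ∈ fixSub ρ Φ, (∀ u, ∀ hu : u ∈ Q, f (h.vec u hu) = 0 → ρ u v = v) ∧
      ∃ u ∈ Q, ρ u v ≠ v}

omit [FiniteDimensional K V] in
theorem tw_mem_omegaSet {q : ℕ} [Fact q.Prime] (h : SecAb q Q Φ) {f : Module.Dual (ZMod q) h.Space}
    (hf : f ∈ omegaSet h ρ) (g : SecAb.grp Q Φ) : tw h.rep f g ∈ omegaSet h ρ := by
  have hgΦ : (g : Γ) ∈ normalizer (Φ : Set Γ) := g.2.2
  rcases hf with hf | ⟨v, hv, hker, u₀, hu₀, hne⟩
  · refine Or.inl fun u hu hfix => ?_
    rw [tw_apply, h.rep_vec]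
    refine hf _ _ fun y hy => ?_
    have h1 := hfix _ (map_mem_commPart ρ (inv_mem hgΦ) hy)
    rw [mul_assoc, rep_self_mul_apply, rep_self_mul_apply, h1, ← rep_self_mul_apply, mul_inv_cancel,
      map_one, Module.End.one_apply]
  · refine Or.inr ⟨ρ (g : Γ)⁻¹ v, map_mem_fixSub ρ (inv_mem hgΦ) hv, fun u hu hfu => ?_,
      (g : Γ)⁻¹ * u₀ * g, inv_conj_mem g.2.1 hu₀, fun e => hne ?_⟩
    · rw [tw_apply, h.rep_vec] at hfu
      have h1 := hker _ (conj_mem g.2.1 hu) hfu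
      conv_rhs => rw [← h1]
      simp only [← rep_self_mul_apply]
      exact congrArg (fun z => ρ z v) (by group)
    · have h1 := congrArg (ρ (g : Γ)) e
      simp only [← rep_self_mul_apply] at h1
      rw [show (g : Γ) * ((g : Γ)⁻¹ * u₀ * g * (g : Γ)⁻¹) = u₀ by group, mul_inv_cancel, map_one,
        Module.End.one_apply] at h1
      exact h1

namespace Layer

omit [FiniteDimensional K V] in
theorem kerSub_exists (L : Layer ρ a r q s Q Φ E') (f : Module.Dual (ZMod q) L.sec.Space) :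
    ∃ H : Subgroup Γ, H ≤ Q ∧ Φ ≤ H ∧ (∀ u, ∀ hu : u ∈ Q, u ∈ H ↔ f (L.sec.vec u hu) = 0) ∧
      Q ≤ normalizer (H : Set Γ) := by
  let H : Subgroup Γ :=
    { carrier := {u | ∃ hu : u ∈ Q, f (L.sec.vec u hu) = 0}
      one_mem' := ⟨one_mem Q, by rw [L.sec.vec_one, map_zero]⟩
      mul_mem' := fun {x y} ⟨hx, hfx⟩ ⟨hy, hfy⟩ =>
        ⟨mul_mem hx hy, by rw [L.sec.vec_mul hx hy, map_add, hfx, hfy, add_zero]⟩
      inv_mem' := fun {x} ⟨hx, hfx⟩ =>
        ⟨inv_mem hx, by rw [L.sec.vec_inv hx, map_neg, hfx, neg_zero]⟩ }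
  have hΦ : Φ ≤ H := fun z hz => ⟨L.ΦQ hz, by rw [(L.sec.vec_eq_zero (L.ΦQ hz)).2 hz, map_zero]⟩
  refine ⟨H, fun u hu => hu.1, hΦ, fun u hu => ⟨fun ⟨_, h⟩ => h, fun h => ⟨hu, h⟩⟩, ?_⟩
  intro g hg
  refine mem_normalizer_of_conj ?_ ?_ <;> intro z hz
  · rw [show g * z * g⁻¹ = ⁅g, z⁆ * z by simp [commutatorElement_def, mul_assoc]]
    exact mul_mem (hΦ (L.der g hg z hz.1)) hz
  · rw [show g⁻¹ * z * g = ⁅g⁻¹, z⁆ * z by simp [commutatorElement_def, mul_assoc]]
    exact mul_mem (hΦ (L.der g⁻¹ (inv_mem hg) z hz.1)) hz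

omit [FiniteDimensional K V] in
/-- A vector fixed by a hyperplane and one more element is fixed by all of `Q`. -/
theorem fix_of_hyperplane (L : Layer ρ a r q s Q Φ E') {f : Module.Dual (ZMod q) L.sec.Space}
    {v : V} (hker : ∀ u, ∀ hu : u ∈ Q, f (L.sec.vec u hu) = 0 → ρ u v = v) {u : Γ} (hu : u ∈ Q)
    (hfu : f (L.sec.vec u hu) ≠ 0) (huv : ρ u v = v) : v ∈ fixSub ρ Q := by
  have := Fact.mk L.qPrime
  intro g hg
  obtain ⟨i, hi⟩ := ZMod.natCast_zmod_surjective (f (L.sec.vec g hg) / f (L.sec.vec u hu))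
  have hmem : g * (u ^ i)⁻¹ ∈ Q := mul_mem hg (inv_mem (pow_mem hu i))
  have h0 : f (L.sec.vec _ hmem) = 0 := by
    rw [L.sec.vec_mul hg (inv_mem (pow_mem hu i)), L.sec.vec_inv (pow_mem hu i), L.sec.vec_pow hu,
      map_add, map_neg, map_nsmul, nsmul_eq_mul, hi, div_mul_cancel₀ _ hfu, add_neg_cancel]
  have hiv : ρ (u ^ i) v = v := by
    clear hi hmem h0
    induction i with
    | zero => simp
    | succ i ih => rw [pow_succ, rep_self_mul_apply, huv, ih]
  have h1 := hker _ hmem h0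
  conv_lhs => rw [← hiv, ← rep_self_mul_apply]
  conv_rhs => rw [← h1]
  conv_lhs => rw [← inv_mul_cancel_right g (u ^ i), rep_self_mul_apply]
  simp only [← rep_self_mul_apply, mul_assoc]
  simp only [rep_self_mul_apply, hiv]

set_option maxHeartbeats 1000000 in
/-- Moved functionals vanish on elements fixing the fixed points of `a` in `[V, E]`. -/
theorem omegaSet_kill [Fact q.Prime] (L : Layer ρ a r q s Q Φ E') (hgen : E' ≤ ⁅E', zpowers a⁆) {x : Γ}
    (hx : x ∈ Q) (hxa : x * a = a * x)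
    (hxfix : ∀ v ∈ commPart ρ ⁅Q, zpowers a⁆, ρ a v = v → ρ x v = v)
    {f : Module.Dual (ZMod q) L.sec.Space} (hf : f ∈ omegaSet L.sec ρ)
    (hmov : tw L.sec.rep f ⟨a, L.aQ, L.aΦ⟩ ≠ f) : f (L.sec.vec x hx) = 0 := by
  rcases hf with hf | ⟨v₀, hv₀, hker₀, u₀, hu₀, hne₀⟩
  · exact hf x hx (L.fix_commPart hgen hx hxa hxfix)
  have := Fact.mk L.qPrime
  by_contra hfx
  set E := ⁅Q, zpowers a⁆
  obtain ⟨H, hHQ, hΦH, hH, hQH⟩ := L.kerSub_exists f
  -- `E` is not in the kernel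
  obtain ⟨e₀, he₀, he₀H⟩ : ∃ e ∈ E, e ∉ H := by
    by_contra hall
    push Not at hall
    refine hmov (LinearMap.ext fun y => ?_)
    obtain ⟨u, hu, rfl⟩ := L.sec.exists_vec y
    rw [tw_apply, ← sub_eq_zero, ← map_sub, L.sec.rep_sub_vec]
    exact (hH _ _).1 (hall _ (L.delta_mem hu))
  -- `a` moves the kernel
  have hHa : ¬ ∀ u ∈ H, a * u * a⁻¹ ∈ H := by
    intro hall
    refine hmov (LinearMap.ext fun y => ?_)
    set m := y - (f y / f (L.sec.vec x hx)) • L.sec.vec x hx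
    obtain ⟨u, hu, hum⟩ := L.sec.exists_vec m
    have hfm : f m = 0 := by
      rw [map_sub, map_smul, smul_eq_mul, div_mul_cancel₀ _ hfx, sub_self]
    have huH : u ∈ H := (hH u hu).2 (hum ▸ hfm)
    have h1 : tw L.sec.rep f ⟨a, L.aQ, L.aΦ⟩ m = 0 := by
      rw [← hum, tw_apply, L.sec.rep_vec]
      exact (hH _ _).1 (hall u huH)
    have hxa' : tw L.sec.rep f ⟨a, L.aQ, L.aΦ⟩ (L.sec.vec x hx) = f (L.sec.vec x hx) := by
      rw [tw_apply, L.sec.rep_vec]
      exact congrArg f (L.sec.vec_congr _ _ (by rw [← hxa, mul_assoc, mul_inv_cancel, mul_one]))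
    rw [map_sub, map_smul, smul_eq_mul, sub_eq_zero, hxa', div_mul_cancel₀ _ hfx] at h1
    exact h1
  have hconjH : ∀ k, 0 < k → k < r → ∃ u ∈ H, a ^ k * u * (a ^ k)⁻¹ ∉ H := by
    intro k hk0 hkr
    by_contra hall
    push Not at hall
    obtain ⟨m, hm⟩ : ∃ m : ℕ, (a ^ k) ^ m = a := exists_pow_eq_self_of_coprime (by
      refine Nat.Coprime.coprime_dvd_right (orderOf_dvd_of_pow_eq_one L.pow_a) ?_
      exact ((L.prime.coprime_iff_not_dvd).2 fun h => absurd (Nat.le_of_dvd hk0 h) (by omega)).symm)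
    refine hHa fun u hu => ?_
    rw [← hm]
    clear hm
    induction m with
    | zero => simpa using hu
    | succ m ih =>
      rw [show (a ^ k) ^ (m + 1) * u * ((a ^ k) ^ (m + 1))⁻¹
          = a ^ k * ((a ^ k) ^ m * u * ((a ^ k) ^ m)⁻¹) * (a ^ k)⁻¹ by
        rw [pow_succ' (a ^ k) m]; group]
      exact hall _ ih
  -- the module of vectors of the hyperplane
  set W := fixSub ρ Φ ⊓ fixSub ρ H ⊓ commPart ρ Q with hW
  have hWQ : ∀ g ∈ Q, ∀ y ∈ W, ρ g y ∈ W := fun g hg y hy =>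
    ⟨⟨map_mem_fixSub ρ (L.QΦ hg) hy.1.1, map_mem_fixSub ρ (hQH hg) hy.1.2⟩,
      map_mem_commPart ρ (le_normalizer hg) hy.2⟩
  have hW0 : ∀ y ∈ W, y ∈ fixSub ρ Q → y = 0 := fun y hy h =>
    eq_zero_of_fix_of_comm ρ (L.card_ne_zero le_rfl) h hy.2
  have hWE : W ≤ commPart ρ E := by
    refine le_commPart ρ (L.card_ne_zero L.commA_le) (fun g hg => hWQ g (L.commA_le hg))
      fun y hy hyE => hW0 y hy ?_
    exact L.fix_of_hyperplane (f := f) (fun u hu hfu => hy.1.2 u ((hH u hu).2 hfu)) (L.commA_le he₀)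
      (fun h => he₀H ((hH _ _).2 h)) (hyE e₀ he₀)
  -- a vector moved by `Q`
  set v := v₀ - avg ρ Q v₀
  have hfixQ : avg ρ Q v₀ ∈ fixSub ρ Q := avg_mem_fixSub ρ v₀
  have hv : v ∈ W := ⟨⟨sub_mem hv₀ (fixSub_anti ρ L.ΦQ hfixQ),
    fun u hu => by rw [map_sub, hfixQ u (hHQ hu), hker₀ u (hHQ hu) ((hH u _).1 hu)]⟩,
    sub_avg_mem ρ (L.card_ne_zero le_rfl) v₀⟩
  have hv0 : v ≠ 0 := fun h => hne₀ (by
    rw [sub_eq_zero] at h
    rw [h]
    exact hfixQ u₀ hu₀)
  -- `x` fixes `v`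
  have hxv : ρ x v = v := by
    set y := ρ x v - v
    have hy : y ∈ W := sub_mem (hWQ x hx v hv) hv
    have hsum : ∑ k ∈ Finset.range r, ρ (a ^ k) y = 0 := by
      have hw1 : ∀ k ∈ Finset.range r, ρ (a ^ k) v ∈ commPart ρ E := fun k _ =>
        map_mem_commPart ρ (pow_mem L.aE k) (hWE hv)
      have hwa : ρ a (∑ k ∈ Finset.range r, ρ (a ^ k) v) = ∑ k ∈ Finset.range r, ρ (a ^ k) v := by
        rw [map_sum]
        have h1 : ∀ i, ρ a (ρ (a ^ i) v) = ρ (a ^ (i + 1)) v := fun i => by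
          rw [← rep_self_mul_apply, ← pow_succ']
        simp only [h1]
        have h2 := Finset.sum_range_succ' (fun i => ρ (a ^ i) v) r
        rw [Finset.sum_range_succ (fun i => ρ (a ^ i) v) r, L.pow_a, pow_zero] at h2
        exact (add_right_cancel h2).symm
      have h3 := hxfix _ (Submodule.sum_mem _ hw1) hwa
      rw [← sub_eq_zero, map_sum, ← Finset.sum_sub_distrib] at h3
      rw [← h3]
      refine Finset.sum_congr rfl fun k _ => ?_
      rw [map_sub, ← rep_self_mul_apply, ← rep_self_mul_apply,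
        (Commute.pow_right (show Commute x a from hxa) k).eq]
    have hcardH : (Nat.card H : K) ≠ 0 := L.card_ne_zero hHQ
    have h0 := congrArg (avg ρ H) hsum
    rw [map_sum, map_zero, Finset.sum_eq_single 0] at h0
    · rw [pow_zero, map_one, Module.End.one_apply, avg_eq_self ρ hcardH hy.1.2] at h0
      exact sub_eq_zero.1 h0
    · intro k hk hk0
      obtain ⟨u, hu, huH⟩ := hconjH k (Nat.pos_of_ne_zero hk0) (Finset.mem_range.1 hk)
      set z := avg ρ H (ρ (a ^ k) y)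
      have hzc : z ∈ commPart ρ Q := avg_mem ρ
        (fun g hg t ht => map_mem_commPart ρ (le_normalizer (hHQ hg)) ht)
        (map_mem_commPart ρ (pow_mem L.aQ k) hy.2)
      let W' : Submodule K V := fixSub ρ (H.map (MulAut.conj (a ^ k)).toMonoidHom)
      have hW' : ρ (a ^ k) y ∈ W' := by
        rintro _ ⟨h, hh, rfl⟩
        show ρ (a ^ k * h * (a ^ k)⁻¹) (ρ (a ^ k) y) = ρ (a ^ k) y
        rw [← rep_self_mul_apply, inv_mul_cancel_right, rep_self_mul_apply, hy.1.2 h hh]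
      have hzW : z ∈ W' := avg_mem ρ (fun g hg t ht => map_mem_fixSub ρ (by
        have hgQ : (a ^ k)⁻¹ * g * a ^ k ∈ normalizer (H : Set Γ) :=
          hQH (inv_conj_mem (pow_mem L.aQ k) (hHQ hg))
        refine mem_normalizer_of_conj ?_ ?_ <;> rintro _ ⟨h, hh, rfl⟩
        · refine ⟨_, conj_mem hgQ hh, ?_⟩
          simp only [MulEquiv.coe_toMonoidHom, MulAut.conj_apply]
          group
        · refine ⟨_, inv_conj_mem hgQ hh, ?_⟩
          simp only [MulEquiv.coe_toMonoidHom, MulAut.conj_apply]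
          group) ht) hW'
      refine eq_zero_of_fix_of_comm ρ (L.card_ne_zero le_rfl) ?_ hzc
      have huQ : a ^ k * u * (a ^ k)⁻¹ ∈ Q := conj_mem (pow_mem L.aQ k) (hHQ hu)
      exact L.fix_of_hyperplane (f := f) (fun g hg hfg => avg_mem_fixSub ρ _ g ((hH g hg).2 hfg)) huQ
        (fun h => huH ((hH _ _).2 h)) (hzW _ ⟨u, hu, rfl⟩)
    · intro h; exact absurd (Finset.mem_range.2 L.prime.pos) h
  exact hv0 (hW0 v hv (L.fix_of_hyperplane (f := f) (fun u hu hfu => hv.1.2 u ((hH u hu).2 hfu)) hx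
    hfx hxv))

/-- The family separates. -/
theorem omegaSet_sep [Fact q.Prime] (L : Layer ρ a r q s Q Φ E') (hker : ∀ u ∈ Q, ρ u = 1 → u ∈ Φ)
    (m : L.sec.Space) (hm : ∀ f ∈ omegaSet L.sec ρ, f m = 0) : m = 0 := by
  have := Fact.mk L.qPrime
  obtain ⟨u, hu, rfl⟩ := L.sec.exists_vec m
  -- the image of the centraliser of `[V, Φ]`
  let C : AddSubgroup L.sec.Space :=
    { carrier := {y | ∃ c, ∃ hc : c ∈ Q, (∀ v ∈ commPart ρ Φ, ρ c v = v) ∧ L.sec.vec c hc = y}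
      zero_mem' := ⟨1, one_mem Q, fun v _ => by simp, L.sec.vec_one⟩
      add_mem' := fun {y z} ⟨c, hc, hcf, hcy⟩ ⟨d, hd, hdf, hdz⟩ =>
        ⟨c * d, mul_mem hc hd, fun v hv => by rw [rep_self_mul_apply, hdf v hv, hcf v hv],
          by rw [L.sec.vec_mul hc hd, hcy, hdz]⟩
      neg_mem' := fun {y} ⟨c, hc, hcf, hcy⟩ =>
        ⟨c⁻¹, inv_mem hc, fun v hv => by
          conv_lhs => rw [← hcf v hv]
          exact rep_inv_apply_self ρ c v, by rw [L.sec.vec_inv hc, hcy]⟩ }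
  by_cases hC : L.sec.vec u hu ∈ AddSubgroup.toZModSubmodule q C
  swap
  · obtain ⟨f, hf, hfC⟩ := Submodule.exists_dual_map_eq_bot_of_notMem hC inferInstance
    refine absurd (hm f (Or.inl fun c hc hcf => ?_)) hf
    have h1 : f (L.sec.vec c hc) ∈ Submodule.map f (AddSubgroup.toZModSubmodule q C) :=
      ⟨_, (show L.sec.vec c hc ∈ C from ⟨c, hc, hcf, rfl⟩), rfl⟩
    rwa [hfC, Submodule.mem_bot] at h1
  obtain ⟨c, hc, hcf, hcu⟩ := (hC : L.sec.vec u hu ∈ C)
  rw [← hcu] at hm ⊢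
  refine (L.sec.vec_eq_zero hc).2 (hker c hc (LinearMap.ext fun v => ?_))
  -- `c` fixes `C_V(Φ)`
  have hfixΦ : ∀ v ∈ fixSub ρ Φ, ρ c v = v := by
    set V1 := fixSub ρ Φ
    have hQV : ∀ g ∈ Q, ∀ y ∈ V1, ρ g y ∈ V1 := fun g hg y hy => map_mem_fixSub ρ (L.QΦ hg) hy
    let lift : L.sec.Space → Γ := fun y => (L.sec.exists_vec y).choose
    have hlift : ∀ y, ∃ h : lift y ∈ Q, L.sec.vec (lift y) h = y := fun y =>
      (L.sec.exists_vec y).choose_spec
    let π : L.sec.Space → Module.End K V1 := fun y =>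
      (ρ (lift y)).restrict (fun t ht => hQV _ (hlift y).1 t ht)
    have hπ : ∀ (g : Γ) (hg : g ∈ Q) (y : V1), (π (L.sec.vec g hg) y : V) = ρ g y := by
      intro g hg y
      show ρ (lift _) (y : V) = ρ g y
      obtain ⟨h1, h2⟩ := hlift (L.sec.vec g hg)
      have h3 := (L.sec.vec_eq_iff h1 hg).1 h2
      conv_lhs => rw [← inv_mul_cancel_right (lift (L.sec.vec g hg)) g, rep_self_mul_apply]
      exact hQV g hg y y.2 _ h3
    have h0 : π 0 = 1 := LinearMap.ext fun y => Subtype.ext (by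
      rw [← L.sec.vec_one, hπ, map_one]; rfl)
    have hadd : ∀ y z, π (y + z) = π y * π z := by
      intro y z
      obtain ⟨g, hg, rfl⟩ := L.sec.exists_vec y
      obtain ⟨k, hk, rfl⟩ := L.sec.exists_vec z
      refine LinearMap.ext fun t => Subtype.ext ?_
      rw [← L.sec.vec_mul hg hk, hπ, Module.End.mul_apply, hπ, hπ, rep_self_mul_apply]
    intro v hv
    have hfin : Finite L.sec.Space := inferInstance
    have hspan := mem_span_hyperplane π h0 hadd L.qK (W := ⊤) (fun _ _ _ => Submodule.mem_top)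
      (v := (⟨v, hv⟩ : V1)) Submodule.mem_top
    have key : ∀ y : V1, y ∈ Submodule.span K {x | x ∈ (⊤ : Submodule K V1) ∧
        ∃ f : Module.Dual (ZMod q) L.sec.Space, ∀ m, f m = 0 → π m x = x} → ρ c (y : V) = y := by
      intro y hy
      induction hy using Submodule.span_induction with
      | mem y hy =>
        obtain ⟨-, f, hfy⟩ := hy
        have hfy' : ∀ g, ∀ hg : g ∈ Q, f (L.sec.vec g hg) = 0 → ρ g (y : V) = y := fun g hg h => by
          rw [← hπ g hg, hfy _ h]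
        by_cases hall : ∀ g ∈ Q, ρ g (y : V) = y
        · exact hall c hc
        · push Not at hall
          exact hfy' c hc (hm f (Or.inr ⟨y, y.2, hfy', hall⟩))
      | zero => simp
      | add y z _ _ h1 h2 => simp [map_add, h1, h2]
      | smul t y _ h1 => simp [map_smul, h1]
    exact key _ hspan
  have h1 := hfixΦ _ (avg_mem_fixSub ρ (A := Φ) v)
  have h2 := hcf _ (sub_avg_mem ρ (L.card_ne_zero L.ΦQ) (A := Φ) v)
  rw [map_sub, h1, sub_left_inj] at h2
  exact h2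

end Layer

end CfsgLib.CoprimeHeight
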