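import Cfsg.Agent.Lib.CoprimeHeight.FormLemma

/-!
# The commutator pairing of an extraspecial constituent
-/

set_option autoImplicit false

namespace CfsgLib.CoprimeHeight

open Subgroup CfsgLib.FixedFree CfsgLib.HallHigman Polynomial Module
open scoped commutatorElement

universe w

variable {Γ : Type w} [Group Γ] [Finite Γ]

omit [Finite Γ] in
/-- Transport of `A ≤ [A, ⟨a⟩]` to a subgroup. -/
theorem subgroupOf_le_commutator {A H : Subgroup Γ} (hA : A ≤ H) {a : Γ} (ha : a ∈ H)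
    (h : A ≤ ⁅A, zpowers a⁆) :
    A.subgroupOf H ≤ ⁅A.subgroupOf H, zpowers (⟨a, ha⟩ : H)⁆ := by
  refine (Subgroup.map_le_map_iff_of_injective H.subtype_injective).1 ?_
  rw [subgroupOf_map_subtype, inf_eq_left.2 hA, map_commutator, subgroupOf_map_subtype,
    inf_eq_left.2 hA, MonoidHom.map_zpowers]
  exact h

/-- The data of a commutator pairing `Q × Q → Φ / N` with values of order two. -/
structure FormData (Q Φ N : Subgroup Γ) : Prop where
  le_Q : Φ ≤ Q
  le_Φ : N ≤ Φ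
  norm : Q ≤ normalizer (N : Set Γ)
  cent : ∀ z ∈ Φ, ∀ u ∈ Q, ⁅u, z⁆ ∈ N
  der : ∀ u ∈ Q, ∀ v ∈ Q, ⁅u, v⁆ ∈ Φ
  sq : ∀ u ∈ Q, u ^ 2 ∈ Φ
  cyc : ∀ z ∈ Φ, ∀ w ∈ Φ, z ^ 2 ∈ N → w ^ 2 ∈ N → z ∉ N → w ∉ N → z⁻¹ * w ∈ N

namespace FormData

variable {Q Φ N : Subgroup Γ}

theorem le_rad (h : FormData Q Φ N) : Φ ≤ radMod Q N := fun z hz =>
  (mem_radMod h.norm).2 ⟨h.le_Q hz, fun v hv => by
    rw [← commutatorElement_inv]; exact inv_mem (h.cent z hz v hv)⟩

theorem secAb (h : FormData Q Φ N) : SecAb 2 Q (radMod Q N) where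
  le := radMod_le Q N
  norm := fun _ hu => mem_normalizer_radMod (le_normalizer hu) (h.norm hu)
  comm := fun u hu v hv => h.le_rad (h.der u hu v hv)
  pow := fun u hu => h.le_rad (h.sq u hu)

/-- The value of the pairing on a commutator. -/
noncomputable def bit (N : Subgroup Γ) (z : Γ) : ZMod 2 :=
  haveI := Classical.dec (z ∈ N)
  if z ∈ N then 0 else 1

omit [Finite Γ] in
theorem bit_eq_zero_iff {N : Subgroup Γ} {z : Γ} : bit N z = 0 ↔ z ∈ N := by
  unfold bit
  split <;> simp_all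

omit [Finite Γ] in
theorem bit_congr {N : Subgroup Γ} {z w : Γ} (h : z ∈ N ↔ w ∈ N) : bit N z = bit N w := by
  unfold bit
  by_cases hz : z ∈ N
  · rw [if_pos hz, if_pos (h.1 hz)]
  · rw [if_neg hz, if_neg fun hw => hz (h.2 hw)]

theorem commutator_sq_mem (h : FormData Q Φ N) {u v : Γ} (hu : u ∈ Q) (hv : v ∈ Q) :
    ⁅u, v⁆ ^ 2 ∈ N := by
  have h1 := ((mem_radMod h.norm).1 (h.le_rad (h.sq u hu))).2 v hv
  have h2 : ⁅u, ⁅u, v⁆⁆ ∈ N := h.cent _ (h.der u hu v hv) u hu
  have h3 : ⁅u, v⁆ ^ 2 = ⁅u, ⁅u, v⁆⁆⁻¹ * ⁅u ^ 2, v⁆ := by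
    simp only [commutatorElement_def, pow_two]; group
  rw [h3]
  exact mul_mem (inv_mem h2) h1

theorem bit_mul (h : FormData Q Φ N) {z w : Γ} (hz : z ∈ Φ) (hw : w ∈ Φ) (hz2 : z ^ 2 ∈ N)
    (hw2 : w ^ 2 ∈ N) : bit N (z * w) = bit N z + bit N w := by
  unfold bit
  by_cases h1 : z ∈ N
  · rw [if_pos h1, zero_add]
    exact bit_congr ⟨fun h3 => by simpa using mul_mem (inv_mem h1) h3, fun h3 => mul_mem h1 h3⟩
  · by_cases h2 : w ∈ N
    · rw [if_neg h1, if_pos h2, if_neg fun h3 => h1 (by simpa using mul_mem h3 (inv_mem h2)), add_zero]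
    · have h3 : z * w ∈ N := by
        rw [show z * w = z ^ 2 * (z⁻¹ * w) by group]
        exact mul_mem hz2 (h.cyc z hz w hw hz2 hw2 h1 h2)
      rw [if_neg h1, if_neg h2, if_pos h3]
      rfl

theorem bit_mul_left (h : FormData Q Φ N) {u u' v : Γ} (hu : u ∈ Q) (hu' : u' ∈ Q) (hv : v ∈ Q) :
    bit N ⁅u * u', v⁆ = bit N ⁅u, v⁆ + bit N ⁅u', v⁆ := by
  have hd := h.der u hu v hv
  have hd' := h.der u' hu' v hv
  rw [show ⁅u * u', v⁆ = ⁅u, ⁅u', v⁆⁆ * (⁅u', v⁆ * ⁅u, v⁆) by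
    simp only [commutatorElement_def]; group]
  have hN : ⁅u, ⁅u', v⁆⁆ ∈ N := h.cent _ hd' u hu
  rw [bit_congr (w := ⁅u', v⁆ * ⁅u, v⁆)
    ⟨fun h3 => by
      have := mul_mem (inv_mem hN) h3
      rwa [inv_mul_cancel_left] at this, fun h3 => mul_mem hN h3⟩,
    h.bit_mul hd' hd (h.commutator_sq_mem hu' hv) (h.commutator_sq_mem hu hv), add_comm]

omit [Finite Γ] in
theorem bit_symm {N : Subgroup Γ} (u v : Γ) : bit N ⁅u, v⁆ = bit N ⁅v, u⁆ :=
  bit_congr (by rw [← inv_mem_iff, commutatorElement_inv])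

theorem bit_mul_right (h : FormData Q Φ N) {u v v' : Γ} (hu : u ∈ Q) (hv : v ∈ Q) (hv' : v' ∈ Q) :
    bit N ⁅u, v * v'⁆ = bit N ⁅u, v⁆ + bit N ⁅u, v'⁆ := by
  rw [bit_symm, h.bit_mul_left hv hv' hu, bit_symm v, bit_symm v']

/-- A representative of a class. -/
noncomputable def rep' (h : FormData Q Φ N) (x : h.secAb.Space) : Γ :=
  (h.secAb.exists_vec x).choose

theorem rep'_mem (h : FormData Q Φ N) (x : h.secAb.Space) : h.rep' x ∈ Q :=
  (h.secAb.exists_vec x).choose_spec.choose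

theorem vec_rep' (h : FormData Q Φ N) (x : h.secAb.Space) : h.secAb.vec (h.rep' x) (h.rep'_mem x) = x :=
  (h.secAb.exists_vec x).choose_spec.choose_spec

theorem bit_well (h : FormData Q Φ N) {u u' v : Γ} (hu : u ∈ Q) (hu' : u' ∈ Q) (hv : v ∈ Q)
    (e : h.secAb.vec u hu = h.secAb.vec u' hu') : bit N ⁅u, v⁆ = bit N ⁅u', v⁆ := by
  have hR := (mem_radMod h.norm).1 ((h.secAb.vec_eq_iff hu hu').1 e)
  conv_lhs => rw [← inv_mul_cancel_right u u']
  rw [h.bit_mul_left hR.1 hu' hv, bit_eq_zero_iff.2 (hR.2 v hv), zero_add]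

/-- The pairing on `Q / rad`. -/
noncomputable def form (h : FormData Q Φ N) : LinearMap.BilinForm (ZMod 2) h.secAb.Space :=
  AddMonoidHom.toZModLinearMap 2 (AddMonoidHom.mk' (fun x =>
    AddMonoidHom.toZModLinearMap 2 (AddMonoidHom.mk' (fun y => bit N ⁅h.rep' x, h.rep' y⁆)
      fun y y' => by
        rw [bit_symm, bit_symm (h.rep' x) (h.rep' y), bit_symm (h.rep' x) (h.rep' y'),
          ← h.bit_mul_left (h.rep'_mem y) (h.rep'_mem y') (h.rep'_mem x)]
        refine h.bit_well (h.rep'_mem (y + y')) (mul_mem (h.rep'_mem y) (h.rep'_mem y')) (h.rep'_mem x) ?_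
        rw [h.vec_rep', h.secAb.vec_mul (h.rep'_mem y) (h.rep'_mem y'), h.vec_rep', h.vec_rep']))
    fun x x' => by
      refine LinearMap.ext fun y => ?_
      show bit N ⁅h.rep' (x + x'), h.rep' y⁆ = bit N ⁅h.rep' x, h.rep' y⁆ + bit N ⁅h.rep' x', h.rep' y⁆
      rw [← h.bit_mul_left (h.rep'_mem x) (h.rep'_mem x') (h.rep'_mem y)]
      refine h.bit_well (h.rep'_mem (x + x')) (mul_mem (h.rep'_mem x) (h.rep'_mem x')) (h.rep'_mem y) ?_
      rw [h.vec_rep', h.secAb.vec_mul (h.rep'_mem x) (h.rep'_mem x'), h.vec_rep', h.vec_rep'])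

theorem form_vec (h : FormData Q Φ N) {u v : Γ} (hu : u ∈ Q) (hv : v ∈ Q) :
    h.form (h.secAb.vec u hu) (h.secAb.vec v hv) = bit N ⁅u, v⁆ := by
  show bit N ⁅h.rep' _, h.rep' _⁆ = _
  rw [h.bit_well (h.rep'_mem _) hu (h.rep'_mem _) (h.vec_rep' _), bit_symm,
    h.bit_well (h.rep'_mem _) hv hu (h.vec_rep' _), bit_symm]

theorem form_nondeg (h : FormData Q Φ N) (y : h.secAb.Space) (hy : ∀ x, h.form x y = 0) :
    y = 0 := by
  obtain ⟨v, hv, rfl⟩ := h.secAb.exists_vec y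
  refine (h.secAb.vec_eq_zero hv).2 ((mem_radMod h.norm).2 ⟨hv, fun u hu => ?_⟩)
  rw [← commutatorElement_inv]
  refine inv_mem (bit_eq_zero_iff.1 ?_)
  rw [← h.form_vec hu hv]
  exact hy _

theorem form_inv (h : FormData Q Φ N) {g : SecAb.grp Q (radMod Q N)}
    (hg : (g : Γ) ∈ normalizer (N : Set Γ)) (x y : h.secAb.Space) :
    h.form (h.secAb.rep g x) (h.secAb.rep g y) = h.form x y := by
  obtain ⟨u, hu, rfl⟩ := h.secAb.exists_vec x
  obtain ⟨v, hv, rfl⟩ := h.secAb.exists_vec y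
  rw [h.secAb.rep_vec, h.secAb.rep_vec, h.form_vec, h.form_vec]
  refine bit_congr ?_
  rw [show ⁅(g : Γ) * u * (g : Γ)⁻¹, (g : Γ) * v * (g : Γ)⁻¹⁆ = (g : Γ) * ⁅u, v⁆ * (g : Γ)⁻¹ by
    simp only [commutatorElement_def]; group]
  exact (mem_normalizer_iff.1 hg _).symm

theorem mem_grp (_h : FormData Q Φ N) {g : Γ} (hQ : g ∈ normalizer (Q : Set Γ))
    (hN : g ∈ normalizer (N : Set Γ)) : g ∈ SecAb.grp Q (radMod Q N) :=
  ⟨hQ, mem_normalizer_radMod hQ hN⟩

/-- **An odd group `E' = [E', a]` cannot move the pairing of a small layer.** -/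
theorem commutator_mem_rad (h : FormData Q Φ N) {a : Γ} {r b s : ℕ} (hr : r.Prime)
    (hrb : r = 2 ^ b + 1) (hb : 1 ≤ b) (ha : a ^ r = 1) (haQ : a ∈ normalizer (Q : Set Γ))
    (haN : a ∈ normalizer (N : Set Γ)) {E E' : Subgroup Γ} (hs : s.Prime) (hs2 : s ≠ 2)
    (hsr : s ≠ r) (hE' : IsPGroup s E') (haE' : a ∈ normalizer (E' : Set Γ))
    (hgen : E' ≤ ⁅E', zpowers a⁆) (hE'Q : E' ≤ normalizer (Q : Set Γ))
    (hE'N : E' ≤ normalizer (N : Set Γ)) (hEQ : E ≤ Q) (hEa : ∀ u ∈ Q, ⁅a, u⁆ ∈ E)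
    (hcard : (radMod Q N).relIndex E ≤ 2 ^ b * 2 ^ b) :
    ∀ e ∈ E', ∀ u ∈ Q, ⁅e, u⁆ ∈ radMod Q N := by
  intro e he
  by_contra hne
  set R := radMod Q N
  have hS : E' ≤ SecAb.grp Q R := fun x hx => h.mem_grp (hE'Q hx) (hE'N hx)
  set a' : SecAb.grp Q R := ⟨a, h.mem_grp haQ haN⟩
  have hr2 : r ≠ 2 := by
    rw [hrb]
    have := Nat.one_lt_two_pow (Nat.one_le_iff_ne_zero.1 hb)
    omega
  have h1 := two_mul_le_rank h.secAb.rep h.form h.form_nondeg (E := E'.subgroupOf (SecAb.grp Q R))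
    (a := a') hs hs2 hr hr2 hsr (Subtype.ext ha) (hE'.of_equiv (subgroupOfEquivOfLe hS).symm)
    (mem_normalizer_of_conj (fun x hx => show a * (x : Γ) * a⁻¹ ∈ E' from conj_mem haE' hx)
      fun x hx => show a⁻¹ * (x : Γ) * a ∈ E' from inv_conj_mem haE' hx)
    (subgroupOf_le_commutator hS _ hgen) (fun x hx => h.form_inv (hE'N hx))
    ⟨⟨e, hS he⟩, he, fun e1 => hne fun u hu => (h.secAb.rep_eq_one_iff _).1 e1 u hu⟩
  have hfin : finrank (ZMod 2) (LinearMap.range (h.secAb.rep a' - 1)) ≤ 2 * b := by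
    let φ : E →* Multiplicative h.secAb.Space :=
      { toFun := fun u => Multiplicative.ofAdd (h.secAb.vec u (hEQ u.2))
        map_one' := congrArg Multiplicative.ofAdd h.secAb.vec_one
        map_mul' := fun u v => congrArg Multiplicative.ofAdd (h.secAb.vec_mul (hEQ u.2) (hEQ v.2)) }
    have hker : φ.ker = R.subgroupOf E := by
      ext u
      exact (h.secAb.vec_eq_zero (hEQ u.2))
    have hsub : ∀ x ∈ LinearMap.range (h.secAb.rep a' - 1), Multiplicative.ofAdd x ∈ φ.range := by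
      rintro _ ⟨x, rfl⟩
      obtain ⟨u, hu, rfl⟩ := h.secAb.exists_vec x
      refine ⟨⟨⁅a, u⁆, hEa u hu⟩, congrArg Multiplicative.ofAdd ?_⟩
      rw [LinearMap.sub_apply, Module.End.one_apply, h.secAb.rep_sub_vec]
    let ι : LinearMap.range (h.secAb.rep a' - 1) → φ.range := fun x =>
      ⟨Multiplicative.ofAdd (x : h.secAb.Space), hsub x x.2⟩
    have hinjι : Function.Injective ι := fun x y e => by
      have h5 := congrArg Subtype.val e
      exact Subtype.ext (Multiplicative.ofAdd.injective h5)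
    have hle : Nat.card (LinearMap.range (h.secAb.rep a' - 1)) ≤ Nat.card φ.range :=
      Nat.card_le_card_of_injective ι hinjι
    rw [← Subgroup.index_ker, hker, Module.natCard_eq_pow_finrank (K := ZMod 2), Nat.card_zmod] at hle
    have h2 := hle.trans hcard
    rw [← pow_add, ← two_mul] at h2
    exact (Nat.pow_le_pow_iff_right (by norm_num)).1 h2
  have := Nat.lt_two_pow_self (n := b)
  omega

/-- **An irreducible element of order `2 ^ b + 1` commutes with no other isometry of coprime order.** -/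
theorem commuting_mem_rad (h : FormData Q Φ N) {a y : Γ} {r b : ℕ} (hr : r.Prime)
    (hrb : r = 2 ^ b + 1) (ha : a ^ r = 1) (haQ : a ∈ normalizer (Q : Set Γ))
    (haN : a ∈ normalizer (N : Set Γ)) (hfree : ∀ u ∈ Q, ⁅a, u⁆ ∈ radMod Q N → u ∈ radMod Q N)
    (hcard : (radMod Q N).relIndex Q = 2 ^ b * 2 ^ b) (hyQ : y ∈ normalizer (Q : Set Γ))
    (hyN : y ∈ normalizer (N : Set Γ)) (hya : y * a = a * y) (hy : (orderOf y).Coprime r) :
    ∀ u ∈ Q, ⁅y, u⁆ ∈ radMod Q N := by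
  have := Fact.mk hr
  set R := radMod Q N
  set a' : SecAb.grp Q R := ⟨a, h.mem_grp haQ haN⟩
  set y' : SecAb.grp Q R := ⟨y, h.mem_grp hyQ hyN⟩
  suffices hy1 : h.secAb.rep y' = 1 from fun u hu => (h.secAb.rep_eq_one_iff y').1 hy1 u hu
  set A : Module.End (ZMod 2) h.secAb.Space := h.secAb.rep a'
  set Y : Module.End (ZMod 2) h.secAb.Space := h.secAb.rep y'
  have hAr : A ^ r = 1 := by rw [← map_pow, show a' ^ r = 1 from Subtype.ext ha, map_one]
  have hAY : Y * A = A * Y := by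
    rw [← map_mul, ← map_mul, show y' * a' = a' * y' from Subtype.ext hya]
  have hA0 : ∀ x, A x = x → x = 0 := fun x hx => by
    obtain ⟨u, hu, rfl⟩ := h.secAb.exists_vec x
    exact (h.secAb.vec_eq_zero hu).2 (hfree u hu ((h.secAb.rep_fix_iff a' hu).1 hx))
  have hdim : finrank (ZMod 2) h.secAb.Space = 2 * b := by
    have h1 := Module.natCard_eq_pow_finrank (K := ZMod 2) (V := h.secAb.Space)
    rw [h.secAb.card_space, hcard, Nat.card_zmod, ← pow_add, ← two_mul] at h1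
    exact (Nat.pow_right_injective le_rfl h1).symm
  -- invariant subspaces are trivial
  have hirr : ∀ L : Submodule (ZMod 2) h.secAb.Space, (∀ x ∈ L, A x ∈ L) → L = ⊥ ∨ L = ⊤ := by
    intro L hL
    classical
    have := Fintype.ofFinite L
    let f : Function.End L := fun x => ⟨A x, hL x x.2⟩
    have hfk : ∀ (k : ℕ) (x : L), (((f ^ k : Function.End L) x : L) : h.secAb.Space) = (A ^ k) x := by
      intro k
      induction k with
      | zero => intro x; simp; rfl
      | succ k ih =>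
        intro x
        rw [pow_succ' A, Module.End.mul_apply, ← ih, pow_succ']
        rfl
    have hfr : f ^ r ^ 1 = 1 := funext fun x => Subtype.ext (by
      rw [pow_one, hfk, hAr]; rfl)
    have h1 := Equiv.Perm.card_fixedPoints_modEq hfr
    have hcard1 : Fintype.card f.fixedPoints = 1 := by
      refine Fintype.card_eq_one_iff.2 ⟨⟨0, Subtype.ext (map_zero A)⟩, fun x => Subtype.ext ?_⟩
      exact Subtype.ext (hA0 _ (congrArg Subtype.val x.2))
    rw [hcard1, ← Nat.card_eq_fintype_card, Module.natCard_eq_pow_finrank (K := ZMod 2),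
      Nat.card_zmod] at h1
    set d := finrank (ZMod 2) L
    have hdvd : r ∣ 2 ^ d - 1 := (Nat.modEq_iff_dvd' Nat.one_le_two_pow).1 h1.symm
    have hdvd2 : r ∣ 2 ^ (2 * b) - 1 := by
      refine Dvd.intro (2 ^ b - 1) ?_
      rw [hrb, two_mul, pow_add]
      have h2 : 1 ≤ 2 ^ b := Nat.one_le_two_pow
      have h3 := Nat.mul_self_sub_mul_self_eq (2 ^ b) 1
      rw [mul_one] at h3
      exact h3.symm
    have hg := Nat.dvd_gcd hdvd hdvd2
    rw [Nat.pow_sub_one_gcd_pow_sub_one] at hg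
    by_cases hd0 : d = 0
    · exact Or.inl (Submodule.finrank_eq_zero.1 hd0)
    refine Or.inr (Submodule.eq_top_of_finrank_eq ?_)
    set g := Nat.gcd d (2 * b)
    have hg0 : 0 < g := Nat.gcd_pos_of_pos_left _ (Nat.pos_of_ne_zero hd0)
    have hgle : r ≤ 2 ^ g - 1 := Nat.le_of_dvd (by
      have := Nat.one_lt_two_pow hg0.ne'
      omega) hg
    have hgb : b < g := by
      by_contra hle
      have h9 : 2 ^ g ≤ 2 ^ b := Nat.pow_le_pow_right (by norm_num) (not_lt.1 hle)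
      have := Nat.one_le_two_pow (n := g)
      have := Nat.one_le_two_pow (n := b)
      omega
    obtain ⟨c, hc⟩ : g ∣ 2 * b := Nat.gcd_dvd_right _ _
    have hdle : d ≤ 2 * b := hdim ▸ L.finrank_le
    have hgd : g ≤ d := Nat.le_of_dvd (Nat.pos_of_ne_zero hd0) (Nat.gcd_dvd_left _ _)
    rw [hdim]
    rcases c with _ | _ | c
    · omega
    · omega
    · rw [show c + 1 + 1 = c + 2 from rfl, Nat.mul_add] at hc
      omega
  -- `Y` is a polynomial in `A`
  by_cases hV : ∀ x : h.secAb.Space, x = 0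
  · exact LinearMap.ext fun x => by rw [hV x, map_zero, map_zero]
  push Not at hV
  obtain ⟨x₀, hx₀⟩ := hV
  let orbit : (ZMod 2)[X] →ₗ[ZMod 2] h.secAb.Space :=
    (LinearMap.applyₗ x₀).comp (Polynomial.aeval A).toLinearMap
  have horb : LinearMap.range orbit = ⊤ := by
    refine (hirr _ ?_).resolve_left fun e => hx₀ ?_
    · rintro _ ⟨p, rfl⟩
      exact ⟨X * p, by simp [orbit]⟩
    · have h1 : orbit 1 ∈ LinearMap.range orbit := ⟨1, rfl⟩
      rw [e, Submodule.mem_bot] at h1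
      simpa [orbit] using h1
  obtain ⟨p, hp⟩ : ∃ p, orbit p = Y x₀ := horb.ge Submodule.mem_top
  have hcA : Commute Y A := hAY
  have hcg : ∀ g : (ZMod 2)[X], Y * aeval A g = aeval A g * Y := by
    intro g
    induction g using Polynomial.induction_on' with
    | add f g hf hg => rw [map_add, mul_add, add_mul, hf, hg]
    | monomial i c =>
      rw [aeval_monomial, ← mul_assoc, (Algebra.commutes c Y).symm, mul_assoc, mul_assoc,
        (hcA.pow_right i).eq]
  have hYp : Y = aeval A p := by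
    refine LinearMap.ext fun x => ?_
    obtain ⟨g, rfl⟩ : ∃ g, orbit g = x := horb.ge Submodule.mem_top
    show Y (aeval A g x₀) = aeval A p (aeval A g x₀)
    rw [← Module.End.mul_apply, ← Module.End.mul_apply,
      show Y * aeval A g = aeval A g * Y from hcg g, Module.End.mul_apply, ← hp]
    show aeval A g (aeval A p x₀) = _
    rw [← Module.End.mul_apply, ← map_mul, mul_comm, map_mul]
  -- the adjoint of `A` is `A ^ (2 ^ b)`
  have hAinv : ∀ x z, h.form (A x) (A z) = h.form x z := h.form_inv (g := a') haN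
  have hadj1 : ∀ (i : ℕ) x z, h.form ((A ^ i) x) z = h.form x (((A ^ 2 ^ b) ^ i) z) := by
    intro i
    induction i with
    | zero => intro x z; simp
    | succ i ih =>
      intro x z
      rw [pow_succ, Module.End.mul_apply, ih, pow_succ' (A ^ 2 ^ b), Module.End.mul_apply]
      conv_rhs => rw [← hAinv]
      congr 1
      rw [← Module.End.mul_apply A, ← pow_succ', ← hrb, hAr]
      rfl
  have hadj : ∀ (g : (ZMod 2)[X]) x z, h.form (aeval A g x) z = h.form x (aeval (A ^ 2 ^ b) g z) := by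
    intro g
    induction g using Polynomial.induction_on' with
    | add f g hf hg => intro x z; simp [map_add, hf, hg]
    | monomial i c =>
      intro x z
      simp only [aeval_monomial, Module.End.mul_apply, Module.algebraMap_end_apply, map_smul,
        LinearMap.smul_apply]
      rw [hadj1]
  have hexp : ∀ k : ℕ, p ^ 2 ^ k = expand (ZMod 2) (2 ^ k) p := by
    intro k
    induction k with
    | zero => simp
    | succ k ih =>
      rw [pow_succ, pow_mul, ih, ← ZMod.expand_card, ← Polynomial.expand_mul, mul_comm]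
  have hpow : Y ^ 2 ^ b = aeval (A ^ 2 ^ b) p := by
    rw [hYp, ← map_pow, hexp, expand_aeval]
  have hY1 : Y ^ (2 ^ b + 1) = 1 := by
    refine LinearMap.ext fun z => ?_
    rw [pow_succ, Module.End.mul_apply, Module.End.one_apply]
    refine sub_eq_zero.1 (h.form_nondeg _ fun x => ?_)
    rw [map_sub, hpow, ← hadj, sub_eq_zero]
    have h1 := h.form_inv (g := y') hyN x z
    rw [show h.secAb.rep y' = Y from rfl] at h1
    nth_rewrite 1 [hYp] at h1
    exact h1
  have hYo : Y ^ orderOf y = 1 := by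
    rw [← map_pow, show y' ^ orderOf y = 1 from Subtype.ext (pow_orderOf_eq_one y), map_one]
  rw [← hrb] at hY1
  have h2 := pow_gcd_eq_one.2 ⟨hYo, hY1⟩
  rwa [hy, pow_one] at h2

end FormData

end CfsgLib.CoprimeHeight
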