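import Cfsg.Agent.Lib.CoprimeHeight.Reduced

/-!
# The engine along the reduced tower

The functionals of a layer kill the kernels; consequently the fixed points survive, and what moves
the fixed points below the top only into the kernel fixes them.
-/

set_option autoImplicit false

namespace CfsgLib.CoprimeHeight

open Subgroup CfsgLib.FixedFree
open scoped commutatorElement

universe u

variable {X : Type u} [Group X] [Finite X]

namespace Setup

variable {a : X} {G : Subgroup X} {r : ℕ} {p : ℕ → ℕ} {P : ℕ → Subgroup X} {n J : ℕ}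
  [∀ k, Fact (p k).Prime]

omit [∀ k, Fact (p k).Prime] in
theorem Q_le_secP_grp (h : Setup a G r p P n J) {k : ℕ} (hk : k < J) :
    redQ a P J (k + 1) ≤ SecAb.grp (P k) (tfr P k) :=
  (h.Q_le hk).trans (h.P_le_grp (Nat.le_succ k) (le_trans hk h.le))

/-- The functionals on the reduced sections. -/
def omegaRed (h : Setup a G r p P n J) :
    ∀ (k : ℕ) (hk : k ≤ J), Set (Module.Dual (ZMod (p k)) (h.secM hk).Space)
  | 0, _ => Set.univ
  | k + 1, hk =>
    {f | ∃ g ∈ omegaSet ((h.secM hk).toSub (SecAb.grp (P k) (tfr P k)))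
        (h.secP (k := k) (le_trans (Nat.le_of_succ_le hk) h.le)).rep,
      f = g.comp ((h.secM hk).mapSub (SecAb.grp (P k) (tfr P k)) (h.Q_le_secP_grp hk))}

theorem omegaRed_tw (h : Setup a G r p P n J) : ∀ {k : ℕ} (hk : k ≤ J)
    {f : Module.Dual (ZMod (p k)) (h.secM hk).Space}, f ∈ h.omegaRed k hk →
    ∀ {x : X} (hx : x ∈ SecAb.grp (redQ a P J k) (redPhi a P J k)),
      (∀ j, j + 1 = k → x ∈ SecAb.grp (P j) (tfr P j)) →
      tw (h.secM hk).rep f ⟨x, hx⟩ ∈ h.omegaRed k hk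
  | 0, _, _, _, _, _, _ => Set.mem_univ _
  | k + 1, hk, _, hf, x, hx, hlow => by
    obtain ⟨g, hg, rfl⟩ := hf
    refine ⟨tw ((h.secM hk).toSub (SecAb.grp (P k) (tfr P k))).rep g
      ⟨⟨x, hlow k rfl⟩, SecAb.mem_grp_sub hx⟩, tw_mem_omegaSet _ hg _, LinearMap.ext fun m => ?_⟩
    rw [tw_apply, LinearMap.comp_apply, LinearMap.comp_apply, tw_apply, SecAb.mapSub_rep]

theorem omegaRed_sep (h : Setup a G r p P n J) : ∀ {k : ℕ} (hk : k ≤ J),
    (∀ j, j + 1 = k → j + 2 ≤ J) → ∀ m : (h.secM hk).Space,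
    (∀ f ∈ h.omegaRed k hk, f m = 0) → m = 0
  | 0, hk, _, m, hm => (Module.forall_dual_apply_eq_zero_iff (ZMod (p 0)) m).1 fun f =>
      hm f (Set.mem_univ f)
  | k + 1, hk, hlay, m, hm => by
    have hkn : k + 1 ≤ n := le_trans hk h.le
    refine (injective_iff_map_eq_zero _).1
      ((h.secM hk).mapSub_injective (hS := h.Q_le_secP_grp hk)) m ?_
    refine (h.layer (k := k) (hlay k rfl)).omegaSet_sep (fun u hu hu1 => ?_) _ fun g hg =>
      hm _ ⟨g, hg, rfl⟩
    exact mem_inf.2 ⟨hu, mem_sup_right (h.mem_linkKer_of_tfr hkn (h.Q_le hk hu)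
      (((h.secP (by omega)).rep_eq_one_iff u).1 hu1))⟩

/-- The moved functionals kill the kernel at level `k`. -/
def Kills (h : Setup a G r p P n J) (k : ℕ) (hk : k ≤ J) : Prop :=
  ∀ f ∈ h.omegaRed k hk, tw (h.secM hk).rep f ⟨a, h.a_mem_mGrp hk⟩ ≠ f →
    ∀ b ∈ (h.secM hk).imageSub (redKD a P J k), f b = 0

omit [∀ k, Fact (p k).Prime] in
theorem centralize_a (_h : Setup a G r p P n J) {k : ℕ} {u : X} (hu : u ∈ redD a P J k) :
    a * u = u * a :=
  commute_of_mem_centralizer_zpowers hu.2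

theorem engineOf (h : Setup a G r p P n J) {k : ℕ} (hk : k + 1 ≤ J)
    (hkill : h.Kills k (by omega)) :
    EngineData (h.secM (k := k) (by omega)).rep ⟨a, h.a_mem_mGrp (by omega)⟩ r
      ((redQ a P J (k + 1)).subgroupOf (SecAb.grp (redQ a P J k) (redPhi a P J k)))
      ((redE a P J (k + 1)).subgroupOf (SecAb.grp (redQ a P J k) (redPhi a P J k)))
      ((redPhi a P J (k + 1)).subgroupOf (SecAb.grp (redQ a P J k) (redPhi a P J k)))
      (h.omegaRed k (by omega)) ((h.secM (k := k) (by omega)).imageSub (redKD a P J k)) := by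
  have hk' : k ≤ J := by omega
  have hkn : k + 1 ≤ n := le_trans hk h.le
  set M := h.secM hk'
  set S := SecAb.grp (redQ a P J k) (redPhi a P J k)
  have hQS : redQ a P J (k + 1) ≤ S := h.Q_le_mGrp hk
  have hES : redE a P J (k + 1) ≤ S := (h.E_le hk).trans hQS
  refine ⟨h.prime, Subtype.ext h.pow_a, mem_normalizer_subgroupOf (h.aQ hk),
    mem_normalizer_subgroupOf (h.aE hk),
    mem_normalizer_subgroupOf (mem_normalizer_inf (h.aQ hk) (h.tower.conj_tfr hkn)),
    subgroupOf_mono _ (h.E_le hk), fun z hz => (mem_inf.1 (mem_subgroupOf.1 hz)).1, ?_, ?_,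
    fun z hz u hu => ?_, fun u hu v hv => mem_subgroupOf.2 ((h.secM hk).comm _ hu _ hv),
    subgroupOf_le_commutator hES (h.a_mem_mGrp hk') (h.genE hk),
    M.commPart_eq_top hES (h.genQ hk),
    fun f hf => h.omegaRed_tw hk' hf _ fun j hj => h.a_mem_grp (by omega),
    fun u hu f hf => h.omegaRed_tw hk' hf u.2 fun j hj =>
      h.P_le_grp (by omega) hkn (h.Q_le hk hu),
    fun m hm => h.omegaRed_sep hk' (fun j hj => by omega) m hm, fun b hb => ?_, hkill⟩
  · rw [Coprime.card_subgroupOf hQS, Nat.coprime_comm]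
    exact h.card_a ▸ h.coprime_a hkn (h.Q_le hk)
  · exact Coprime.isSolvable_subgroupOf hQS (h.solvable hkn (h.Q_le hk))
  · rw [show z * u = ⁅z, u⁆ * (u * z) by simp only [commutatorElement_def]; group, map_mul,
      (M.rep_eq_one_iff ⁅z, u⁆).2 fun v hv => ?_, one_mul]
    refine mem_inf.2 ⟨commutator_mem_of_normalizes (⁅z, u⁆ : S).2.1 hv,
      tfr_of_linkKer ?_ (h.Q_le hk' hv)⟩
    show ⁅(z : X), (u : X)⁆ ∈ linkKer P (k + 1)
    rw [← commutatorElement_inv]
    exact inv_mem (h.min.commutator_tfr_mem h.tower hkn (h.Q_le hk hu)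
      (mem_inf.1 (mem_subgroupOf.1 hz)).2)
  · obtain ⟨u, hu, huK, rfl⟩ := M.mem_imageSub.1 hb
    exact (M.rep_fix_iff _ hu).2 (by
      rw [commutatorElement_eq_one_iff_mul_comm.2 (h.centralize_a (redKD_le a P J k huK))]
      exact one_mem _)

omit [∀ k, Fact (p k).Prime] in
/-- Fixed classes of a reduced section come from fixed points. -/
theorem exists_D (h : Setup a G r p P n J) {k : ℕ} (hk : k ≤ J) {m : (h.secM hk).Space}
    (hm : (h.secM hk).rep ⟨a, h.a_mem_mGrp hk⟩ m = m) :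
    ∃ u, ∃ hu : u ∈ redQ a P J k, u ∈ redD a P J k ∧ (h.secM hk).vec u hu = m := by
  obtain ⟨u, hu, hua, hum⟩ := (h.secM hk).exists_centralizer (h.a_mem_mGrp hk)
    (h.coprime_a (hk.trans h.le) (h.Q_le hk))
    (h.solvable (hk.trans h.le) (inf_le_left.trans (h.Q_le hk))) hm
  refine ⟨u, hu, mem_inf.2 ⟨hu, mem_centralizer_iff.2 fun b hb => ?_⟩, hum⟩
  obtain ⟨i, rfl⟩ := mem_zpowers_iff.1 hb
  exact ((show Commute a u from hua).zpow_left i).eq

theorem fix_succ (h : Setup a G r p P n J) {k : ℕ} (hk : k + 1 ≤ J) (hkill : h.Kills k (by omega))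
    {x : X} (hx : x ∈ redD a P J (k + 1))
    (hxK : ∀ y ∈ redD a P J k, ⁅x, y⁆ ∈ redKD a P J k) {c : (h.secM (k := k) (by omega)).Space}
    (hc : (h.secM (k := k) (by omega)).rep ⟨a, h.a_mem_mGrp (by omega)⟩ c = c) :
    (h.secM (k := k) (by omega)).rep ⟨x, h.Q_le_mGrp hk hx.1⟩ c = c := by
  have hk' : k ≤ J := by omega
  refine (h.engineOf hk hkill).fix_of_mem (x := ⟨x, h.Q_le_mGrp hk hx.1⟩) hx.1
    (Subtype.ext (h.centralize_a hx).symm) (fun d hd => ?_) hc
  obtain ⟨y, hy, hyD, rfl⟩ := h.exists_D hk' hd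
  rw [(h.secM hk').rep_sub_vec]
  exact (h.secM hk').mem_imageSub.2 ⟨_, _, hxK y hyD, rfl⟩

/-- The fixed classes of `[W, E (k + 1)]` are those of the reduced section. -/
theorem exists_D_of_commPart (h : Setup a G r p P n J) {k : ℕ} (hk : k + 1 ≤ J)
    {v : (h.secP (k := k) (by have := h.le; omega)).Space}
    (hv : v ∈ commPart (h.secP (by have := h.le; omega)).rep
      ((redE a P J (k + 1)).subgroupOf (SecAb.grp (P k) (tfr P k))))
    (hva : (h.secP (k := k) (by have := h.le; omega)).rep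
      ⟨a, h.a_mem_grp (by have := h.le; omega)⟩ v = v) :
    ∃ u, ∃ hu : u ∈ redD a P J k,
      (h.secP (by have := h.le; omega)).vec u (h.Q_le (by omega) hu.1) = v := by
  have hk' : k ≤ J := by omega
  have hkn : k + 1 ≤ n := le_trans hk h.le
  obtain ⟨u, hu, huQ, rfl⟩ := (h.secP (k := k) (by omega)).exists_of_mem_commPart
    ((h.E_le_P hk).trans (h.P_le_grp (Nat.le_succ k) hkn)) hv
  rw [← redQ_of_lt a P (by omega : k < J)] at huQ
  have hfix : (h.secM hk').rep ⟨a, h.a_mem_mGrp hk'⟩ ((h.secM hk').vec u huQ)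
      = (h.secM hk').vec u huQ :=
    ((h.secM hk').rep_fix_iff _ huQ).2 (mem_inf.2
      ⟨commutator_mem_of_normalizes (h.aQ hk') huQ,
        ((h.secP (k := k) (by omega)).rep_fix_iff _ hu).1 hva⟩)
  obtain ⟨c, hc, hcD, hcu⟩ := h.exists_D hk' hfix
  refine ⟨c, hcD, ?_⟩
  rw [(h.secP (k := k) (by omega)).vec_eq_iff]
  exact (mem_inf.1 (((h.secM hk').vec_eq_iff hc huQ).1 hcu)).2

theorem kills (h : Setup a G r p P n J) : ∀ {k : ℕ} (hk : k + 1 ≤ J), h.Kills k (by omega)
  | 0, hk => fun f hf hmov b hb => by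
    obtain ⟨u, hu, huK, rfl⟩ := (h.secM (Nat.zero_le J)).mem_imageSub.1 hb
    rw [((h.secM (Nat.zero_le J)).vec_eq_zero hu).2 huK.2, map_zero]
  | k + 1, hk => fun f hf hmov b hb => by
    have hk' : k + 1 ≤ J := by omega
    have hkn : k + 2 ≤ n := le_trans hk h.le
    obtain ⟨u, hu, huK, rfl⟩ := (h.secM hk').mem_imageSub.1 hb
    have ih := h.kills (k := k) hk'
    obtain ⟨g, hg, rfl⟩ := hf
    set S := SecAb.grp (P k) (tfr P k)
    set M := h.secM hk'
    have hQS : redQ a P J (k + 1) ≤ S := h.Q_le_secP_grp hk'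
    have hmem : redKD a P J (k + 1) ≤
        ((redD a P J (k + 1) ⊓ centMod (redD a P J k) (redKD a P J k)) ⊔
          (redD a P J (k + 1) ⊓ redPhi a P J (k + 1))) := le_rfl
    -- the elements on whose classes `g` vanishes
    let H : Subgroup X :=
      { carrier := {x | ∃ hx : x ∈ redQ a P J (k + 1),
          (g.comp (M.mapSub S hQS)) (M.vec x hx) = 0}
        one_mem' := ⟨one_mem _, by rw [M.vec_one, map_zero]⟩
        mul_mem' := fun {x y} ⟨hx, hx'⟩ ⟨hy, hy'⟩ =>
          ⟨mul_mem hx hy, by rw [M.vec_mul hx hy, map_add, hx', hy', add_zero]⟩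
        inv_mem' := fun {x} ⟨hx, hx'⟩ =>
          ⟨inv_mem hx, by rw [M.vec_inv hx, map_neg, hx', neg_zero]⟩ }
    refine ((hmem.trans (sup_le (fun x hx => ?_) fun x hx => ?_) : _ ≤ H) huK).choose_spec
    swap
    · exact ⟨hx.1.1, by rw [(M.vec_eq_zero hx.1.1).2 hx.2, map_zero]⟩
    refine ⟨hx.1.1, ?_⟩
    rw [LinearMap.comp_apply, M.mapSub_vec]
    have L := h.layer (k := k) hk
    have hgen : (redE a P J (k + 2)).subgroupOf S ≤
        ⁅(redE a P J (k + 2)).subgroupOf S, zpowers (⟨a, h.a_mem_grp (by omega)⟩ : S)⁆ :=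
      subgroupOf_le_commutator ((h.E_le_P hk).trans (h.P_le_grp (by omega) hkn))
        (h.a_mem_grp (by omega)) (h.genE hk)
    refine L.omegaSet_kill hgen (x := ⟨x, hQS hx.1.1⟩) (mem_subgroupOf.2 hx.1.1)
      (Subtype.ext (h.centralize_a hx.1).symm) (fun v hv hva => ?_) hg fun e => hmov ?_
    · rw [commutator_zpowers_subgroupOf hQS (h.a_mem_grp (by omega))] at hv
      obtain ⟨c, hcD, rfl⟩ := h.exists_D_of_commPart hk' hv hva
      have h1 := h.fix_succ hk' ih hx.1 hx.2.2
        (c := (h.secM (k := k) (by omega)).vec c hcD.1)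
        (((h.secM (k := k) (by omega)).rep_fix_iff _ _).2 (by
          rw [commutatorElement_eq_one_iff_mul_comm.2 (h.centralize_a hcD)]; exact one_mem _))
      exact ((h.secP (by omega)).rep_fix_iff _ _).2
        (mem_inf.1 (((h.secM (k := k) (by omega)).rep_fix_iff _ _).1 h1)).2
    · refine LinearMap.ext fun m => ?_
      rw [tw_apply, LinearMap.comp_apply, LinearMap.comp_apply,
        SecAb.mapSub_rep (hgS := h.a_mem_grp (by omega))]
      exact LinearMap.congr_fun e _

/-- The engine at every level below the top. -/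
theorem engine (h : Setup a G r p P n J) {k : ℕ} (hk : k + 1 ≤ J) :
    EngineData (h.secM (k := k) (by omega)).rep ⟨a, h.a_mem_mGrp (by omega)⟩ r
      ((redQ a P J (k + 1)).subgroupOf (SecAb.grp (redQ a P J k) (redPhi a P J k)))
      ((redE a P J (k + 1)).subgroupOf (SecAb.grp (redQ a P J k) (redPhi a P J k)))
      ((redPhi a P J (k + 1)).subgroupOf (SecAb.grp (redQ a P J k) (redPhi a P J k)))
      (h.omegaRed k (by omega)) ((h.secM (k := k) (by omega)).imageSub (redKD a P J k)) :=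
  h.engineOf hk (h.kills hk)

/-- `a` has fixed points in every reduced section with a layer. -/
theorem D_not_le_phi (h : Setup a G r p P n J) {k : ℕ} (hk : k + 1 ≤ J)
    (hlay : k + 2 ≤ J ∨ J < n) : ¬ redD a P J k ≤ redPhi a P J k := by
  intro hle
  have hk' : k ≤ J := by omega
  have hkn : k + 1 ≤ n := le_trans hk h.le
  set S := SecAb.grp (P k) (tfr P k)
  set sP := h.secP (k := k) (by omega)
  set E := (redE a P J (k + 1)).subgroupOf S
  have hQS : redQ a P J (k + 1) ≤ S := h.Q_le_secP_grp hk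
  have hES : redE a P J (k + 1) ≤ S := (h.E_le hk).trans hQS
  set W := commPart sP.rep E
  have hfa : ∀ x ∈ W, sP.rep ⟨a, h.a_mem_grp (by omega)⟩ x = x → x = 0 := fun x hx hxa => by
    obtain ⟨c, hc, rfl⟩ := h.exists_D_of_commPart hk hx hxa
    exact (sP.vec_eq_zero _).2 (mem_inf.1 (hle hc)).2
  have hcard : (Nat.card E : ZMod (p k)) ≠ 0 := by
    rw [Coprime.card_subgroupOf hES]
    exact natCast_card_ne_zero (h.tower.prime _ hkn)
      (natCast_ne_zero (h.tower.prime _ hkn) (h.tower.ne k (by omega)))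
      ((h.tower.isP _ hkn).to_le (h.E_le_P hk))
  have hU : ∀ g : S, g ∈ stabSub sP.rep (⊥ : Submodule (ZMod (p k)) sP.Space) := fun g x hx => by
    rw [(Submodule.mem_bot _).1 hx, map_zero]
    exact zero_mem _
  have hWQ : (redQ a P J (k + 1)).subgroupOf S ≤ stabSub sP.rep W := fun g hg x hx =>
    map_mem_commPart _ (mem_normalizer_subgroupOf
      (normalizer_commutator_ge_left (redQ a P J (k + 1)) (zpowers a) hg)) hx
  have hWa : (⟨a, h.a_mem_grp (by omega)⟩ : S) ∈ stabSub sP.rep W := fun x hx =>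
    map_mem_commPart _ (mem_normalizer_subgroupOf (h.aE hk)) hx
  have hW : W ≤ ⊥ := by
    by_cases hk2 : k + 2 ≤ J
    · refine (h.layer hk2).le_of_free (subgroupOf_le_commutator
        ((h.E_le_P hk2).trans (h.P_le_grp (by omega) (le_trans hk2 h.le))) (h.a_mem_grp (by omega))
        (h.genE hk2)) hWQ (fun g _ => hU g) hWa (hU _) (fun x hx hxa => ?_) fun x hx hxE => ?_
      · exact (Submodule.mem_bot _).2 (hfa x hx (sub_eq_zero.1 ((Submodule.mem_bot _).1 hxa)))
      · refine (Submodule.mem_bot _).2 (eq_zero_of_fix_of_comm _ hcard (fun g hg =>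
          sub_eq_zero.1 ((Submodule.mem_bot _).1 (hxE g ?_))) hx)
        rw [commutator_zpowers_subgroupOf hQS (h.a_mem_grp (by omega))]
        exact hg
    · have hJ : k + 1 = J := by omega
      refine (h.layerTop hJ (hlay.resolve_left hk2)).le_of_free_top
        (fun y hy => Subtype.ext ?_) ?_ hWQ (fun g _ => hU g) hWa (hU _)
        (fun x hx hxa => ?_) fun x hx hxQ => ?_
      · exact (commute_of_mem_centralizer_zpowers (h.up (k + 2) (by omega)
          (by have := hlay.resolve_left hk2; omega) hy)).symm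
      · refine subgroupOf_le_commutator hQS (h.a_mem_grp (by omega)) ?_
        rw [hJ, redQ_top, ← redQ_top a P J]
        exact le_of_eq_of_le (redQ_top a P J) (h.E_top.ge.trans le_rfl)
      · exact (Submodule.mem_bot _).2 (hfa x hx (sub_eq_zero.1 ((Submodule.mem_bot _).1 hxa)))
      · exact (Submodule.mem_bot _).2 (eq_zero_of_fix_of_comm _ hcard (fun g hg =>
          sub_eq_zero.1 ((Submodule.mem_bot _).1 (hxQ g (h.E_le hk hg)))) hx)
  refine h.E_not_le hk fun e he => mem_sup_right ?_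
  refine h.mem_linkKer_of_tfr hkn (h.E_le_P hk he) fun u hu => ?_
  refine (sP.rep_fix_iff ⟨e, hES he⟩ hu).1 (sub_eq_zero.1 ((Submodule.mem_bot _).1 (hW ?_)))
  exact sub_mem_commPart _ (show (⟨e, hES he⟩ : S) ∈ E from he) _

/-- **The fixed points survive their kernels.** -/
theorem D_not_le_KD (h : Setup a G r p P n J) {k : ℕ} (hk : k + 1 ≤ J)
    (hlay : k + 2 ≤ J ∨ J < n) : ¬ redD a P J k ≤ redKD a P J k := by
  intro hle
  have hk' : k ≤ J := by omega
  refine h.D_not_le_phi hk hlay fun u hu => ?_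
  refine ((h.secM hk').vec_eq_zero hu.1).1 ((h.engine hk).eq_zero_of_all_mem (fun m hm => ?_) ?_)
  · obtain ⟨c, hc, hcD, rfl⟩ := h.exists_D hk' hm
    exact (h.secM hk').mem_imageSub.2 ⟨c, hc, hle hcD, rfl⟩
  · refine ((h.secM hk').rep_fix_iff _ hu.1).2 ?_
    rw [commutatorElement_eq_one_iff_mul_comm.2 (h.centralize_a hu)]
    exact one_mem _

/-- **The engine at the top**: an operator above `J` that moves the fixed points under `J` only
into the kernel fixes them. -/
theorem fix_top (h : Setup a G r p P n J) {j : ℕ} (hj : j + 1 = J) (hJn : J < n)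
    (hII : P (j + 2) ≤ centMod (redD a P J j) (redKD a P J j)) {y : X} (hy : y ∈ P (j + 2))
    {u : X} (hu : u ∈ P j) (hua : ⁅a, u⁆ ∈ tfr P j) : ⁅y, u⁆ ∈ tfr P j := by
  have hjJ : j + 1 ≤ J := hj.le
  have hj' : j ≤ J := by omega
  have hln : j + 2 ≤ n := by omega
  set M := h.secM hj'
  set S := SecAb.grp (redQ a P J j) (redPhi a P J j)
  have huQ : u ∈ redQ a P J j := (h.Q_pred hj).symm ▸ hu
  have hcy : y ∈ centralizer (zpowers a : Set X) := h.up _ (by omega) hln hy
  have hyS : y ∈ S := mem_mGrp (h.P_stab hj' (by omega) hln hy)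
  have hQJ : redQ a P J (j + 1) = P (j + 1) := by rw [hj, redQ_top]
  have hES : redE a P J (j + 1) ≤ S := (h.E_le hjJ).trans (h.Q_le_mGrp hjJ)
  suffices hfix : M.rep ⟨y, hyS⟩ (M.vec u huQ) = M.vec u huQ from
    (mem_inf.1 ((M.rep_fix_iff _ huQ).1 hfix)).2
  have hcop : (orderOf y).Coprime r ∧
      (orderOf y).Coprime (Nat.card (redE a P J (j + 1))) := by
    refine ⟨?_, ?_⟩
    · exact orderOf_coprime_of_isPGroup (h.tower.prime _ hln) h.prime (h.p_ne_r hln)
        (h.tower.isP _ hln) hy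
    · refine Nat.Coprime.coprime_dvd_left ?_
        (h.coprime_succ (k := j + 1) (by omega) (le_refl (P (j + 2))) (h.E_le_P hjJ))
      exact Subgroup.orderOf_dvd_natCard _ hy
  refine (h.engine hjJ).fix_of_operator (y := ⟨y, hyS⟩) ?_
    (Subtype.ext (commute_of_mem_centralizer_zpowers hcy).symm) (fun z hz => ?_)
    (fun f hf => h.omegaRed_tw hj' hf _ fun i hi => h.P_le_grp (by omega) hln hy) ?_ ?_
    (fun c hc => ?_) ?_
  · refine mem_normalizer_subgroupOf ?_
    show y ∈ normalizer (redE a P J (j + 1) : Set X)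
    rw [hj, h.E_top]
    exact h.tower.norm J (j + 2) (by omega) hln hy
  · rw [show (⟨y, hyS⟩ : S) * z = ⁅(⟨y, hyS⟩ : S), z⁆ * (z * ⟨y, hyS⟩) by
      simp only [commutatorElement_def]; group, map_mul,
      (M.rep_eq_one_iff ⁅(⟨y, hyS⟩ : S), z⁆).2 fun v hv => ?_, one_mul]
    exact mem_inf.2 ⟨commutator_mem_of_normalizes (⁅(⟨y, hyS⟩ : S), z⁆).2.1 hv,
      tfr_of_linkKer (h.min.centralize_tfr h.tower (by omega) hy
        (mem_inf.1 (mem_subgroupOf.1 hz)).2) (h.Q_le hj' hv)⟩
  · rw [Subgroup.orderOf_mk]; exact hcop.1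
  · rw [Subgroup.orderOf_mk, Coprime.card_subgroupOf hES]; exact hcop.2
  · obtain ⟨d, hd, hdD, rfl⟩ := h.exists_D hj' hc
    rw [M.rep_sub_vec]
    exact M.mem_imageSub.2 ⟨_, _, (hII hy).2 d hdD, rfl⟩
  · exact (M.rep_fix_iff _ huQ).2 (mem_inf.2 ⟨commutator_mem_of_normalizes (h.aQ hj') huQ, hua⟩)

end Setup

end CfsgLib.CoprimeHeight
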