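import Cfsg.Agent.Lib.CoprimeHeight.SecMap

/-!
# The reduced tower under the last moved layer

`Q J = P J`, `Q k = [P k, E (k + 1)]`, `E k = [Q k, a]`; the fixed points `D k` of `a` in `Q k` and
their kernels `KD k`.
-/

set_option autoImplicit false

namespace CfsgLib.CoprimeHeight

open Subgroup CfsgLib.FixedFree
open scoped commutatorElement

universe u

variable {X : Type u} [Group X]

/-- `Q (J - d)`. -/
def redAux (a : X) (P : ℕ → Subgroup X) (J : ℕ) : ℕ → Subgroup X
  | 0 => P J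
  | d + 1 => ⁅P (J - (d + 1)), ⁅redAux a P J d, zpowers a⁆⁆

/-- The reduced terms. -/
def redQ (a : X) (P : ℕ → Subgroup X) (J k : ℕ) : Subgroup X := redAux a P J (J - k)

/-- Their moved parts. -/
def redE (a : X) (P : ℕ → Subgroup X) (J k : ℕ) : Subgroup X := ⁅redQ a P J k, zpowers a⁆

/-- The trivial parts of the reduced terms. -/
def redPhi (a : X) (P : ℕ → Subgroup X) (J k : ℕ) : Subgroup X := redQ a P J k ⊓ tfr P k

/-- The fixed points of `a`. -/
def redD (a : X) (P : ℕ → Subgroup X) (J k : ℕ) : Subgroup X :=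
  redQ a P J k ⊓ centralizer (zpowers a : Set X)

/-- The kernels on the fixed points. -/
def redKD (a : X) (P : ℕ → Subgroup X) (J : ℕ) : ℕ → Subgroup X
  | 0 => redD a P J 0 ⊓ redPhi a P J 0
  | k + 1 => (redD a P J (k + 1) ⊓ centMod (redD a P J k) (redKD a P J k)) ⊔
      (redD a P J (k + 1) ⊓ redPhi a P J (k + 1))

theorem redQ_top (a : X) (P : ℕ → Subgroup X) (J : ℕ) : redQ a P J J = P J := by
  rw [redQ, Nat.sub_self]; rfl

theorem redQ_of_lt (a : X) (P : ℕ → Subgroup X) {J k : ℕ} (hk : k < J) :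
    redQ a P J k = ⁅P k, redE a P J (k + 1)⁆ := by
  rw [redQ, redE, redQ, show J - k = J - (k + 1) + 1 by omega, redAux,
    show J - (J - (k + 1) + 1) = k by omega]

theorem redKD_le (a : X) (P : ℕ → Subgroup X) (J : ℕ) :
    ∀ k, redKD a P J k ≤ redD a P J k
  | 0 => inf_le_left
  | _ + 1 => sup_le inf_le_left inf_le_left

theorem redPhi_le_redKD (a : X) (P : ℕ → Subgroup X) (J : ℕ) :
    ∀ k, redD a P J k ⊓ redPhi a P J k ≤ redKD a P J k
  | 0 => le_rfl
  | _ + 1 => le_sup_right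

theorem mem_normalizer_redD {a : X} {P : ℕ → Subgroup X} {J k : ℕ} {g : X}
    (hg : g ∈ centralizer (zpowers a : Set X)) (hQ : g ∈ normalizer (redQ a P J k : Set X)) :
    g ∈ normalizer (redD a P J k : Set X) :=
  mem_normalizer_inf hQ (le_normalizer hg)

theorem mem_normalizer_redKD {a : X} {P : ℕ → Subgroup X} {J : ℕ} {g : X}
    (hg : g ∈ centralizer (zpowers a : Set X)) : ∀ {k : ℕ},
    (∀ i ≤ k, g ∈ normalizer (redQ a P J i : Set X) ∧ g ∈ normalizer (tfr P i : Set X)) →
    g ∈ normalizer (redKD a P J k : Set X)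
  | 0, h => mem_normalizer_inf (mem_normalizer_redD hg (h 0 le_rfl).1)
      (mem_normalizer_inf (h 0 le_rfl).1 (h 0 le_rfl).2)
  | k + 1, h => mem_normalizer_sup
      (mem_normalizer_inf (mem_normalizer_redD hg (h _ le_rfl).1)
        (mem_normalizer_centMod (mem_normalizer_redD hg (h k (by omega)).1)
          (mem_normalizer_redKD hg fun i hi => h i (by omega))))
      (mem_normalizer_inf (mem_normalizer_redD hg (h _ le_rfl).1)
        (mem_normalizer_inf (h _ le_rfl).1 (h _ le_rfl).2))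

variable [Finite X]

/-- The standing data: a minimal tower, `J` its last moved layer. -/
structure Setup (a : X) (G : Subgroup X) (r : ℕ) (p : ℕ → ℕ) (P : ℕ → Subgroup X) (n J : ℕ) :
    Prop where
  tower : IsTower a G p P n
  min : IsMinimal a G p P n
  prime : r.Prime
  order : orderOf a = r
  cop : (Nat.card (zpowers a)).Coprime (Nat.card G)
  le : J ≤ n
  moved : Moved a P J
  up : ∀ l, J < l → l ≤ n → P l ≤ centralizer (zpowers a : Set X)

namespace Setup

variable {a : X} {G : Subgroup X} {r : ℕ} {p : ℕ → ℕ} {P : ℕ → Subgroup X} {n J : ℕ}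

theorem pow_a (h : Setup a G r p P n J) : a ^ r = 1 := h.order ▸ pow_orderOf_eq_one a

theorem card_a (h : Setup a G r p P n J) : Nat.card (zpowers a) = r := by
  rw [Nat.card_zpowers, h.order]

theorem coprime_a (h : Setup a G r p P n J) {k : ℕ} (hk : k ≤ n) {S : Subgroup X} (hS : S ≤ P k) :
    (Nat.card (zpowers a)).Coprime (Nat.card S) :=
  h.cop.coprime_dvd_right (card_dvd_of_le (hS.trans (h.tower.le k hk)))

theorem p_ne_r (h : Setup a G r p P n J) {k : ℕ} (hk : k ≤ n) : p k ≠ r := by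
  intro e
  have := Fact.mk (h.tower.prime k hk)
  obtain ⟨i, hi⟩ := IsPGroup.iff_card.1 (h.tower.isP k hk)
  have h1 := h.coprime_a hk (le_refl (P k))
  rw [h.card_a, hi, ← e] at h1
  rcases Nat.eq_zero_or_pos i with rfl | hi0
  · rw [pow_zero] at hi
    refine h.tower.not_le_linkKer hk ?_
    rw [Subgroup.card_eq_one.1 hi]
    exact bot_le
  · exact (h.tower.prime k hk).ne_one
      ((Nat.coprime_self _).1 ((Nat.coprime_pow_right_iff hi0 _ _).1 h1))

theorem solvable (h : Setup a G r p P n J) {k : ℕ} (hk : k ≤ n) {S : Subgroup X} (hS : S ≤ P k) :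
    Group.IsSolvable S :=
  isSolvable_of_isPGroup (h.tower.prime k hk) ((h.tower.isP k hk).to_le hS)

theorem coprime_succ (h : Setup a G r p P n J) {k : ℕ} (hk : k < n) {S T : Subgroup X}
    (hS : S ≤ P (k + 1)) (hT : T ≤ P k) : (Nat.card S).Coprime (Nat.card T) := by
  have := Fact.mk (h.tower.prime k hk.le)
  obtain ⟨i, hi⟩ := IsPGroup.iff_card.1 ((h.tower.isP k hk.le).to_le hT)
  rw [hi]
  exact ((h.tower.coprime_card hk).coprime_dvd_left (card_dvd_of_le hS)).pow_right i

theorem basic (h : Setup a G r p P n J) : ∀ {k : ℕ}, k ≤ J →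
    redQ a P J k ≤ P k ∧ a ∈ normalizer (redQ a P J k : Set X) := by
  suffices hd : ∀ d k, k + d = J → redQ a P J k ≤ P k ∧ a ∈ normalizer (redQ a P J k : Set X) from
    fun {k} hk => hd (J - k) k (by omega)
  intro d
  induction d with
  | zero =>
    rintro k rfl
    rw [add_zero, redQ_top]
    exact ⟨le_rfl, h.tower.conj _ h.le⟩
  | succ d ih =>
    intro k hk
    have hJ := h.le
    obtain ⟨h1, h2⟩ := ih (k + 1) (by omega)
    have hE : redE a P J (k + 1) ≤ P (k + 1) :=
      (le_normalizer_iff_commutator_le_left.1 (zpowers_le.2 h2)).trans h1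
    rw [redQ_of_lt a P (by omega : k < J)]
    exact ⟨le_normalizer_iff_commutator_le_left.1
      (hE.trans (h.tower.norm k (k + 1) (by omega) (by omega))),
      mem_normalizer_commutator (h.tower.conj k (by omega))
        (mem_normalizer_commutator h2 (le_normalizer (mem_zpowers a)))⟩

theorem Q_le (h : Setup a G r p P n J) {k : ℕ} (hk : k ≤ J) : redQ a P J k ≤ P k := (h.basic hk).1

theorem aQ (h : Setup a G r p P n J) {k : ℕ} (hk : k ≤ J) :
    a ∈ normalizer (redQ a P J k : Set X) := (h.basic hk).2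

theorem E_le (h : Setup a G r p P n J) {k : ℕ} (hk : k ≤ J) : redE a P J k ≤ redQ a P J k :=
  le_normalizer_iff_commutator_le_left.1 (zpowers_le.2 (h.aQ hk))

theorem E_le_P (h : Setup a G r p P n J) {k : ℕ} (hk : k ≤ J) : redE a P J k ≤ P k :=
  (h.E_le hk).trans (h.Q_le hk)

theorem aE (h : Setup a G r p P n J) {k : ℕ} (hk : k ≤ J) :
    a ∈ normalizer (redE a P J k : Set X) :=
  mem_normalizer_commutator (h.aQ hk) (le_normalizer (mem_zpowers a))

theorem E_top (h : Setup a G r p P n J) : redE a P J J = P J := by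
  rw [redE, redQ_top]
  exact h.min.commutator_zpowers_eq h.tower h.cop h.le h.moved h.up

theorem Q_pred (h : Setup a G r p P n J) {j : ℕ} (hj : j + 1 = J) : redQ a P J j = P j := by
  rw [redQ_of_lt a P (by omega : j < J), hj, h.E_top, ← hj]
  exact h.min.commutator_eq h.tower (by have := h.le; omega)

theorem genE (h : Setup a G r p P n J) {k : ℕ} (hk : k ≤ J) :
    redE a P J k ≤ ⁅redE a P J k, zpowers a⁆ :=
  (Coprime.commutator_commutator_eq (zpowers_le.2 (h.aQ hk))
    (h.coprime_a (hk.trans h.le) (h.Q_le hk))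
    (Or.inr (h.solvable (hk.trans h.le) (h.Q_le hk)))).ge

theorem genQ (h : Setup a G r p P n J) {k : ℕ} (hk : k < J) :
    redQ a P J k ≤ ⁅redQ a P J k, redE a P J (k + 1)⁆ := by
  have hJ := h.le
  rw [redQ_of_lt a P hk]
  exact (Coprime.commutator_commutator_eq
    ((h.E_le_P hk).trans (h.tower.norm k (k + 1) (by omega) (by omega)))
    (h.coprime_succ (by omega) (h.E_le_P hk) le_rfl)
    (Or.inr (h.solvable (by omega) le_rfl))).ge

theorem Q_le_normalizer (h : Setup a G r p P n J) {k : ℕ} (hk : k < J) :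
    redQ a P J (k + 1) ≤ normalizer (redQ a P J k : Set X) := fun x hx => by
  have hJ := h.le
  rw [redQ_of_lt a P hk]
  exact mem_normalizer_commutator (h.tower.norm k (k + 1) (by omega) (by omega) (h.Q_le hk hx))
    (normalizer_commutator_ge_left (redQ a P J (k + 1)) (zpowers a) hx)

theorem mem_normalizer_Q (_h : Setup a G r p P n J) {g : X}
    (hg : g ∈ centralizer (zpowers a : Set X)) {m : ℕ} (hm : m ≤ J)
    (hgQ : g ∈ normalizer (redQ a P J m : Set X)) (hgP : ∀ i < m, g ∈ normalizer (P i : Set X)) :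
    ∀ {k : ℕ}, k ≤ m → g ∈ normalizer (redQ a P J k : Set X) := by
  suffices hd : ∀ d k, k + d = m → g ∈ normalizer (redQ a P J k : Set X) from
    fun {k} hk => hd (m - k) k (by omega)
  intro d
  induction d with
  | zero => rintro k rfl; exact hgQ
  | succ d ih =>
    intro k hk
    rw [redQ_of_lt a P (by omega : k < J)]
    exact mem_normalizer_commutator (hgP k (by omega))
      (mem_normalizer_commutator (ih (k + 1) (by omega)) (centralizer_le_normalizer _ hg))

/-- Fixed points normalise everything below. -/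
theorem D_stab (h : Setup a G r p P n J) {k l : ℕ} (hkl : k ≤ l) (hl : l ≤ J) {g : X}
    (hg : g ∈ redD a P J l) :
    g ∈ normalizer (redQ a P J k : Set X) ∧ g ∈ normalizer (tfr P k : Set X) :=
  ⟨h.mem_normalizer_Q hg.2 hl (le_normalizer hg.1)
    (fun i hi => h.tower.norm i l hi.le (hl.trans h.le) (h.Q_le hl hg.1)) hkl,
    h.tower.le_normalizer_tfr hkl (hl.trans h.le) (h.Q_le hl hg.1)⟩

/-- So do the terms above `J`. -/
theorem P_stab (h : Setup a G r p P n J) {k l : ℕ} (hk : k ≤ J) (hl : J < l) (hln : l ≤ n) {g : X}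
    (hg : g ∈ P l) :
    g ∈ normalizer (redQ a P J k : Set X) ∧ g ∈ normalizer (tfr P k : Set X) :=
  ⟨h.mem_normalizer_Q (h.up l hl hln hg) le_rfl
    (by rw [redQ_top]; exact h.tower.norm J l hl.le hln hg)
    (fun i hi => h.tower.norm i l (by omega) hln hg) hk,
    h.tower.le_normalizer_tfr (by omega) hln hg⟩

theorem D_le_normalizer (h : Setup a G r p P n J) {k l : ℕ} (hkl : k ≤ l) (hl : l ≤ J) :
    redD a P J l ≤ normalizer (redD a P J k : Set X) ⊓ normalizer (redKD a P J k : Set X) :=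
  fun _ hg => ⟨mem_normalizer_redD hg.2 (h.D_stab hkl hl hg).1,
    mem_normalizer_redKD hg.2 fun _ hi => h.D_stab (hi.trans hkl) hl hg⟩

theorem P_le_normalizer (h : Setup a G r p P n J) {k l : ℕ} (hk : k ≤ J) (hl : J < l)
    (hln : l ≤ n) :
    P l ≤ normalizer (redD a P J k : Set X) ⊓ normalizer (redKD a P J k : Set X) :=
  fun _ hg => ⟨mem_normalizer_redD (h.up l hl hln hg) (h.P_stab hk hl hln hg).1,
    mem_normalizer_redKD (h.up l hl hln hg) fun _ hi => h.P_stab (hi.trans hk) hl hln hg⟩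

theorem a_le_normalizer (h : Setup a G r p P n J) {k : ℕ} (hk : k ≤ J) :
    a ∈ normalizer (redD a P J k : Set X) ∧ a ∈ normalizer (redKD a P J k : Set X) := by
  have ha : a ∈ centralizer (zpowers a : Set X) := mem_centralizer_iff.2 fun b hb => by
    obtain ⟨i, rfl⟩ := mem_zpowers_iff.1 hb
    exact (Commute.zpow_self a i).eq
  exact ⟨mem_normalizer_redD ha (h.aQ hk), mem_normalizer_redKD ha fun i hi =>
    ⟨h.aQ (hi.trans hk), h.tower.conj_tfr ((hi.trans hk).trans h.le)⟩⟩

/-- Membership in the next kernel. -/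
theorem mem_KD_succ (h : Setup a G r p P n J) {k : ℕ} (hk : k < J) {x : X}
    (hx : x ∈ redD a P J (k + 1)) (hxy : ∀ y ∈ redD a P J k, ⁅x, y⁆ ∈ redKD a P J k) :
    x ∈ redKD a P J (k + 1) :=
  mem_sup_left (mem_inf.2 ⟨hx, (h.D_le_normalizer (Nat.le_succ k) hk hx).2, hxy⟩)

/-- The kernel of the link, as the kernel on the elementary section. -/
theorem mem_linkKer_of_tfr (h : Setup a G r p P n J) {k : ℕ} (hk : k < n) {x : X}
    (hx : x ∈ P (k + 1)) (hxy : ∀ u ∈ P k, ⁅x, u⁆ ∈ tfr P k) : x ∈ linkKer P (k + 1) := by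
  rw [linkKer_succ]
  exact ⟨hx, h.tower.le_normalizer_linkKer (Nat.le_succ k) hk hx, fun u hu =>
    h.tower.step hk hx hu (h.min.centralize_tfr h.tower hk hx (hxy u hu))⟩

omit [Finite X] in
theorem tfr_of_linkKer {k : ℕ} {x u : X} (hx : x ∈ linkKer P (k + 1)) (hu : u ∈ P k) :
    ⁅x, u⁆ ∈ tfr P k := by
  rw [linkKer_succ] at hx
  exact mem_sup_right (hx.2.2 u hu)

/-- The section `P k / tfr P k`. -/
theorem secP (h : Setup a G r p P n J) {k : ℕ} (hk : k ≤ n) : SecAb (p k) (P k) (tfr P k) :=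
  ⟨tfr_le P k, h.tower.le_normalizer_tfr le_rfl hk, fun _ hu _ hv => h.tower.commutator_mem_tfr hk hu hv,
    fun _ hu => h.tower.pow_mem_tfr hk hu⟩

/-- The section `Q k / Φ k`. -/
theorem secM (h : Setup a G r p P n J) {k : ℕ} (hk : k ≤ J) :
    SecAb (p k) (redQ a P J k) (redPhi a P J k) :=
  ⟨inf_le_left, fun _ hx => mem_normalizer_inf (le_normalizer hx)
      (h.tower.le_normalizer_tfr le_rfl (hk.trans h.le) (h.Q_le hk hx)),
    fun _ hu _ hv => mem_inf.2 ⟨commutator_mem_of_normalizes (le_normalizer hu) hv,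
      h.tower.commutator_mem_tfr (hk.trans h.le) (h.Q_le hk hu) (h.Q_le hk hv)⟩,
    fun _ hu => mem_inf.2 ⟨pow_mem hu _, h.tower.pow_mem_tfr (hk.trans h.le) (h.Q_le hk hu)⟩⟩

theorem P_le_grp (h : Setup a G r p P n J) {k l : ℕ} (hkl : k ≤ l) (hl : l ≤ n) :
    P l ≤ SecAb.grp (P k) (tfr P k) :=
  le_inf (h.tower.norm k l hkl hl) (h.tower.le_normalizer_tfr hkl hl)

theorem a_mem_grp (h : Setup a G r p P n J) {k : ℕ} (hk : k ≤ n) :
    a ∈ SecAb.grp (P k) (tfr P k) :=
  ⟨h.tower.conj k hk, h.tower.conj_tfr hk⟩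

theorem mem_mGrp {k : ℕ} {g : X}
    (hg : g ∈ normalizer (redQ a P J k : Set X) ∧ g ∈ normalizer (tfr P k : Set X)) :
    g ∈ SecAb.grp (redQ a P J k) (redPhi a P J k) :=
  ⟨hg.1, mem_normalizer_inf hg.1 hg.2⟩

theorem Q_le_mGrp (h : Setup a G r p P n J) {k : ℕ} (hk : k < J) :
    redQ a P J (k + 1) ≤ SecAb.grp (redQ a P J k) (redPhi a P J k) := fun x hx =>
  mem_mGrp ⟨h.Q_le_normalizer hk hx,
    h.tower.le_normalizer_tfr (Nat.le_succ k) (le_trans hk h.le) (h.Q_le hk hx)⟩

theorem a_mem_mGrp (h : Setup a G r p P n J) {k : ℕ} (hk : k ≤ J) :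
    a ∈ SecAb.grp (redQ a P J k) (redPhi a P J k) :=
  mem_mGrp ⟨h.aQ hk, h.tower.conj_tfr (hk.trans h.le)⟩

variable [∀ k, Fact (p k).Prime]

theorem natCast_ne_zero {q : ℕ} {k : ℕ} (hq : q.Prime) (hqk : p k ≠ q) : (q : ZMod (p k)) ≠ 0 := by
  intro e
  rw [ZMod.natCast_eq_zero_iff] at e
  exact hqk ((Nat.prime_dvd_prime_iff_eq (Fact.out : (p k).Prime) hq).1 e)

/-- A layer of the tower. -/
theorem layerOf (h : Setup a G r p P n J) {k : ℕ} (hk : k + 2 ≤ n) {Q E' : Subgroup X}
    (hQP : Q ≤ P (k + 1)) (haQ : a ∈ normalizer (Q : Set X)) (hEP : E' ≤ P (k + 2))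
    (haE' : a ∈ normalizer (E' : Set X)) (hEQ : E' ≤ normalizer (Q : Set X))
    (hgen : Q ≤ ⁅Q, E'⁆) :
    Layer (h.secP (k := k) (by omega)).rep ⟨a, h.a_mem_grp (by omega)⟩ r (p (k + 1)) (p (k + 2))
      (Q.subgroupOf (SecAb.grp (P k) (tfr P k)))
      ((Q ⊓ tfr P (k + 1)).subgroupOf (SecAb.grp (P k) (tfr P k)))
      (E'.subgroupOf (SecAb.grp (P k) (tfr P k))) := by
  set S := SecAb.grp (P k) (tfr P k)
  have hQS : Q ≤ S := hQP.trans (h.P_le_grp (Nat.le_succ k) (by omega))
  have hES : E' ≤ S := hEP.trans (h.P_le_grp (by omega) hk)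
  set ρ := (h.secP (k := k) (by omega)).rep
  have htriv : ∀ g : S, (g : X) ∈ linkKer P (k + 1) → ρ g = 1 := fun g hg =>
    ((h.secP (by omega)).rep_eq_one_iff g).2 fun u hu => tfr_of_linkKer hg hu
  refine ⟨h.prime, Subtype.ext h.pow_a, h.tower.prime _ (by omega),
    ((h.tower.isP _ (by omega)).to_le hQP).of_equiv (subgroupOfEquivOfLe hQS).symm,
    natCast_ne_zero (h.tower.prime _ (by omega)) (h.tower.ne k (by omega)),
    natCast_ne_zero h.prime (h.p_ne_r (by omega)), h.p_ne_r (by omega),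
    mem_normalizer_subgroupOf haQ,
    mem_normalizer_subgroupOf (mem_normalizer_inf haQ (h.tower.conj_tfr (by omega))),
    fun z hz => (mem_inf.1 (mem_subgroupOf.1 hz)).1,
    fun u hu => mem_normalizer_subgroupOf (mem_normalizer_inf (le_normalizer hu)
      (h.tower.le_normalizer_tfr le_rfl (by omega) (hQP hu))),
    fun u hu v hv => mem_subgroupOf.2 (mem_inf.2 ⟨commutator_mem_of_normalizes (le_normalizer hu) hv,
      h.tower.commutator_mem_tfr (by omega) (hQP hu) (hQP hv)⟩),
    fun u hu => mem_subgroupOf.2 (mem_inf.2 ⟨pow_mem hu _, h.tower.pow_mem_tfr (by omega) (hQP hu)⟩),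
    fun z hz u hu => ?_, h.tower.prime _ hk,
    ((h.tower.isP _ hk).to_le hEP).of_equiv (subgroupOfEquivOfLe hES).symm,
    (h.tower.ne (k + 1) (by omega)).symm, h.p_ne_r hk, mem_normalizer_subgroupOf haE',
    fun e he => mem_normalizer_subgroupOf (hEQ he),
    fun e he => mem_normalizer_subgroupOf (mem_normalizer_inf (hEQ he)
      (h.tower.le_normalizer_tfr (Nat.le_succ _) hk (hEP he))),
    fun e he z hz => ?_, ?_⟩
  · rw [show z * u = ⁅z, u⁆ * (u * z) by simp only [commutatorElement_def]; group, map_mul,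
      htriv ⁅z, u⁆ ?_, one_mul]
    show ⁅(z : X), (u : X)⁆ ∈ linkKer P (k + 1)
    rw [← commutatorElement_inv]
    exact inv_mem (h.min.commutator_tfr_mem h.tower (by omega) (hQP hu)
      (mem_inf.1 (mem_subgroupOf.1 hz)).2)
  · rw [show e * z * e⁻¹ = ⁅e, z⁆ * z by simp only [commutatorElement_def]; group, map_mul,
      htriv ⁅e, z⁆ ?_, one_mul]
    exact h.min.centralize_tfr h.tower (by omega) (hEP he) (mem_inf.1 (mem_subgroupOf.1 hz)).2
  · rw [commutator_subgroupOf hQS hES]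
    exact subgroupOf_mono _ hgen

/-- The layer below a moved layer. -/
theorem layer (h : Setup a G r p P n J) {k : ℕ} (hk : k + 2 ≤ J) :
    Layer (h.secP (k := k) (by have := h.le; omega)).rep ⟨a, h.a_mem_grp (by have := h.le; omega)⟩ r
      (p (k + 1)) (p (k + 2))
      ((redQ a P J (k + 1)).subgroupOf (SecAb.grp (P k) (tfr P k)))
      ((redPhi a P J (k + 1)).subgroupOf (SecAb.grp (P k) (tfr P k)))
      ((redE a P J (k + 2)).subgroupOf (SecAb.grp (P k) (tfr P k))) :=
  h.layerOf (le_trans hk h.le) (h.Q_le (by omega)) (h.aQ (by omega)) (h.E_le_P hk) (h.aE hk)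
    (fun e he => by
      rw [redQ_of_lt a P (by omega : k + 1 < J)]
      exact mem_normalizer_commutator
        (h.tower.norm (k + 1) (k + 2) (by omega) (le_trans hk h.le) (h.E_le_P hk he))
        (le_normalizer he))
    (h.genQ (by omega))

/-- The layer below the last moved one. -/
theorem layerTop (h : Setup a G r p P n J) {j : ℕ} (hj : j + 1 = J) (hJn : J < n) :
    Layer (h.secP (k := j) (by omega)).rep ⟨a, h.a_mem_grp (by omega)⟩ r (p (j + 1)) (p (j + 2))
      ((redQ a P J (j + 1)).subgroupOf (SecAb.grp (P j) (tfr P j)))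
      ((redPhi a P J (j + 1)).subgroupOf (SecAb.grp (P j) (tfr P j)))
      ((P (j + 2)).subgroupOf (SecAb.grp (P j) (tfr P j))) := by
  have hQ : redQ a P J (j + 1) = P (j + 1) := by rw [hj, redQ_top]
  refine h.layerOf (by omega) (h.Q_le (by omega)) (h.aQ (by omega)) le_rfl
    (h.tower.conj _ (by omega)) ?_ ?_
  · rw [hQ]; exact h.tower.norm _ _ (by omega) (by omega)
  · rw [hQ]; exact (h.min.commutator_eq h.tower (by omega)).ge

/-- No reduced term dies. -/
theorem E_not_le (h : Setup a G r p P n J) : ∀ {k : ℕ}, k ≤ J → ¬ redE a P J k ≤ tfr P k := by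
  suffices hd : ∀ d k, k + d = J → ¬ redE a P J k ≤ tfr P k from
    fun {k} hk => hd (J - k) k (by omega)
  intro d
  induction d with
  | zero =>
    rintro k rfl hle
    rw [add_zero] at *
    rw [h.E_top] at hle
    exact h.tower.tfr_ne h.le (le_antisymm (tfr_le P _) hle)
  | succ d ih =>
    intro k hk hle
    have hkJ : k < J := by omega
    have hJ := h.le
    refine ih (k + 1) (by omega) fun g hg => ?_
    -- `a` is trivial on `Q k / Φ k`, so is `[E (k + 1), a]`
    set hM := h.secM hkJ.le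
    have ha1 : hM.rep ⟨a, h.a_mem_mGrp hkJ.le⟩ = 1 := (hM.rep_eq_one_iff _).2 fun u hu => by
      rw [← commutatorElement_inv]
      refine inv_mem (mem_inf.2 ⟨h.E_le hkJ.le ?_, hle ?_⟩) <;>
        exact commutator_mem_commutator hu (mem_zpowers a)
    have hEg : redE a P J (k + 1) ≤ SecAb.grp (redQ a P J k) (redPhi a P J k) :=
      (h.E_le hkJ).trans (h.Q_le_mGrp hkJ)
    let H : Subgroup X :=
      { carrier := {x | ∃ hx : x ∈ SecAb.grp (redQ a P J k) (redPhi a P J k), hM.rep ⟨x, hx⟩ = 1}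
        one_mem' := ⟨one_mem _, map_one _⟩
        mul_mem' := fun {x y} ⟨hx, hx'⟩ ⟨hy, hy'⟩ => ⟨mul_mem hx hy, by
          rw [← one_mul (1 : Module.End (ZMod (p k)) hM.Space)]
          conv_rhs => arg 1; rw [← hx']
          conv_rhs => arg 2; rw [← hy']
          exact map_mul hM.rep ⟨x, hx⟩ ⟨y, hy⟩⟩
        inv_mem' := fun {x} ⟨hx, hx'⟩ => ⟨inv_mem hx, by
          have h1 : hM.rep (⟨x⁻¹, inv_mem hx⟩ * ⟨x, hx⟩) = 1 := by
            rw [show (⟨x⁻¹, inv_mem hx⟩ : SecAb.grp _ _) * ⟨x, hx⟩ = 1 from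
              Subtype.ext (inv_mul_cancel x), map_one]
          rwa [map_mul, hx', mul_one] at h1⟩ }
    have hEH : redE a P J (k + 1) ≤ H := (h.genE (by omega)).trans
      (commutator_zpowers_le (h.aE (by omega)) fun u hu => by
        have hu' := hEg hu
        refine ⟨mul_mem (mul_mem (mul_mem hu' (h.a_mem_mGrp hkJ.le)) (inv_mem hu'))
          (inv_mem (h.a_mem_mGrp hkJ.le)), ?_⟩
        rw [show (⟨⁅u, a⁆, _⟩ : SecAb.grp _ _)
          = ⟨u, hu'⟩ * ⟨a, h.a_mem_mGrp hkJ.le⟩ * (⟨u, hu'⟩)⁻¹ * (⟨a, h.a_mem_mGrp hkJ.le⟩)⁻¹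
          from Subtype.ext rfl, map_mul, map_mul, map_mul, ha1, mul_one, ← map_mul, ← map_mul]
        rw [mul_inv_cancel, one_mul]
        have h2 : hM.rep ⟨a, h.a_mem_mGrp hkJ.le⟩⁻¹ * hM.rep ⟨a, h.a_mem_mGrp hkJ.le⟩ = 1 := by
          rw [← map_mul, inv_mul_cancel, map_one]
        rwa [ha1, mul_one] at h2)
    -- so `E (k + 1)` kills the section `Q k / Φ k`, which it generates
    have hzero : ∀ u ∈ redQ a P J k, u ∈ tfr P k := by
      intro u hu
      have hu' := h.genQ hkJ hu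
      have hgen : ⁅redQ a P J k, redE a P J (k + 1)⁆ ≤ tfr P k := commutator_le.2 fun v hv e he => by
        obtain ⟨he', he1⟩ := hEH he
        rw [← commutatorElement_inv]
        exact inv_mem (mem_inf.1 ((hM.rep_eq_one_iff _).1 he1 v hv)).2
      exact hgen hu'
    refine mem_sup_right ?_
    refine h.mem_linkKer_of_tfr (by omega) (h.E_le_P hkJ hg) fun v hv => hzero _ ?_
    rw [redQ_of_lt a P hkJ, ← commutatorElement_inv]
    exact inv_mem (commutator_mem_commutator hv hg)

end Setup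

end CfsgLib.CoprimeHeight
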