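import Cfsg.Agent.Lib.CoprimeHeight.KeyLemma

/-!
# The last moved layer when all operators above fix its fixed points

`Y` commutes with `a`, normalises `Q = [Q, a]` and fixes the fixed points of `a` in `V = [V, Q]`.
Then `Φ` commutes with `a`, elements centralising the image of `Q` are trivial, and the operators
give extraspecial constituents, so that they act as involutions.
-/

set_option autoImplicit false

namespace CfsgLib.CoprimeHeight

open Subgroup CfsgLib.FixedFree CfsgLib.HallHigman Polynomial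
open scoped commutatorElement TensorProduct

universe u v w z₁ z₂

variable {K : Type u} [Field K] {V : Type v} [AddCommGroup V] [Module K V] {Γ : Type w} [Group Γ]
  [Finite Γ]

/-- The situation at the last moved layer. -/
structure TopData (ρ : Representation K Γ V) (a : Γ) (r q s : ℕ) (Q Φ Y : Subgroup Γ) : Prop where
  layer : Layer ρ a r q s Q Φ Y
  ya : ∀ y ∈ Y, y * a = a * y
  Qa : Q ≤ ⁅Q, zpowers a⁆
  top : commPart ρ Q = ⊤
  fixC : ∀ y ∈ Y, ∀ v, ρ a v = v → ρ y v = v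
  ker : ∀ u ∈ Q, ρ u = 1 → u ∈ Φ

theorem radMod_subgroupOf {Q N S : Subgroup Γ} (hQS : Q ≤ S) (hN : Q ≤ normalizer (N : Set Γ)) :
    radMod (Q.subgroupOf S) (N.subgroupOf S) = (radMod Q N).subgroupOf S := by
  ext u
  rw [mem_radMod fun x hx => mem_normalizer_subgroupOf' (hN hx), mem_subgroupOf, mem_subgroupOf,
    mem_radMod hN]
  exact ⟨fun h => ⟨h.1, fun v hv => h.2 ⟨v, hQS hv⟩ hv⟩, fun h => ⟨h.1, fun v hv => h.2 v hv⟩⟩
where
  mem_normalizer_subgroupOf' {A S : Subgroup Γ} {g : S} (hg : (g : Γ) ∈ normalizer (A : Set Γ)) :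
      g ∈ normalizer (A.subgroupOf S : Set S) :=
    mem_normalizer_of_conj (fun x hx => show (g : Γ) * x * (g : Γ)⁻¹ ∈ A from conj_mem hg hx)
      fun x hx => show (g : Γ)⁻¹ * x * g ∈ A from inv_conj_mem hg hx

namespace TopData

variable {ρ : Representation K Γ V} {a : Γ} {r q s : ℕ} {Q Φ Y : Subgroup Γ}
  [FiniteDimensional K V]

omit [FiniteDimensional K V] in
theorem apply_swap {ρ : Representation K Γ V} {g h : Γ} (e : ρ (g * h) = ρ (h * g)) (v : V) :
    ρ g (ρ h v) = ρ h (ρ g v) := by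
  rw [← rep_self_mul_apply, e, rep_self_mul_apply]

/-- What commutes with the image of `Q` is trivial. -/
theorem eq_one_of_commutes (T : TopData ρ a r q s Q Φ Y) {y : Γ} (hy : y ∈ Y)
    (h : ∀ u ∈ Q, ρ (y * u) = ρ (u * y)) : ρ y = 1 := by
  have L := T.layer
  set U := Submodule.span K {x | ∃ u ∈ Q, ∃ c, ρ a c = c ∧ x = ρ u c}
  have hUQ : Q ≤ stabSub ρ U := by
    intro g hg x hx
    induction hx using Submodule.span_induction with
    | mem x hx =>
      obtain ⟨u, hu, c, hc, rfl⟩ := hx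
      exact Submodule.subset_span ⟨g * u, mul_mem hg hu, c, hc, (rep_self_mul_apply ρ g u c).symm⟩
    | zero => rw [map_zero]; exact zero_mem _
    | add x z _ _ h1 h2 => rw [map_add]; exact add_mem h1 h2
    | smul c x _ h1 => rw [map_smul]; exact Submodule.smul_mem _ _ h1
  have hUa : a ∈ stabSub ρ U := by
    intro x hx
    induction hx using Submodule.span_induction with
    | mem x hx =>
      obtain ⟨u, hu, c, hc, rfl⟩ := hx
      refine Submodule.subset_span ⟨a * u * a⁻¹, conj_mem L.aQ hu, c, hc, ?_⟩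
      rw [← rep_self_mul_apply]
      conv_rhs => rw [← hc, ← rep_self_mul_apply, inv_mul_cancel_right]
    | zero => rw [map_zero]; exact zero_mem _
    | add x z _ _ h1 h2 => rw [map_add]; exact add_mem h1 h2
    | smul c x _ h1 => rw [map_smul]; exact Submodule.smul_mem _ _ h1
  have hWU : (⊤ : Submodule K V) ≤ U := by
    refine L.le_of_free_top T.ya T.Qa (fun _ _ _ _ => Submodule.mem_top) hUQ
      (fun _ _ => Submodule.mem_top) hUa (fun x _ hxa => ?_) fun x _ hxQ => ?_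
    · have hA : ∀ g ∈ zpowers a, ρ g x - x ∈ U := fun g hg => by
        obtain ⟨i, rfl⟩ : ∃ i : ℕ, a ^ i = g := mem_powers_iff_mem_zpowers.2 hg
        induction i with
        | zero => simp
        | succ i ih =>
          rw [pow_succ, rep_self_mul_apply, ← sub_add_sub_cancel _ (ρ (a ^ i) x) x, ← map_sub]
          exact add_mem ((pow_mem hUa i) _ hxa) (ih (pow_mem (mem_zpowers a) i))
      have h1 := sub_avg_mem_of_fixed ρ L.cardA_ne_zero hA
      have h2 : avg ρ (zpowers a) x ∈ U := Submodule.subset_span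
        ⟨1, one_mem Q, _, avg_mem_fixSub ρ x a (mem_zpowers a), by simp⟩
      have h3 := add_mem h1 h2
      rwa [sub_add_cancel] at h3
    · have h1 := sub_avg_mem_of_fixed ρ (L.card_ne_zero le_rfl) hxQ
      have h2 : avg ρ Q x = 0 := eq_zero_of_fix_of_comm ρ (L.card_ne_zero le_rfl)
        (avg_mem_fixSub ρ x) (T.top ▸ Submodule.mem_top)
      rwa [h2, sub_zero] at h1
  refine LinearMap.ext fun x => ?_
  have hx : x ∈ U := hWU Submodule.mem_top
  induction hx using Submodule.span_induction with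
  | mem x hx =>
    obtain ⟨u, hu, c, hc, rfl⟩ := hx
    rw [apply_swap (h u hu), T.fixC y hy c hc]
    rfl
  | zero => simp
  | add x z _ _ h1 h2 => rw [map_add, h1, h2]; simp
  | smul c x _ h1 => rw [map_smul, h1]; simp

omit [FiniteDimensional K V] in
theorem phi_commutes (T : TopData ρ a r q s Q Φ Y) {y z : Γ} (hy : y ∈ Y) (hz : z ∈ Φ) :
    ρ (y * z) = ρ (z * y) := by
  rw [show y * z = (y * z * y⁻¹) * y by group, map_mul, T.layer.E'cent y hy z hz, ← map_mul]

/-- `a` centralises the image of `Φ`. -/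
theorem phi_a (T : TopData ρ a r q s Q Φ Y) {z : Γ} (hz : z ∈ Φ) : ρ (z * a) = ρ (a * z) := by
  have L := T.layer
  set Z := ⁅Φ, zpowers a⁆ with hZ
  have hZΦ : Z ≤ Φ := L.commPhi_le
  have hcard : (Nat.card Z : K) ≠ 0 := L.card_ne_zero (hZΦ.trans L.ΦQ)
  have hswap : ∀ u ∈ Q, ∀ z ∈ Z, ρ (z * u) = ρ (u * z) := fun u hu z hz => L.cent z (hZΦ hz) u hu
  have hWQ : ∀ u ∈ Q, ∀ x ∈ commPart ρ Z, ρ u x ∈ commPart ρ Z := fun u hu x hx => by
    induction hx using Submodule.span_induction with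
    | mem x hx =>
      obtain ⟨z, hz, w, rfl⟩ := hx
      rw [map_sub, ← apply_swap (hswap u hu z hz)]
      exact sub_mem_commPart ρ hz _
    | zero => rw [map_zero]; exact zero_mem _
    | add x y _ _ h1 h2 => rw [map_add]; exact add_mem h1 h2
    | smul c x _ h1 => rw [map_smul]; exact Submodule.smul_mem _ _ h1
  have hfix : ∀ y ∈ Y, ∀ w ∈ commPart ρ Z, ρ y w = w := fun y hy => frob_fix ρ L.prime L.pow_a
    (mem_normalizer_commutator L.aΦ (le_normalizer (mem_zpowers a)))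
    (fun z hz x hx => map_mem_commPart ρ (le_normalizer hz) hx)
    (fun x hx => map_mem_commPart ρ
      (mem_normalizer_commutator L.aΦ (le_normalizer (mem_zpowers a))) hx) le_rfl
    (fun x hx z hz w _ => by rw [hswap z (L.ΦQ (hZΦ hz)) x hx]) L.genPhi hcard
    (fun z hz w _ => by rw [T.phi_commutes hy (hZΦ hz)])
    (fun w _ hw => T.fixC y hy w hw)
  let H : Subgroup Γ :=
    { carrier := {u | u ∈ Q ∧ ∀ w ∈ commPart ρ Z, ρ u w = w}
      one_mem' := ⟨one_mem _, fun w _ => by simp⟩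
      mul_mem' := fun {g h} hg hh => ⟨mul_mem hg.1 hh.1, fun w hw => by
        rw [rep_self_mul_apply, hh.2 w hw, hg.2 w hw]⟩
      inv_mem' := fun {g} hg => ⟨inv_mem hg.1, fun w hw => by
        conv_lhs => rw [← hg.2 w hw]
        exact rep_inv_apply_self ρ g w⟩ }
  have hQH : Q ≤ H := L.genQ.trans (commutator_le.2 fun u hu y hy => by
    refine ⟨?_, fun w hw => ?_⟩
    · rw [← commutatorElement_inv]
      exact inv_mem (commutator_mem_of_normalizes (L.E'Q hy) hu)
    · rw [commutatorElement_def, rep_self_mul_apply, hfix _ (inv_mem hy) w hw, rep_self_mul_apply,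
        rep_self_mul_apply, hfix y hy _ (hWQ _ (inv_mem hu) w hw), rep_self_apply_inv])
  have hW : commPart ρ Z ≤ ⊥ := fun w hw => (Submodule.mem_bot K).2
    (eq_zero_of_fix_of_comm ρ (L.card_ne_zero le_rfl) (fun u hu => (hQH hu).2 w hw)
      (T.top ▸ Submodule.mem_top))
  have h1 : ρ ⁅z, a⁆ = 1 := LinearMap.ext fun w => sub_eq_zero.1 ((Submodule.mem_bot K).1
    (hW (sub_mem_commPart ρ (commutator_mem_commutator hz (mem_zpowers a)) w)))
  rw [show z * a = ⁅z, a⁆ * (a * z) by simp only [commutatorElement_def]; group, map_mul, h1,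
    one_mul]

omit [FiniteDimensional K V] in
theorem exists_ne_one [Nontrivial V] (T : TopData ρ a r q s Q Φ Y) : ∃ y ∈ Y, ρ y ≠ 1 := by
  have L := T.layer
  by_contra hall
  push Not at hall
  let H : Subgroup Γ :=
    { carrier := {u | ρ u = 1}
      one_mem' := map_one ρ
      mul_mem' := fun {g h} hg hh => by
        show ρ (g * h) = 1
        rw [map_mul, show ρ g = 1 from hg, show ρ h = 1 from hh, one_mul]
      inv_mem' := fun {g} hg => by
        show ρ g⁻¹ = 1
        rw [← mul_one (ρ g⁻¹), ← show ρ g = 1 from hg, ← map_mul, inv_mul_cancel, map_one]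
        exact hg.symm }
  have hQH : Q ≤ H := L.genQ.trans (commutator_le.2 fun u _ y hy => by
    show ρ ⁅u, y⁆ = 1
    rw [commutatorElement_def, map_mul, hall _ (inv_mem hy), mul_one, map_mul, map_mul, hall y hy,
      mul_one, ← map_mul, mul_inv_cancel, map_one])
  obtain ⟨x, hx⟩ := exists_ne (0 : V)
  exact hx (eq_zero_of_fix_of_comm ρ (L.card_ne_zero le_rfl)
    (fun u hu => by rw [show ρ u = 1 from hQH hu]; rfl) (T.top ▸ Submodule.mem_top))

set_option maxHeartbeats 1000000 in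
/-- **Constituents**, for any representation over an algebraically closed field satisfying the
relations of `ρ`. -/
theorem exists_constituent_of (T : TopData ρ a r q s Q Φ Y) {Kb : Type z₁} [Field Kb] [IsAlgClosed Kb]
    {Vb : Type z₂} [AddCommGroup Vb] [Module Kb Vb] [FiniteDimensional Kb Vb]
    {τ : Representation Kb Γ Vb} (hτ : ∀ g h : Γ, ρ g = ρ h → τ g = τ h) {y : Γ} (hy : y ∈ Y)
    {m e : ℕ} (hm : m = s ^ (e + 1)) (hym : ρ (y ^ m) = 1)
    (hvan : ∀ x : Vb, τ (a * y) (∑ k ∈ Finset.range r, τ ((a * y) ^ (m * k)) x)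
      = ∑ k ∈ Finset.range r, τ ((a * y) ^ (m * k)) x)
    {W : Submodule Kb Vb} (hW : W ≠ ⊥) (hWQ : Q ≤ stabSub τ W) (hWa : a ∈ stabSub τ W)
    (hWy : y ∈ stabSub τ W)
    (hWfix : ∀ x ∈ W, x ∈ fixSub τ ⁅Q, zpowers (y ^ s ^ e)⁆ → x = 0) :
    ∃ (N : Subgroup Γ) (x : Vb) (b : ℕ),
      IsEigKer τ Φ N ∧ x ∈ W ∧ x ≠ 0 ∧ (∀ z, z ∈ N ↔ z ∈ Φ ∧ τ z x = x) ∧ 1 ≤ b ∧
      r * m = q ^ b + 1 ∧ q ^ b + m ≤ r * m + 1 ∧
      (radMod ⁅Q, zpowers (y ^ s ^ e)⁆ N).relIndex ⁅Q, zpowers (y ^ s ^ e)⁆ = q ^ b * q ^ b := by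
  have L := T.layer
  have := Fact.mk L.qPrime
  set y₀ := y ^ s ^ e
  set Q₁ := ⁅Q, zpowers y₀⁆
  have hy₀ : y₀ ∈ Y := pow_mem hy _
  have hzQ : zpowers y₀ ≤ normalizer (Q : Set Γ) := zpowers_le.2 (L.E'Q hy₀)
  have hQ₁Q : Q₁ ≤ Q := le_normalizer_iff_commutator_le_left.1 hzQ
  have hm0 : 0 < m := hm ▸ pow_pos L.sPrime.pos _
  have hm1 : 2 ≤ m := by
    rw [hm, pow_succ]
    exact le_trans L.sPrime.two_le (Nat.le_mul_of_pos_left _ (pow_pos L.sPrime.pos _))
  have hcomm : Commute a y := (show Commute y a from T.ya y hy).symm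
  set g := a * y
  -- powers of `y` inside `⟨g⟩`
  have hord : (orderOf y).Coprime r := orderOf_coprime_of_isPGroup L.sPrime L.prime L.sr L.sP hy
  have hgy : ∀ k : ℕ, g ^ (r * k) = y ^ (r * k) := fun k => by
    rw [hcomm.mul_pow, pow_mul a, L.pow_a, one_pow, one_mul]
  have hy₀g : y₀ ∈ zpowers g := by
    obtain ⟨j, hj⟩ := exists_pow_eq_self_of_coprime hord.symm
    refine mem_zpowers_iff.2 ⟨(r * (j * s ^ e) : ℕ), ?_⟩
    rw [zpow_natCast, hgy, pow_mul, pow_mul, hj]
  have hgQ : g ∈ normalizer (Q : Set Γ) := mul_mem L.aQ (L.E'Q hy)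
  have hay₀ : a ∈ normalizer (zpowers y₀ : Set Γ) :=
    centralizer_le_normalizer _ (mem_centralizer_iff.2 fun b hb => by
      obtain ⟨i, rfl⟩ := mem_zpowers_iff.1 hb
      exact ((hcomm.pow_right _).zpow_right i).eq.symm)
  have hyy₀ : y ∈ normalizer (zpowers y₀ : Set Γ) :=
    centralizer_le_normalizer _ (mem_centralizer_iff.2 fun b hb => by
      obtain ⟨i, rfl⟩ := mem_zpowers_iff.1 hb
      exact (((Commute.refl y).pow_right _).zpow_right i).eq.symm)
  have hgQ₁ : g ∈ normalizer (Q₁ : Set Γ) :=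
    mem_normalizer_commutator hgQ (mul_mem hay₀ hyy₀)
  have hgΦ : g ∈ normalizer (Φ : Set Γ) := mul_mem L.aΦ (L.E'Φ hy)
  have hcop₀ : (Nat.card (zpowers y₀)).Coprime q := by
    rw [Nat.card_zpowers]
    exact orderOf_coprime_of_isPGroup L.sPrime L.qPrime L.sq L.sP hy₀
  have hgen₀ : Q₁ ≤ ⁅Q₁, zpowers y₀⁆ := by
    refine (Coprime.commutator_commutator_eq hzQ ?_ (Or.inr (L.solvable le_rfl))).ge
    obtain ⟨k, hk⟩ := IsPGroup.iff_card.1 L.isP
    rw [hk]
    exact hcop₀.pow_right k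
  set S := stabSub τ W
  have hgS : g ∈ S := mul_mem hWa hWy
  have hQS : Q ≤ S := hWQ
  have hΦS : Φ ≤ S := L.ΦQ.trans hQS
  have hQ₁S : Q₁ ≤ S := hQ₁Q.trans hQS
  set σ := restrictRep τ S W fun _ hs => hs
  have hσ : ∀ {g h : S}, ρ (g : Γ) = ρ (h : Γ) → σ g = σ h := fun {g h} e =>
    LinearMap.ext fun x => Subtype.ext (LinearMap.congr_fun (hτ _ _ e) (x : Vb))
  have : Nontrivial W := Submodule.nontrivial_iff_ne_bot.2 hW
  -- the polynomial
  set f : Kb[X] := (X - C 1) * ∑ k ∈ Finset.range r, X ^ (m * k) with hf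
  have hsum0 : (∑ k ∈ Finset.range r, (X : Kb[X]) ^ (m * k)) ≠ 0 := fun h0 => by
    have h1 : (∑ k ∈ Finset.range r, (X : Kb[X]) ^ (m * k)).coeff 0 = 1 := by
      rw [finsetSum_coeff, Finset.sum_eq_single 0]
      · simp
      · intro k _ hk0
        rw [coeff_X_pow, if_neg (Nat.mul_ne_zero hm0.ne' hk0).symm]
      · intro h; exact absurd (Finset.mem_range.2 L.prime.pos) h
    rw [h0, coeff_zero] at h1
    exact zero_ne_one h1
  have hf0 : f ≠ 0 := mul_ne_zero (X_sub_C_ne_zero 1) hsum0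
  have hfdeg : f.natDegree + m ≤ r * m + 1 := by
    have h1 := natDegree_mul_le (p := X - C (1 : Kb))
      (q := ∑ k ∈ Finset.range r, (X : Kb[X]) ^ (m * k))
    have h2 : (∑ k ∈ Finset.range r, (X : Kb[X]) ^ (m * k)).natDegree ≤ m * (r - 1) :=
      natDegree_sum_le_of_forall_le _ _ fun k hk => by
        rw [natDegree_X_pow]
        exact Nat.mul_le_mul_left _ (by have := Finset.mem_range.1 hk; omega)
    rw [natDegree_X_sub_C] at h1
    have h3 : m * (r - 1) + m = r * m := by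
      rw [← Nat.mul_succ, Nat.succ_eq_add_one, Nat.sub_add_cancel L.prime.one_le, mul_comm]
    rw [← hf] at h1
    omega
  have hfg : aeval (σ ⟨g, hgS⟩) f = 0 := by
    refine LinearMap.ext fun x => Subtype.ext ?_
    set G' : S := ⟨g, hgS⟩
    have e : aeval (σ G') (∑ k ∈ Finset.range r, (X : Kb[X]) ^ (m * k)) x
        = ∑ k ∈ Finset.range r, σ (G' ^ (m * k)) x := by
      rw [map_sum, LinearMap.sum_apply]
      exact Finset.sum_congr rfl fun k _ => by rw [map_pow, aeval_X, map_pow]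
    rw [hf, map_mul, Module.End.mul_apply, e, map_sub, aeval_X, aeval_C, map_one,
      LinearMap.sub_apply, Module.End.one_apply, LinearMap.zero_apply, AddSubgroupClass.coe_sub,
      Submodule.coe_zero, sub_eq_zero]
    show τ g ((∑ k ∈ Finset.range r, σ (G' ^ (m * k)) x : W) : Vb) = _
    rw [Submodule.coe_sum]
    exact hvan (x : Vb)
  -- semiregularity
  have hsemi : ∀ u ∈ Q₁.subgroupOf S, ∀ i : ℕ, 0 < i → i < r * m →
      ⁅(⟨g, hgS⟩ : S) ^ i, u⁆ ∈ Φ.subgroupOf S → u ∈ Φ.subgroupOf S := by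
    intro u hu i hi0 hilt hcom
    have huQ : (u : Γ) ∈ Q := hQ₁Q hu
    let H : Subgroup Γ :=
      { carrier := {h | h ∈ normalizer (Φ : Set Γ) ∧ ⁅h, (u : Γ)⁆ ∈ Φ}
        one_mem' := ⟨one_mem _, by rw [commutatorElement_one_left]; exact one_mem Φ⟩
        mul_mem' := fun {x z} hx hz => ⟨mul_mem hx.1 hz.1, by
          rw [show ⁅x * z, (u : Γ)⁆ = x * ⁅z, (u : Γ)⁆ * x⁻¹ * ⁅x, (u : Γ)⁆ by
            simp only [commutatorElement_def]; group]
          exact mul_mem (conj_mem hx.1 hz.2) hx.2⟩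
        inv_mem' := fun {x} hx => ⟨inv_mem hx.1, by
          rw [show ⁅x⁻¹, (u : Γ)⁆ = x⁻¹ * ⁅x, (u : Γ)⁆⁻¹ * x by
            simp only [commutatorElement_def]; group]
          exact inv_conj_mem hx.1 (inv_mem hx.2)⟩ }
    have hgH : g ^ i ∈ H := ⟨pow_mem hgΦ i, mem_subgroupOf.1 hcom⟩
    have hymH : y ^ m ∈ H := ⟨pow_mem (L.E'Φ hy) m,
      T.ker _ (commutator_mem_of_normalizes (pow_mem (L.E'Q hy) m) huQ) (by
        rw [commutatorElement_def, map_mul, map_mul, map_mul, hym, one_mul,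
          show ρ (y ^ m)⁻¹ = 1 by
            rw [← mul_one (ρ (y ^ m)⁻¹), ← hym, ← map_mul, inv_mul_cancel, map_one, hym],
          mul_one, ← map_mul, mul_inv_cancel, map_one])⟩
    by_cases hmi : m ∣ i
    · obtain ⟨k, rfl⟩ := hmi
      have hkr : ¬ r ∣ m * k := fun hd => by
        have hrk : r ∣ k := (Nat.Coprime.dvd_of_dvd_mul_left (by
          rw [hm]
          exact ((Nat.coprime_primes L.prime L.sPrime).2 L.sr.symm).pow_right _) hd)
        obtain ⟨c, rfl⟩ := hrk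
        rcases Nat.eq_zero_or_pos c with rfl | hc
        · simp at hi0
        · have h7 : r * m ≤ m * (r * c) := by
            rw [mul_comm r m]
            exact Nat.mul_le_mul_left _ (Nat.le_mul_of_pos_right _ hc)
          omega
      have haH : a ^ (m * k % r) ∈ H := by
        have h1 : g ^ (m * k) * (y ^ (m * k))⁻¹ ∈ H :=
          mul_mem hgH (inv_mem (by rw [pow_mul]; exact pow_mem hymH k))
        rw [hcomm.mul_pow, mul_inv_cancel_right] at h1
        rwa [← pow_mod_orderOf, Nat.mod_mod_of_dvd _ (orderOf_dvd_of_pow_eq_one L.pow_a),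
          pow_mod_orderOf]
      exact mem_subgroupOf.2 (L.semiregular (T.Qa huQ)
        (Nat.pos_of_ne_zero fun h0 => hkr (Nat.dvd_of_mod_eq_zero h0))
        (Nat.mod_lt _ L.prime.pos) haH.2)
    · have hyir : y ^ (r * i) ∈ H := by
        rw [← hgy, mul_comm, pow_mul]
        exact pow_mem hgH r
      obtain ⟨t, htle, ht⟩ := (Nat.dvd_prime_pow L.sPrime).1
        (hm ▸ Nat.gcd_dvd_right (r * i) m : Nat.gcd (r * i) m ∣ s ^ (e + 1))
      have hte : t ≤ e := by
        by_contra h9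
        refine hmi ((Nat.Coprime.dvd_of_dvd_mul_left (by
          rw [hm]
          exact (((Nat.coprime_primes L.sPrime L.prime).2 L.sr).pow_left _)) ?_))
        have h8 := Nat.gcd_dvd_left (r * i) m
        rwa [ht, show t = e + 1 by omega, ← hm] at h8
      have hy₀H : y₀ ∈ H := by
        have h1 := pow_gcd_mem y hyir hymH
        rw [ht] at h1
        show y ^ s ^ e ∈ H
        rw [← Nat.sub_add_cancel hte, pow_add, mul_comm, pow_mul]
        exact pow_mem h1 _
      exact mem_subgroupOf.2 (mem_of_fixed_mod (L.isP.to_le hQ₁Q) (hQ₁Q.trans L.QΦ)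
        (normalizer_commutator_ge_right Q (zpowers y₀)) (zpowers_le.2 (L.E'Φ hy₀))
        (fun v hv v' hv' => L.der v (hQ₁Q hv) v' (hQ₁Q hv')) (hgen₀.trans le_sup_left) hcop₀ hu
        fun x hx => ((zpowers_le.2 hy₀H) hx).2)
  have hgn : σ (⟨g, hgS⟩ ^ (r * m)) = 1 := by
    rw [hσ (g := ⟨g, hgS⟩ ^ (r * m)) (h := 1) (by
      show ρ (g ^ (r * m)) = ρ 1
      rw [hgy, mul_comm, pow_mul, map_pow, hym, one_pow, map_one]), map_one]
  have hgenS : Q₁.subgroupOf S ≤ ⁅Q₁.subgroupOf S, zpowers (⟨g, hgS⟩ : S)⁆ :=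
    subgroupOf_le_commutator hQ₁S hgS
      (hgen₀.trans (commutator_mono le_rfl (zpowers_le.2 hy₀g)))
  obtain ⟨N', hN', b, hb, hrb, hbdeg, hidx⟩ := exists_constituent (q := q) σ
    (Q := Q₁.subgroupOf S) (Φ := Φ.subgroupOf S) (g := ⟨g, hgS⟩) (n := r * m)
    ((L.isP.to_le hQ₁Q).of_equiv (subgroupOfEquivOfLe hQ₁S).symm)
    (radMod_subgroupOf.mem_normalizer_subgroupOf' hgQ₁)
    (radMod_subgroupOf.mem_normalizer_subgroupOf' hgΦ)
    (fun x hx => radMod_subgroupOf.mem_normalizer_subgroupOf' (L.QΦ (hQ₁Q hx)))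
    (lt_of_lt_of_le (lt_of_lt_of_le one_lt_two hm1) (Nat.le_mul_of_pos_left _ L.prime.pos)) hgn
    (fun z hz u hu => hσ (L.cent _ hz _ (hQ₁Q hu)))
    (fun z hz => hσ (by
      show ρ ((z : Γ) * (a * y)) = ρ (a * y * z)
      rw [← mul_assoc, map_mul, T.phi_a (z := (z : Γ)) hz, ← map_mul, mul_assoc, map_mul,
        ← T.phi_commutes (z := (z : Γ)) hy hz, ← map_mul, ← mul_assoc]))
    (fun z hz z' hz' => hσ (L.cent _ hz _ (L.ΦQ hz')))
    (fun u hu v hv => mem_subgroupOf.2 (L.der _ (hQ₁Q hu) _ (hQ₁Q hv))) hsemi hgenS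
    (fun x hx => Subtype.ext (hWfix x x.2 fun u hu =>
      congrArg Subtype.val (hx ⟨u, hQ₁S hu⟩ hu)))
    f hf0 (by omega) hfg
  obtain ⟨x, hx0, hxc, hxN⟩ := hN'
  refine ⟨N'.map S.subtype, (x : Vb), b, ?_⟩
  have hmem : ∀ z, z ∈ N'.map S.subtype ↔ z ∈ Φ ∧ τ z (x : Vb) = x := by
    intro z
    constructor
    · rintro ⟨z', hz', rfl⟩
      obtain ⟨h1, h2⟩ := (hxN z').1 hz'
      exact ⟨h1, congrArg Subtype.val h2⟩
    · intro hz
      exact ⟨⟨z, hΦS hz.1⟩, (hxN _).2 ⟨hz.1, Subtype.ext hz.2⟩, rfl⟩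
  have hN : IsEigKer τ Φ (N'.map S.subtype) := ⟨(x : Vb), fun e => hx0 (Subtype.ext e),
    fun z hz => by
      obtain ⟨c, hc⟩ := hxc ⟨z, hΦS hz⟩ hz
      exact ⟨c, congrArg Subtype.val hc⟩, hmem⟩
  refine ⟨hN, x.2, fun e => hx0 (Subtype.ext e), hmem, hb, hrb, by omega, ?_⟩
  have hnorm : Q₁ ≤ normalizer (N'.map S.subtype : Set Γ) := fun u hu =>
    hN.mem_normalizer (L.QΦ (hQ₁Q hu)) fun z hz => hτ _ _ (L.conj_rep hz (hQ₁Q hu))
  have hN'eq : N' = (N'.map S.subtype).subgroupOf S :=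
    (Subgroup.comap_map_eq_self_of_injective S.subtype_injective N').symm
  rw [hN'eq, radMod_subgroupOf hQ₁S hnorm, relIndex_subgroupOf hQ₁S] at hidx
  exact hidx


/-- **Constituents**: an element of `Y` whose action has order `m = s ^ (e + 1)` gives an
extraspecial constituent in every invariant subspace where `[Q, y ^ s ^ e]` fixes nothing. -/
theorem exists_constituent_y (T : TopData ρ a r q s Q Φ Y) {y : Γ} (hy : y ∈ Y) {m e : ℕ}
    (hm : m = s ^ (e + 1)) (hym : ρ (y ^ m) = 1)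
    {W : Submodule (AlgebraicClosure K) (AlgebraicClosure K ⊗[K] V)} (hW : W ≠ ⊥)
    (hWQ : Q ≤ stabSub (extend (AlgebraicClosure K) ρ) W)
    (hWa : a ∈ stabSub (extend (AlgebraicClosure K) ρ) W)
    (hWy : y ∈ stabSub (extend (AlgebraicClosure K) ρ) W)
    (hWfix : ∀ x ∈ W, x ∈ fixSub (extend (AlgebraicClosure K) ρ) ⁅Q, zpowers (y ^ s ^ e)⁆ → x = 0) :
    ∃ (N : Subgroup Γ) (x : AlgebraicClosure K ⊗[K] V) (b : ℕ),
      IsEigKer (extend (AlgebraicClosure K) ρ) Φ N ∧ x ∈ W ∧ x ≠ 0 ∧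
      (∀ z, z ∈ N ↔ z ∈ Φ ∧ extend (AlgebraicClosure K) ρ z x = x) ∧ 1 ≤ b ∧
      r * m = q ^ b + 1 ∧ q ^ b + m ≤ r * m + 1 ∧
      (radMod ⁅Q, zpowers (y ^ s ^ e)⁆ N).relIndex ⁅Q, zpowers (y ^ s ^ e)⁆ = q ^ b * q ^ b := by
  have L := T.layer
  refine T.exists_constituent_of (fun g h e => (extend_eq_iff _ ρ g h).2 e) hy hm hym
    (fun x => ?_) hW hWQ hWa hWy hWfix
  have hcomm : Commute a y := (show Commute y a from T.ya y hy).symm
  induction x using TensorProduct.induction_on with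
  | zero => simp
  | add x z h1 h2 => simp only [map_add, Finset.sum_add_distrib, h1, h2]
  | tmul c x =>
    simp only [extend_tmul, ← TensorProduct.tmul_sum]
    refine congrArg (fun t => c ⊗ₜ[K] t) ?_
    set v := ∑ k ∈ Finset.range r, ρ ((a * y) ^ (m * k)) x
    have hρ : ∀ k, ρ ((a * y) ^ (m * k)) = ρ ((a ^ m) ^ k) := fun k => by
      rw [hcomm.mul_pow, map_mul, pow_mul y, map_pow ρ (y ^ m), hym, one_pow, mul_one, pow_mul]
    have hbv : ρ (a ^ m) v = v := by
      simp only [v, hρ, map_sum]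
      have h1 : ∀ i, ρ (a ^ m) (ρ ((a ^ m) ^ i) x) = ρ ((a ^ m) ^ (i + 1)) x := fun i => by
        rw [← rep_self_mul_apply, ← pow_succ']
      simp only [h1]
      have h2 := Finset.sum_range_succ' (fun i => ρ ((a ^ m) ^ i) x) r
      rw [Finset.sum_range_succ (fun i => ρ ((a ^ m) ^ i) x) r,
        show (a ^ m) ^ r = 1 by rw [← pow_mul, mul_comm, pow_mul, L.pow_a, one_pow], pow_zero] at h2
      exact (add_right_cancel h2).symm
    obtain ⟨j, hj⟩ : ∃ j : ℕ, (a ^ m) ^ j = a := exists_pow_eq_self_of_coprime (by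
      rw [hm]
      exact Nat.Coprime.coprime_dvd_right (orderOf_dvd_of_pow_eq_one L.pow_a)
        (((Nat.coprime_primes L.sPrime L.prime).2 L.sr).pow_left _))
    have hav : ρ a v = v := by
      rw [← hj]
      clear hj
      induction j with
      | zero => simp
      | succ j ihj => rw [pow_succ, rep_self_mul_apply, hbv, ihj]
    show ρ (a * y) v = v
    rw [rep_self_mul_apply, T.fixC y hy v hav, hav]

/-- The action of an element of `Y` has order at most two, and `s = 2`. -/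
theorem no_big [Nontrivial V] (T : TopData ρ a r q s Q Φ Y) {y : Γ} (hy : y ∈ Y) {m e : ℕ}
    (hm : m = s ^ (e + 1)) (hm3 : 3 ≤ m) (hym : ρ (y ^ m) = 1) : ρ (y ^ s ^ e) = 1 := by
  by_contra hne
  have L := T.layer
  set Kb := AlgebraicClosure K
  set τ := extend Kb ρ
  set Q₁ := ⁅Q, zpowers (y ^ s ^ e)⁆
  have hz : zpowers (y ^ s ^ e) ≤ normalizer (Q : Set Γ) :=
    zpowers_le.2 (L.E'Q (pow_mem hy _))
  have hQ₁Q : Q₁ ≤ Q := le_normalizer_iff_commutator_le_left.1 hz
  have hcomm : Commute a y := (show Commute y a from T.ya y hy).symm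
  have hnorm : ∀ g : Γ, Commute g y → g ∈ normalizer (zpowers (y ^ s ^ e) : Set Γ) := fun g hg =>
    centralizer_le_normalizer _ (mem_centralizer_iff.2 fun b hb => by
      obtain ⟨i, rfl⟩ := mem_zpowers_iff.1 hb
      exact ((hg.pow_right _).zpow_right i).eq.symm)
  have hWQ : Q ≤ stabSub τ (commPart τ Q₁) := fun u hu x hx =>
    map_mem_commPart τ (normalizer_commutator_ge_left Q (zpowers (y ^ s ^ e)) hu) hx
  have hcard : (Nat.card Q₁ : Kb) ≠ 0 := by
    rw [← map_natCast (algebraMap K Kb), _root_.map_ne_zero]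
    exact L.card_ne_zero hQ₁Q
  by_cases hW : commPart τ Q₁ = ⊥
  · refine hne (T.eq_one_of_commutes (pow_mem hy _) fun u hu => ?_)
    have hd : ρ ⁅u, y ^ s ^ e⁆ = 1 := by
      rw [← map_one ρ, ← extend_eq_iff Kb, map_one]
      refine LinearMap.ext fun x => sub_eq_zero.1 ((Submodule.mem_bot Kb).1 (hW ▸ ?_))
      exact sub_mem_commPart τ (commutator_mem_commutator hu (mem_zpowers _)) x
    rw [show u * y ^ s ^ e = ⁅u, y ^ s ^ e⁆ * (y ^ s ^ e * u) by
      simp only [commutatorElement_def]; group, map_mul ρ ⁅u, y ^ s ^ e⁆, hd, one_mul]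
  · obtain ⟨N, x, b, -, -, -, -, -, hrm, hle, -⟩ := T.exists_constituent_y hy hm hym hW hWQ
      (fun x hx => map_mem_commPart τ (mem_normalizer_commutator L.aQ (hnorm a hcomm)) hx)
      (fun x hx => map_mem_commPart τ
        (mem_normalizer_commutator (L.E'Q hy) (hnorm y (Commute.refl y))) hx)
      (fun x hx hfix => eq_zero_of_fix_of_comm τ hcard hfix hx)
    omega

/-- The operators are involutions. -/
theorem squares [Nontrivial V] (T : TopData ρ a r q s Q Φ Y) :
    s = 2 ∧ ∀ y ∈ Y, ρ (y ^ 2) = 1 := by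
  classical
  have L := T.layer
  have hex : ∀ y ∈ Y, ∃ j, ρ (y ^ s ^ j) = 1 := fun y hy => by
    obtain ⟨j, hj⟩ := L.sP ⟨y, hy⟩
    exact ⟨j, by rw [show y ^ s ^ j = 1 from congrArg Subtype.val hj, map_one]⟩
  have hs : s = 2 := by
    by_contra hs
    obtain ⟨y, hy, hne⟩ := T.exists_ne_one
    have hj := Nat.find_spec (hex y hy)
    rcases hfind : Nat.find (hex y hy) with _ | k
    · rw [hfind, pow_zero, pow_one] at hj
      exact hne hj
    · rw [hfind] at hj
      refine Nat.find_min (hex y hy) (m := k) (by omega) ?_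
      have h1 := T.no_big (y := y ^ s ^ k) (pow_mem hy _) (m := s) (e := 0) (by simp)
        (by have := L.sPrime.two_le; omega) (by rw [← pow_mul, ← pow_succ]; exact hj)
      simpa using h1
  refine ⟨hs, fun y hy => ?_⟩
  subst hs
  have hj := Nat.find_spec (hex y hy)
  rcases hfind : Nat.find (hex y hy) with _ | _ | k
  · rw [hfind, pow_zero, pow_one] at hj
    rw [map_pow, hj, one_pow]
  · rw [hfind, pow_one] at hj
    exact hj
  · rw [hfind] at hj
    refine absurd ?_ (Nat.find_min (hex y hy) (m := k + 1) (by omega))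
    have h1 := T.no_big (y := y ^ 2 ^ k) (pow_mem hy _) (m := 4) (e := 1) (by norm_num) (by norm_num)
      (by rw [← pow_mul, show 2 ^ k * 4 = 2 ^ (k + 1 + 1) by ring]; exact hj)
    rwa [← pow_mul, ← pow_add] at h1

end TopData

end CfsgLib.CoprimeHeight
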