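import Cfsg.Agent.Lib.FittingHeight.Gross
import Cfsg.Agent.Lib.OddLocal.FittingHall

/-!
# Towers of prime power subgroups bound the Fitting height from below

A weak tower is a chain of prime power subgroups `D 0, ..., D m` for alternating primes, the later
ones normalising the earlier ones, with kernels `KD k`; if all the terms survive then there is no
nilpotent series of length `m`.
-/

set_option autoImplicit false

namespace CfsgLib.CoprimeHeight

open Subgroup CfsgLib.FixedFree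
open scoped commutatorElement

universe u

variable {X : Type u} [Group X]

/-- The elements normalising `B` whose commutators with `A` lie in `B`. -/
def centMod (A B : Subgroup X) : Subgroup X where
  carrier := {x | x ∈ normalizer (B : Set X) ∧ ∀ y ∈ A, ⁅x, y⁆ ∈ B}
  one_mem' := ⟨one_mem _, fun y _ => by rw [commutatorElement_one_left]; exact one_mem B⟩
  mul_mem' := fun {x z} hx hz => ⟨mul_mem hx.1 hz.1, fun y hy => by
    rw [show ⁅x * z, y⁆ = (x * ⁅z, y⁆ * x⁻¹) * ⁅x, y⁆ by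
      simp only [commutatorElement_def]; group]
    exact mul_mem ((mem_normalizer_iff.1 hx.1 _).1 (hz.2 y hy)) (hx.2 y hy)⟩
  inv_mem' := fun {x} hx => ⟨inv_mem hx.1, fun y hy => by
    rw [show ⁅x⁻¹, y⁆ = x⁻¹ * ⁅x, y⁆⁻¹ * x⁻¹⁻¹ by simp only [commutatorElement_def]; group]
    exact (mem_normalizer_iff.1 (inv_mem hx.1) _).1 (inv_mem (hx.2 y hy))⟩

theorem mem_centMod {A B : Subgroup X} {x : X} :
    x ∈ centMod A B ↔ x ∈ normalizer (B : Set X) ∧ ∀ y ∈ A, ⁅x, y⁆ ∈ B := Iff.rfl

theorem mem_normalizer_of_conj {S : Subgroup X} {g : X} (h : ∀ x ∈ S, g * x * g⁻¹ ∈ S)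
    (h' : ∀ x ∈ S, g⁻¹ * x * g ∈ S) : g ∈ normalizer (S : Set X) := by
  rw [mem_normalizer_iff]
  intro x
  refine ⟨h x, fun hx => ?_⟩
  have := h' _ hx
  rwa [show g⁻¹ * (g * x * g⁻¹) * g = x by group] at this

theorem conj_mem {S : Subgroup X} {g x : X} (hg : g ∈ normalizer (S : Set X)) (hx : x ∈ S) :
    g * x * g⁻¹ ∈ S := (mem_normalizer_iff.1 hg x).1 hx

theorem inv_conj_mem {S : Subgroup X} {g x : X} (hg : g ∈ normalizer (S : Set X)) (hx : x ∈ S) :
    g⁻¹ * x * g ∈ S := by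
  have := conj_mem (inv_mem hg) hx
  rwa [inv_inv] at this

theorem mem_normalizer_inf {S T : Subgroup X} {g : X} (hS : g ∈ normalizer (S : Set X))
    (hT : g ∈ normalizer (T : Set X)) : g ∈ normalizer ((S ⊓ T : Subgroup X) : Set X) :=
  mem_normalizer_of_conj (fun _ hx => ⟨conj_mem hS hx.1, conj_mem hT hx.2⟩)
    fun _ hx => ⟨inv_conj_mem hS hx.1, inv_conj_mem hT hx.2⟩

theorem mem_normalizer_centMod {A B : Subgroup X} {g : X} (hA : g ∈ normalizer (A : Set X))
    (hB : g ∈ normalizer (B : Set X)) : g ∈ normalizer ((centMod A B : Subgroup X) : Set X) := by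
  have key : ∀ {h : X}, h ∈ normalizer (A : Set X) → h ∈ normalizer (B : Set X) →
      ∀ x ∈ centMod A B, h * x * h⁻¹ ∈ centMod A B := by
    intro h hhA hhB x hx
    refine ⟨mul_mem (mul_mem hhB hx.1) (inv_mem hhB), fun y hy => ?_⟩
    rw [show ⁅h * x * h⁻¹, y⁆ = h * ⁅x, h⁻¹ * y * h⁆ * h⁻¹ by
      simp only [commutatorElement_def]; group]
    exact conj_mem hhB (hx.2 _ (inv_conj_mem hhA hy))
  refine mem_normalizer_of_conj (key hA hB) fun x hx => ?_
  have := key (inv_mem hA) (inv_mem hB) x hx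
  rwa [inv_inv] at this

theorem commutator_mem_of_normalizes {A : Subgroup X} {x y : X} (hx : x ∈ normalizer (A : Set X))
    (hy : y ∈ A) : ⁅x, y⁆ ∈ A :=
  mul_mem (conj_mem hx hy) (inv_mem hy)

variable [Finite X]

/-- **Coprime step**: if `[x, [x, y]] ∈ B` and the orders of `x` and `[x, y]` are coprime then
`[x, y] ∈ B`. -/
theorem commutator_mem_of_commutator_commutator_mem {B : Subgroup X} {x y : X}
    (hx : x ∈ normalizer (B : Set X)) (hy : y ∈ normalizer (B : Set X))
    (h : ⁅x, ⁅x, y⁆⁆ ∈ B) (hcop : (orderOf x).Coprime (orderOf ⁅x, y⁆)) : ⁅x, y⁆ ∈ B := by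
  set N := normalizer (B : Set X)
  have : (B.subgroupOf N).Normal := normal_in_normalizer
  set π := QuotientGroup.mk' (B.subgroupOf N)
  set c : N := ⁅(⟨x, hx⟩ : N), ⟨y, hy⟩⁆ with hc
  have hcval : (c : X) = ⁅x, y⁆ := rfl
  have h1 : π ⁅(⟨x, hx⟩ : N), c⁆ = 1 := (QuotientGroup.eq_one_iff _).2 h
  rw [map_commutatorElement, commutatorElement_eq_one_iff_mul_comm] at h1
  set a := π ⟨x, hx⟩
  set b := π ⟨y, hy⟩
  have h2 : π c = a * b * a⁻¹ * b⁻¹ := by rw [hc, map_commutatorElement, commutatorElement_def]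
  have h3 : ∀ j : ℕ, a ^ j * b * (a ^ j)⁻¹ = π c ^ j * b := by
    intro j
    induction j with
    | zero => simp
    | succ j ih =>
      calc a ^ (j + 1) * b * (a ^ (j + 1))⁻¹ = a * (a ^ j * b * (a ^ j)⁻¹) * a⁻¹ := by
            rw [pow_succ' a j]; group
        _ = a * π c ^ j * b * a⁻¹ := by rw [ih]; group
        _ = π c ^ j * a * b * a⁻¹ := by rw [(Commute.pow_right h1 j).eq]
        _ = π c ^ j * (π c * b) := by rw [h2]; group
        _ = π c ^ (j + 1) * b := by rw [pow_succ]; group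
  have h4 : π c ^ orderOf x = 1 := by
    have := h3 (orderOf x)
    have hax : a ^ orderOf x = 1 := by
      rw [← map_pow, show (⟨x, hx⟩ : N) ^ orderOf x = 1 from Subtype.ext (pow_orderOf_eq_one x), map_one]
    rw [hax, one_mul, inv_one, mul_one] at this
    exact mul_eq_right.1 this.symm
  have h5 : π c ^ orderOf ⁅x, y⁆ = 1 := by
    rw [← map_pow, show c ^ orderOf ⁅x, y⁆ = 1 from Subtype.ext (pow_orderOf_eq_one ⁅x, y⁆), map_one]
  have h6 := pow_gcd_eq_one.2 ⟨h4, h5⟩
  rw [hcop, pow_one] at h6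
  exact (QuotientGroup.eq_one_iff c).1 h6

theorem coprime_orderOf_of_isPGroup {p q : ℕ} (hp : p.Prime) (hq : q.Prime) (hpq : p ≠ q)
    {A B : Subgroup X} (hA : IsPGroup p A) (hB : IsPGroup q B) {x y : X} (hx : x ∈ A) (hy : y ∈ B) :
    (orderOf x).Coprime (orderOf y) := by
  have := Fact.mk hp
  have := Fact.mk hq
  obtain ⟨i, hi⟩ := IsPGroup.iff_orderOf.1 hA ⟨x, hx⟩
  obtain ⟨j, hj⟩ := IsPGroup.iff_orderOf.1 hB ⟨y, hy⟩
  rw [Subgroup.orderOf_mk] at hi hj
  rw [hi, hj]
  exact ((Nat.coprime_primes hp hq).2 hpq).pow i j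

/-- The coprime step for subgroups of relatively prime prime power orders. -/
theorem step_mem {p q : ℕ} (hp : p.Prime) (hq : q.Prime) (hpq : p ≠ q) {A B Q : Subgroup X}
    (hA : IsPGroup p A) (hQ : IsPGroup q Q) (hAB : A ≤ normalizer (B : Set X)) {x y : X}
    (hxQ : x ∈ Q) (hxA : x ∈ normalizer (A : Set X)) (hxB : x ∈ normalizer (B : Set X))
    (hy : y ∈ A) (h : ⁅x, ⁅x, y⁆⁆ ∈ B) : ⁅x, y⁆ ∈ B :=
  commutator_mem_of_commutator_commutator_mem hxB (hAB hy) h
    (coprime_orderOf_of_isPGroup hq hp (Ne.symm hpq) hQ hA hxQ (commutator_mem_of_normalizes hxA hy))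

/-- The penultimate term of a series, inside the ambient group. -/
theorem exists_penultimate {H : Subgroup X} {m : ℕ} (h : HasNilpotentSeries H (m + 1)) :
    ∃ N : Subgroup X, N ≤ H ∧ HasNilpotentSeries N m ∧
      ∀ x ∈ H, ∀ y ∈ H, (orderOf x).Coprime (orderOf y) → ⁅x, y⁆ ∈ N := by
  obtain ⟨F, h0, hl, hm, hn, hs⟩ := h
  set j₀ : Fin (m + 1 + 1) := (Fin.last m).castSucc
  set N := (F j₀).map H.subtype
  have hNH : N ≤ H := map_subtype_le _
  refine ⟨N, hNH, ⟨fun i => ((F i.castSucc).map H.subtype).subgroupOf N, ?_, ?_, ?_, ?_, ?_⟩, ?_⟩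
  · simp only [Fin.castSucc_zero, h0, Subgroup.map_bot, bot_subgroupOf]
  · exact subgroupOf_self _
  · exact fun i j hij => subgroupOf_mono _ (map_mono (hm (Fin.castSucc_le_castSucc_iff.2 hij)))
  · intro i
    refine normal_subgroupOf_of_le_normalizer fun x hx => ?_
    obtain ⟨x, _, rfl⟩ := hx
    have hnorm := hn i.castSucc
    refine mem_normalizer_of_conj ?_ ?_ <;> rintro _ ⟨z, hz, rfl⟩
    · exact ⟨x * z * x⁻¹, hnorm.conj_mem z hz x, by simp⟩
    · exact ⟨x⁻¹ * z * x, by simpa using hnorm.conj_mem z hz x⁻¹, by simp⟩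
  · intro i
    obtain ⟨k, hk⟩ := hs i.castSucc
    refine ⟨k, (Subgroup.map_le_map_iff_of_injective N.subtype_injective).1 ?_⟩
    have e : ∀ j : Fin (m + 1), (((F j.castSucc).map H.subtype).subgroupOf N).map N.subtype
        = (F j.castSucc).map H.subtype := fun j => by
      rw [subgroupOf_map_subtype]
      exact inf_eq_left.2 (map_mono (hm (Fin.castSucc_le_castSucc_iff.2 (Fin.le_last j))))
    show ((((F i.succ.castSucc).map H.subtype).subgroupOf N).lowerCentralSeries k).map N.subtype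
      ≤ (((F i.castSucc.castSucc).map H.subtype).subgroupOf N).map N.subtype
    rw [map_lowerCentralSeries, e, e, ← map_lowerCentralSeries, ← Fin.succ_castSucc]
    exact map_mono hk
  · intro x hx y hy hcop
    obtain ⟨k, hk⟩ := hs (Fin.last m)
    rw [Fin.succ_last, hl] at hk
    have hFn : (F j₀).Normal := hn j₀
    have hnil : Group.IsNilpotent (H ⧸ F j₀) := by
      refine (Group.isNilpotent_congr topEquiv).1
        ((isNilpotent_iff_lowerCentralSeries (⊤ : Subgroup (H ⧸ F j₀))).2 ⟨k, ?_⟩)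
      rw [← map_top_of_surjective _ (QuotientGroup.mk'_surjective (F j₀)), ← map_lowerCentralSeries,
        Subgroup.map_eq_bot_iff, QuotientGroup.ker_mk']
      exact hk
    set π := QuotientGroup.mk' (F j₀)
    have h1 : Commute (π ⟨x, hx⟩) (π ⟨y, hy⟩) := by
      refine CfsgLib.OddLocal.commute_of_coprime_of_isNilpotent hnil ?_
      refine (hcop.coprime_dvd_left ?_).coprime_dvd_right ?_
      · exact (orderOf_map_dvd π _).trans (Subgroup.orderOf_mk x hx).dvd
      · exact (orderOf_map_dvd π _).trans (Subgroup.orderOf_mk y hy).dvd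
    refine ⟨⁅(⟨x, hx⟩ : H), ⟨y, hy⟩⁆, (QuotientGroup.eq_one_iff _).1 ?_, rfl⟩
    show π _ = 1
    rw [map_commutatorElement, commutatorElement_eq_one_iff_mul_comm]
    exact h1.eq

/-- A chain of prime power subgroups with kernels. -/
structure WeakTower (H : Subgroup X) (p : ℕ → ℕ) (D KD : ℕ → Subgroup X) (m : ℕ) : Prop where
  le : ∀ k ≤ m, D k ≤ H
  prime : ∀ k ≤ m, (p k).Prime
  isP : ∀ k ≤ m, IsPGroup (p k) (D k)
  norm : ∀ k l, k ≤ l → l ≤ m → D l ≤ normalizer (D k : Set X) ⊓ normalizer (KD k : Set X)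
  ne : ∀ k < m, p k ≠ p (k + 1)
  not_le : ∀ k ≤ m, ¬ D k ≤ KD k
  cond : ∀ k < m, ∀ x ∈ D (k + 1), (∀ y ∈ D k, ⁅x, y⁆ ∈ KD k) → x ∈ KD (k + 1)

theorem WeakTower.prefix {H : Subgroup X} {p : ℕ → ℕ} {D KD : ℕ → Subgroup X} {m m' : ℕ}
    (h : WeakTower H p D KD m) (hm : m' ≤ m) : WeakTower H p D KD m' :=
  ⟨fun k hk => h.le k (hk.trans hm), fun k hk => h.prime k (hk.trans hm),
    fun k hk => h.isP k (hk.trans hm), fun k l hkl hl => h.norm k l hkl (hl.trans hm),
    fun k hk => h.ne k (hk.trans_le hm), fun k hk => h.not_le k (hk.trans hm),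
    fun k hk => h.cond k (hk.trans_le hm)⟩

/-- A weak tower with `m + 1` terms forbids a nilpotent series of length `m`. -/
theorem WeakTower.not_hasNilpotentSeries : ∀ {m : ℕ} {H : Subgroup X} {p : ℕ → ℕ}
    {D KD : ℕ → Subgroup X}, WeakTower H p D KD m → ¬ HasNilpotentSeries H m := by
  intro m
  induction m with
  | zero =>
    rintro H p D KD h ⟨F, h0, hl, -⟩
    rw [show Fin.last 0 = 0 from rfl, h0] at hl
    have : Subsingleton H := Subgroup.subsingleton_iff.1 (subsingleton_of_bot_eq_top hl)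
    refine h.not_le 0 le_rfl fun x hx => ?_
    rw [show x = 1 from congrArg Subtype.val (Subsingleton.elim (⟨x, h.le 0 le_rfl hx⟩ : H) 1)]
    exact one_mem _
  | succ m ih =>
    intro H p D KD h hser
    obtain ⟨N, -, hN, hcomm⟩ := exists_penultimate hser
    have hkey : ∀ k ≤ m, ∀ x ∈ D (k + 1), ∀ y ∈ D k, ⁅x, y⁆ ∈ D k ⊓ N := fun k hk x hx y hy =>
      ⟨commutator_mem_of_normalizes (h.norm k (k + 1) (by omega) (by omega) hx).1 hy,
        hcomm x (h.le (k + 1) (by omega) hx) y (h.le k (by omega) hy)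
          (coprime_orderOf_of_isPGroup (h.prime _ (by omega)) (h.prime k (by omega))
            (h.ne k (by omega)).symm (h.isP _ (by omega)) (h.isP k (by omega)) hx hy)⟩
    refine ih (p := p) (D := fun k => D k ⊓ N) (KD := KD) ⟨fun k _ => inf_le_right,
      fun k hk => h.prime k (by omega), fun k hk => (h.isP k (by omega)).to_le inf_le_left,
      fun k l hkl hl x hx => ?_, fun k hk => h.ne k (by omega), fun k hk hle => ?_,
      fun k hk x hx hxy => ?_⟩ hN
    · obtain ⟨h1, h2⟩ := h.norm k l hkl (by omega) hx.1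
      exact ⟨mem_normalizer_inf h1 (le_normalizer hx.2), h2⟩
    · exact h.not_le (k + 1) (by omega) fun x hx =>
        h.cond k (by omega) x hx fun y hy => hle (hkey k hk x hx y hy)
    · refine h.cond k (by omega) x hx.1 fun y hy => ?_
      obtain ⟨h1, h2⟩ := h.norm k (k + 1) (by omega) (by omega) hx.1
      exact step_mem (h.prime k (by omega)) (h.prime _ (by omega)) (h.ne k (by omega))
        (h.isP k (by omega)) (h.isP _ (by omega)) (fun z hz => (h.norm k k le_rfl (by omega) hz).2)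
        hx.1 h1 h2 hy (hxy _ (hkey k (by omega) x hx.1 y hy))

end CfsgLib.CoprimeHeight
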